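import Cfsg.Agent.Lib.ShortPresSLn.Pres

/-!
# Presentations of glued pairs of groups
-/

set_option autoImplicit false

namespace Cfsg.Agent.Lib.ShortPresSU

open ShortPresSLn (HasPres)

/-- A finite group which is the largest quotient of `A * B` by finitely many relations. -/
theorem hasPres_of_coprod {a b r s : ℕ} {A B H : Type*} [Group A] [Group B] [Group H] [Finite H]
    (hA : HasPres a r A) (hB : HasPres b s B) (i : A →* H) (j : B →* H) (l : List (Monoid.Coprod A B))
    (hrel : ∀ w ∈ l, Monoid.Coprod.lift i j w = 1) (hgen : i.range ⊔ j.range = ⊤)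
    (hquot : ∀ (G : Type) [Group G] (α : A →* G) (β : B →* G), (∀ w ∈ l, Monoid.Coprod.lift α β w = 1) →
      α.range ⊔ β.range = ⊤ → ∃ f : H →* G, Function.Surjective f) :
    HasPres (a + b) (r + s + l.length) H := by
  classical
  obtain ⟨RA, hRA, ⟨eA⟩⟩ := hA
  obtain ⟨RB, hRB, ⟨eB⟩⟩ := hB
  let v : Fin (a + b) → Monoid.Coprod A B := Fin.addCases (fun x => Monoid.Coprod.inl (eA (PresentedGroup.of x)))
    (fun x => Monoid.Coprod.inr (eB (PresentedGroup.of x)))
  let φ : FreeGroup (Fin (a + b)) →* Monoid.Coprod A B := FreeGroup.lift v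
  let ιA : FreeGroup (Fin a) →* FreeGroup (Fin (a + b)) := FreeGroup.map (Fin.castAdd b)
  let ιB : FreeGroup (Fin b) →* FreeGroup (Fin (a + b)) := FreeGroup.map (Fin.natAdd a)
  have hφA : φ.comp ιA = (Monoid.Coprod.inl.comp eA.toMonoidHom).comp (PresentedGroup.mk _) :=
    FreeGroup.ext_hom _ _ fun x => by
      simp only [MonoidHom.comp_apply, φ, ιA, FreeGroup.map.of, FreeGroup.lift_apply_of, v, Fin.addCases_left]
      rfl
  have hφB : φ.comp ιB = (Monoid.Coprod.inr.comp eB.toMonoidHom).comp (PresentedGroup.mk _) :=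
    FreeGroup.ext_hom _ _ fun x => by
      simp only [MonoidHom.comp_apply, φ, ιB, FreeGroup.map.of, FreeGroup.lift_apply_of, v, Fin.addCases_right]
      rfl
  have hsur : Function.Surjective φ := by
    rw [← MonoidHom.range_eq_top, eq_top_iff, ← Monoid.Coprod.range_inl_sup_range_inr]
    refine sup_le ?_ ?_
    · rintro _ ⟨x, rfl⟩
      obtain ⟨w, hw⟩ := PresentedGroup.mk_surjective _ (eA.symm x)
      exact ⟨ιA w, by rw [← MonoidHom.comp_apply, hφA, MonoidHom.comp_apply, hw]; simp⟩
    · rintro _ ⟨x, rfl⟩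
      obtain ⟨w, hw⟩ := PresentedGroup.mk_surjective _ (eB.symm x)
      exact ⟨ιB w, by rw [← MonoidHom.comp_apply, hφB, MonoidHom.comp_apply, hw]; simp⟩
  choose ww hww using hsur
  obtain ⟨R, hR⟩ : ∃ R : Finset (FreeGroup (Fin (a + b))), R = RA.image ιA ∪ RB.image ιB ∪ (l.map ww).toFinset :=
    ⟨_, rfl⟩
  refine ⟨R, ?_, ?_⟩
  · rw [hR]; refine (Finset.card_union_le _ _).trans (Nat.add_le_add ((Finset.card_union_le _ _).trans
      (Nat.add_le_add (Finset.card_image_le.trans hRA) (Finset.card_image_le.trans hRB))) ?_)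
    exact (List.toFinset_card_le _).trans (by simp)
  let P := PresentedGroup (↑R : Set (FreeGroup (Fin (a + b))))
  have hA' : ∀ x ∈ (↑RA : Set (FreeGroup (Fin a))), (PresentedGroup.mk (↑R : Set (FreeGroup (Fin (a + b))))).comp ιA x = 1 := fun x hx =>
    PresentedGroup.one_of_mem (by simp [hR]; exact Or.inl ⟨x, hx, rfl⟩)
  have hB' : ∀ x ∈ (↑RB : Set (FreeGroup (Fin b))), (PresentedGroup.mk (↑R : Set (FreeGroup (Fin (a + b))))).comp ιB x = 1 := fun x hx =>
    PresentedGroup.one_of_mem (by simp [hR]; exact Or.inr (Or.inl ⟨x, hx, rfl⟩))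
  have hA'' : ∀ x ∈ (↑RA : Set (FreeGroup (Fin a))),
      FreeGroup.lift (fun y => (PresentedGroup.of (Fin.castAdd b y) : P)) x = 1 := fun x hx => by
    rw [show FreeGroup.lift (fun y => (PresentedGroup.of (Fin.castAdd b y) : P)) =
      (PresentedGroup.mk _).comp ιA from FreeGroup.ext_hom _ _ fun y => by simp [ιA]; rfl]
    exact hA' x hx
  have hB'' : ∀ x ∈ (↑RB : Set (FreeGroup (Fin b))),
      FreeGroup.lift (fun y => (PresentedGroup.of (Fin.natAdd a y) : P)) x = 1 := fun x hx => by
    rw [show FreeGroup.lift (fun y => (PresentedGroup.of (Fin.natAdd a y) : P)) =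
      (PresentedGroup.mk _).comp ιB from FreeGroup.ext_hom _ _ fun y => by simp [ιB]; rfl]
    exact hB' x hx
  let α : A →* P := (PresentedGroup.toGroup hA'').comp eA.symm.toMonoidHom
  let β : B →* P := (PresentedGroup.toGroup hB'').comp eB.symm.toMonoidHom
  have hmk : (Monoid.Coprod.lift α β).comp φ = PresentedGroup.mk (↑R : Set (FreeGroup (Fin (a + b)))) := by
    refine FreeGroup.ext_hom _ _ fun x => ?_
    simp only [MonoidHom.comp_apply, φ, FreeGroup.lift_apply_of, v]
    refine Fin.addCases (fun y => ?_) (fun y => ?_) x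
    · rw [Fin.addCases_left, Monoid.Coprod.lift_apply_inl]
      simp only [α, MonoidHom.comp_apply, MulEquiv.coe_toMonoidHom, MulEquiv.symm_apply_apply,
        PresentedGroup.toGroup.of]
      rfl
    · rw [Fin.addCases_right, Monoid.Coprod.lift_apply_inr]
      simp only [β, MonoidHom.comp_apply, MulEquiv.coe_toMonoidHom, MulEquiv.symm_apply_apply,
        PresentedGroup.toGroup.of]
      rfl
  have hl : ∀ w ∈ l, Monoid.Coprod.lift α β w = 1 := fun w hw => by
    rw [← hww w, ← MonoidHom.comp_apply, hmk]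
    exact PresentedGroup.one_of_mem (by simp [hR]; exact Or.inr (Or.inr ⟨w, hw, rfl⟩))
  have htop : α.range ⊔ β.range = ⊤ := by
    rw [← Monoid.Coprod.range_lift, MonoidHom.range_eq_top]
    intro y
    obtain ⟨w, rfl⟩ := PresentedGroup.mk_surjective _ y
    exact ⟨φ w, by rw [← MonoidHom.comp_apply, hmk]⟩
  obtain ⟨f, hf⟩ := hquot P α β hl htop
  let u : Fin (a + b) → H := fun x => Monoid.Coprod.lift i j (v x)
  have hu : FreeGroup.lift u = (Monoid.Coprod.lift i j).comp φ := FreeGroup.ext_hom _ _ fun x => by simp [u, φ]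
  have h1 : ∀ x ∈ (↑R : Set (FreeGroup (Fin (a + b)))), FreeGroup.lift u x = 1 := by
    intro x hx
    rw [hu, MonoidHom.comp_apply]
    simp only [hR, Finset.coe_union, Finset.coe_image, Set.mem_union, Set.mem_image, List.coe_toFinset,
      List.mem_map, Set.mem_setOf_eq] at hx
    rcases hx with (⟨y, hy, rfl⟩ | ⟨y, hy, rfl⟩) | ⟨y, hy, rfl⟩
    · rw [← MonoidHom.comp_apply φ, hφA, MonoidHom.comp_apply, PresentedGroup.one_of_mem hy, map_one, map_one]
    · rw [← MonoidHom.comp_apply φ, hφB, MonoidHom.comp_apply, PresentedGroup.one_of_mem hy, map_one, map_one]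
    · rw [hww]; exact hrel y hy
  have hs : Function.Surjective (PresentedGroup.toGroup h1) := by
    intro y
    obtain ⟨w, hw⟩ : ∃ w, Monoid.Coprod.lift i j w = y := by
      have : y ∈ (Monoid.Coprod.lift i j).range := by rw [Monoid.Coprod.range_lift, hgen]; exact Subgroup.mem_top y
      exact this
    refine ⟨PresentedGroup.mk _ (ww w), ?_⟩
    show FreeGroup.lift u (ww w) = y
    rw [hu, MonoidHom.comp_apply, hww, hw]
  haveI : Finite P := Finite.of_surjective f hf
  exact ⟨MulEquiv.ofBijective (PresentedGroup.toGroup h1) ((Nat.bijective_iff_surjective_and_card _).2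
    ⟨hs, le_antisymm (Nat.card_le_card_of_surjective f hf) (Nat.card_le_card_of_surjective _ hs)⟩)⟩

end Cfsg.Agent.Lib.ShortPresSU
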