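import Cfsg.Agent.Lib.ShortPresSU.Emb

/-!
# Two generators of `SU₂` adapted to the gluing
-/

set_option autoImplicit false
set_option linter.unusedSectionVars false

namespace Cfsg.Agent.Lib.ShortPresSU

open Matrix Cfsg.Agent.Lib.Unitary

variable {F : Type*} [Field F] [Fintype F] {q : ℕ}

/-- The norm-one elements are powers of one of them. -/
theorem exists_norm_gen (hF : Fintype.card F = q ^ 2) :
    ∃ δ : F, δ * δ ^ q = 1 ∧ ∀ z : F, z * z ^ q = 1 → ∃ k : ℕ, z = δ ^ k := by
  let N1 : Subgroup Fˣ :=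
    { carrier := {u | (u : F) * (u : F) ^ q = 1}
      one_mem' := by simp
      mul_mem' := fun {a b} ha hb => by
        simp only [Set.mem_setOf_eq, Units.val_mul, mul_pow] at ha hb ⊢
        linear_combination ((b : F) * (b : F) ^ q) * ha + hb
      inv_mem' := fun {a} ha => by
        simp only [Set.mem_setOf_eq] at ha ⊢
        rw [Units.val_inv_eq_inv_val, inv_pow, ← mul_inv, ha, inv_one] }
  obtain ⟨g, hg⟩ := IsCyclic.exists_monoid_generator (α := N1)
  refine ⟨((g : Fˣ) : F), g.2, fun z hz => ?_⟩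
  have hz0 : z ≠ 0 := fun h => by rw [h, zero_mul] at hz; exact zero_ne_one hz
  obtain ⟨k, hk⟩ := Submonoid.mem_powers_iff _ _ |>.1 (hg ⟨Units.mk0 z hz0, hz⟩)
  exact ⟨k, by
    have := congrArg (fun u : N1 => ((u : Fˣ) : F)) hk
    simpa using this.symm⟩

/-- Norm-one elements are `α^{q-1}`. -/
theorem exists_hilbert (hF : Fintype.card F = q ^ 2) {u : F} (hu : u * u ^ q = 1) :
    ∃ α : F, α ≠ 0 ∧ α ^ q = u * α := by
  classical
  have h1q := one_lt_q hF
  by_cases h : ∃ t : F, t + u ^ q * t ^ q ≠ 0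
  · obtain ⟨t, ht⟩ := h
    refine ⟨t + u ^ q * t ^ q, ht, ?_⟩
    rw [add_pow_q hF, mul_pow, pow_q_q hF, pow_q_q hF]
    linear_combination (-(t ^ q)) * hu
  push Not at h
  have h1 := h 1
  rw [one_pow, mul_one] at h1
  have hfix : ∀ t : F, t ^ q = t := fun t => by linear_combination -(h t) + t ^ q * h1
  have := card_fixed (F := F) hF
  rw [Nat.card_eq_fintype_card, Fintype.card_congr (Equiv.subtypeUnivEquiv hfix), hF, sq] at this
  nlinarith

/-- The diagonal subgroup and one more element generate `SU₂`. -/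
theorem exists_pair_gen_three (hF : Fintype.card F = q ^ 2) (hq : 3 ≤ q) :
    ∃ (x : Cfsg.SU 2 F q) (δ : F) (hδ : δ * δ ^ q = 1), Subgroup.closure {x, diag2 hF hδ} = ⊤ := by
  classical
  have h1q := one_lt_q hF
  obtain ⟨δ, hδ, hgen⟩ := exists_norm_gen hF
  obtain ⟨α₁, hα1, hα1q⟩ := exists_hilbert hF (u := -δ) (by rw [neg_pow_q hF]; linear_combination hδ)
  obtain ⟨r, hr, hr0, hr1⟩ : ∃ r : F, r ^ q = r ∧ r ≠ 0 ∧ r * r * (α₁ * α₁ ^ q) ≠ 1 := by
    by_cases h : α₁ * α₁ ^ q = 1
    · have hq4 : 4 ≤ q := by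
        by_contra hlt
        have hq3 : q = 3 := by omega
        subst hq3
        -- then `δ` would have order two
        have hsq : α₁ * α₁ = -δ := mul_left_cancel₀ hα1 (by linear_combination hα1q)
        have e1 : δ * δ = 1 := by linear_combination h - (α₁ * α₁ - δ) * hsq
        have hz : ∀ z : F, z * z ^ 3 = 1 → z = 1 ∨ z = δ := fun z hz => by
          obtain ⟨k, rfl⟩ := hgen z hz
          rcases Nat.even_or_odd k with ⟨j, rfl⟩ | ⟨j, rfl⟩
          · left; rw [← two_mul, pow_mul, pow_two, e1, one_pow]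
          · right; rw [pow_succ, pow_mul, pow_two, e1, one_pow, one_mul]
        have := card_norm_fibre hF (d := (1 : F)) (one_pow 3)
        rw [if_neg one_ne_zero, Nat.card_eq_fintype_card, Fintype.card_subtype] at this
        have hle := Finset.card_le_card (s := Finset.univ.filter fun z : F => z * z ^ 3 = 1) (t := {1, δ})
          (fun z hz' => by simpa using hz z (Finset.mem_filter.1 hz').2)
        have := hle.trans Finset.card_le_two
        omega
      have hq' : (Finset.univ.filter fun v : F => v ^ q = v).card = q := by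
        rw [← Fintype.card_subtype, ← Nat.card_eq_fintype_card]; exact card_fixed hF
      obtain ⟨r, hr, hr'⟩ := Finset.exists_mem_notMem_of_card_lt_card
        (s := ({0, 1, -1} : Finset F)) (t := Finset.univ.filter fun v : F => v ^ q = v)
        (by rw [hq']; exact lt_of_le_of_lt Finset.card_le_three (by omega))
      simp only [Finset.mem_filter, Finset.mem_univ, true_and] at hr
      simp only [Finset.mem_insert, Finset.mem_singleton, not_or] at hr'
      refine ⟨r, hr, hr'.1, ?_⟩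
      rw [h, mul_one]
      intro e
      have : (r - 1) * (r + 1) = 0 := by linear_combination e
      rcases mul_eq_zero.1 this with e | e
      · exact hr'.2.1 (by linear_combination e)
      · exact hr'.2.2 (by linear_combination e)
    · exact ⟨1, one_pow q, one_ne_zero, by simpa using h⟩
  set α₀ : F := r * α₁ with hα₀def
  have hα0q : α₀ ^ q = -δ * α₀ := by rw [hα₀def, mul_pow, hr, hα1q]; ring
  have hN : α₀ * α₀ ^ q ≠ 1 := by
    rw [hα₀def, mul_pow, hr, show r * α₁ * (r * α₁ ^ q) = r * r * (α₁ * α₁ ^ q) by ring]; exact hr1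
  obtain ⟨β₀, hβ⟩ := norm_surj hF (y := 1 - α₀ * α₀ ^ q)
    (by rw [sub_pow_q hF, one_pow, norm_pow_q hF])
  have hb0 : β₀ ≠ 0 := fun h => by
    rw [h, zero_mul] at hβ
    exact hN (by linear_combination hβ)
  have ha0 : α₀ ≠ 0 := mul_ne_zero hr0 hα1
  have h0 : α₀ * α₀ ^ q + β₀ * β₀ ^ q = 1 := by linear_combination hβ
  have h01 : (0 : Fin 2) ≠ 1 := by decide
  set K := Subgroup.closure {R2 hF h01 α₀ β₀ h0, diag2 hF hδ} with hK
  refine ⟨R2 hF h01 α₀ β₀ h0, δ, hδ, ?_⟩
  have hx : R2 hF h01 α₀ β₀ h0 ∈ K := Subgroup.subset_closure (Or.inl rfl)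
  have hD : ∀ z h, R2 hF h01 z 0 h ∈ K := by
    have hpow : ∀ k : ℕ, ∀ h, R2 hF h01 (δ ^ k) 0 h ∈ K := by
      intro k
      induction k with
      | zero =>
        intro h
        convert one_mem K using 1
        rw [← R2_one hF h01]
        exact R2_congr hF h01 _ _ (pow_zero δ) rfl
      | succ k ih =>
        intro h
        have hk : δ ^ k * (δ ^ k) ^ q + (0 : F) * (0 : F) ^ q = 1 := by
          rw [zero_mul, add_zero, ← pow_mul, mul_comm k, pow_mul, ← mul_pow, hδ, one_pow]
        have := mul_mem (ih hk) (Subgroup.subset_closure (Or.inr rfl) : diag2 hF hδ ∈ K)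
        rw [diag2, R2_mul] at this
        convert this using 1
        exact R2_congr hF h01 _ _ (by rw [zero_mul, sub_zero, pow_succ]) (by simp)
    intro z h
    obtain ⟨k, rfl⟩ := hgen z (by simpa using h)
    exact hpow k h
  have hxinv : ∀ h, R2 hF h01 (α₀ ^ q) (-β₀) h ∈ K := by
    intro h
    have e : R2 hF h01 α₀ β₀ h0 * R2 hF h01 (α₀ ^ q) (-β₀) h = 1 := by
      rw [R2_mul, ← R2_one hF h01]
      refine R2_congr hF h01 _ _ ?_ ?_
      · rw [neg_pow_q hF]; linear_combination h0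
      · rw [pow_q_q hF]; ring
    rw [← inv_eq_of_mul_eq_one_right e]
    exact inv_mem hx
  rw [eq_top_iff]
  refine le_trans (show (⊤ : Subgroup (Cfsg.SU 2 F q)) ≤ Plane q 0 1 from fun g _ k h1 h2 => ?_) (plane_le hF h01 h0 ha0 hb0 hD fun ζ hζ h => ?_)
  · fin_cases k <;> simp at h1 h2
  obtain ⟨k, rfl⟩ := hgen ζ hζ
  have hpn : ∀ m : ℕ, δ ^ m * (δ ^ m) ^ q = 1 := fun m => by
    rw [← pow_mul, mul_comm m, pow_mul, ← mul_pow, hδ, one_pow]
  rcases Nat.even_or_odd k with ⟨j, hj⟩ | ⟨j, hj⟩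
  · have hz := hpn j
    have hzq : (δ ^ j) ^ q * ((δ ^ j) ^ q) ^ q = 1 := by rw [pow_q_q hF, mul_comm]; exact hz
    have := mul_mem (mul_mem (hD (δ ^ j) (diag_cond hF hz)) hx) (hD ((δ ^ j) ^ q) (diag_cond hF hzq))
    rw [R2_mul, R2_mul] at this
    convert this using 1
    refine R2_congr hF h01 _ _ ?_ ?_
    · simp only [zero_mul, sub_zero, add_zero, zero_pow_q hF, mul_zero]
      linear_combination (-α₀) * hz
    · simp only [zero_mul, sub_zero, add_zero, mul_zero, zero_add, pow_q_q hF]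
      rw [hj, pow_add]; ring
  · have hz := hpn j
    have hz2 : (δ ^ j) ^ q * -(δ ^ q) * ((δ ^ j) ^ q * -(δ ^ q)) ^ q = 1 := by
      rw [mul_pow, neg_pow_q hF, pow_q_q hF, pow_q_q hF]
      linear_combination (δ * δ ^ q) * hz + hδ
    have := mul_mem (mul_mem (hD (δ ^ j) (diag_cond hF hz)) (hxinv (by
      rw [neg_pow_q hF, pow_q_q hF]; linear_combination h0)))
      (hD ((δ ^ j) ^ q * -(δ ^ q)) (diag_cond hF hz2))
    rw [R2_mul, R2_mul] at this
    convert this using 1
    refine R2_congr hF h01 _ _ ?_ ?_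
    · simp only [zero_mul, sub_zero, add_zero, zero_pow_q hF, mul_zero]
      rw [hα0q]
      linear_combination (-(δ * δ ^ q) * α₀) * hz - α₀ * hδ
    · simp only [zero_mul, sub_zero, add_zero, mul_zero, zero_add, mul_pow, neg_pow_q hF, pow_q_q hF]
      rw [hj, pow_succ, two_mul, pow_add]; ring

/-- The case used for `q ≥ 4`. -/
theorem exists_pair_gen (hF : Fintype.card F = q ^ 2) (hq : 4 ≤ q) :
    ∃ (x : Cfsg.SU 2 F q) (δ : F) (hδ : δ * δ ^ q = 1), Subgroup.closure {x, diag2 hF hδ} = ⊤ :=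
  exists_pair_gen_three hF (by omega)

/-- The same for `q = 2`, where the planes are monomial. -/
theorem exists_pair_gen_two (hF : Fintype.card F = 2 ^ 2) :
    ∃ (x : Cfsg.SU 2 F 2) (δ : F) (hδ : δ * δ ^ 2 = 1), Subgroup.closure {x, diag2 hF hδ} = ⊤ := by
  classical
  obtain ⟨δ, hδ, hgen⟩ := exists_norm_gen hF
  have h01 : (0 : Fin 2) ≠ 1 := by decide
  have hx : (0 : F) * (0 : F) ^ 2 + (1 : F) * (1 : F) ^ 2 = 1 := by ring
  set K := Subgroup.closure {R2 hF h01 0 1 hx, diag2 hF hδ} with hK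
  refine ⟨R2 hF h01 0 1 hx, δ, hδ, eq_top_iff.2 fun g _ => ?_⟩
  obtain ⟨α, β, h, rfl⟩ := eq_R2 hF h01 (g := g) (fun k h1 h2 => by fin_cases k <;> simp at h1 h2)
  have hD : ∀ (k : ℕ) (hk : δ ^ k * (δ ^ k) ^ 2 + (0 : F) * (0 : F) ^ 2 = 1), R2 hF h01 (δ ^ k) 0 hk ∈ K := by
    intro k
    induction k with
    | zero =>
      intro hk
      convert one_mem K using 1
      rw [← R2_one hF h01]
      exact R2_congr hF h01 _ _ (pow_zero δ) rfl
    | succ k ih =>
      intro hk
      have hk0 : δ ^ k * (δ ^ k) ^ 2 + (0 : F) * (0 : F) ^ 2 = 1 := by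
        rw [zero_mul, add_zero, ← pow_mul, mul_comm k, pow_mul, ← mul_pow, hδ, one_pow]
      have := mul_mem (ih hk0) (Subgroup.subset_closure (Or.inr rfl) : diag2 hF hδ ∈ K)
      rw [diag2, R2_mul] at this
      convert this using 1
      exact R2_congr hF h01 _ _ (by rw [zero_mul, sub_zero, pow_succ]) (by simp)
  have h3 : ∀ z : F, z ≠ 0 → z * z ^ 2 = 1 := fun z hz => by
    have := FiniteField.pow_card_sub_one_eq_one z hz
    rw [hF] at this
    linear_combination this
  by_cases hb : β = 0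
  · subst hb
    obtain ⟨k, rfl⟩ := hgen α (by simpa using h)
    exact hD k h
  · have ha : α = 0 := by
      by_contra ha
      rw [h3 α ha, h3 β hb] at h
      exact one_ne_zero (α := F) (by linear_combination h)
    subst ha
    obtain ⟨k, rfl⟩ := hgen β (h3 β hb)
    have hk : δ ^ k * (δ ^ k) ^ 2 + (0 : F) * (0 : F) ^ 2 = 1 := by
      rw [zero_mul, add_zero]; exact h3 _ hb
    have := mul_mem (hD k hk) (Subgroup.subset_closure (Or.inl rfl) : R2 hF h01 0 1 hx ∈ K)
    rw [R2_mul] at this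
    convert this using 1
    exact R2_congr hF h01 _ _ (by simp) (by simp)

end Cfsg.Agent.Lib.ShortPresSU
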