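import Cfsg.Agent.Lib.ShortPresSU.Windows
import Cfsg.Agent.Lib.ShortPresSU.PairGen
import Cfsg.Agent.Lib.ShortPresSU.Coprod

/-!
# Short presentations of `SU_n`, part 6: the presentation for `q ≥ 4`
-/

set_option autoImplicit false
set_option linter.unusedSectionVars false

namespace Cfsg.Agent.Lib.ShortPresSU

open Matrix Cfsg.Agent.Lib.Unitary Cfsg.Agent.Lib.Phan
open ShortPresSLn (HasPres)

/-- The stabiliser of the first pair in `A_{m+2}` is a copy of `Sym(m)`. -/
theorem exists_stab_hom {n m : ℕ} (h : n = 2 + m) :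
    ∃ ι : Equiv.Perm (Fin m) →* alternatingGroup (Fin n),
      (∀ π, Set.range (pr (show 2 ≤ n by omega) (ι π : Equiv.Perm (Fin n))) =
        Set.range (pr (show 2 ≤ n by omega) 1)) ∧
      ∀ τ : alternatingGroup (Fin n), Set.range (pr (show 2 ≤ n by omega) (τ : Equiv.Perm (Fin n))) =
        Set.range (pr (show 2 ≤ n by omega) 1) → ∃ π, ι π = τ := by
  classical
  subst h
  have hbij : Function.Bijective (Equiv.Perm.sign : Equiv.Perm (Fin 2) →* ℤˣ) := by
    rw [Fintype.bijective_iff_injective_and_card]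
    exact ⟨by decide, by decide⟩
  let s2 : Equiv.Perm (Fin 2) ≃* ℤˣ := MulEquiv.ofBijective _ hbij
  let e : Fin 2 ⊕ Fin m ≃ Fin (2 + m) := finSumFinEquiv
  let f : Equiv.Perm (Fin m) →* Equiv.Perm (Fin (2 + m)) :=
    e.permCongrHom.toMonoidHom.comp ((Equiv.Perm.sumCongrHom (Fin 2) (Fin m)).comp
      ((s2.symm.toMonoidHom.comp Equiv.Perm.sign).prod (MonoidHom.id _)))
  have hf : ∀ π x, f π x = e (Sum.map (s2.symm (Equiv.Perm.sign π)) π (e.symm x)) := fun π x => by
    simp [f, Equiv.Perm.sumCongrHom, Equiv.permCongrHom, Equiv.permCongr_apply]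
  have hsign : ∀ π, f π ∈ alternatingGroup (Fin (2 + m)) := fun π => by
    rw [Equiv.Perm.mem_alternatingGroup]
    show Equiv.Perm.sign (e.permCongr (Equiv.Perm.sumCongr (s2.symm (Equiv.Perm.sign π)) π)) = 1
    rw [Equiv.Perm.sign_permCongr, Equiv.Perm.sign_sumCongr]
    rw [show Equiv.Perm.sign (s2.symm (Equiv.Perm.sign π)) = Equiv.Perm.sign π from s2.apply_symm_apply _]
    exact Int.units_mul_self _
  refine ⟨f.codRestrict _ hsign, fun π => ?_, fun τ hτ => ?_⟩
  · have hpr : ∀ j : Fin 2, pr (show 2 ≤ 2 + m by omega) (f π) j =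
        pr (show 2 ≤ 2 + m by omega) 1 ((s2.symm (Equiv.Perm.sign π)) j) := fun j => by
      show f π (first (show 2 ≤ 2 + m by omega) j) = first (show 2 ≤ 2 + m by omega) (s2.symm (Equiv.Perm.sign π) j)
      rw [hf, show first (show 2 ≤ 2 + m by omega) j = e (Sum.inl j) from Fin.ext (by simp [e]),
        Equiv.symm_apply_apply, Sum.map_inl]
      exact Fin.ext (by simp [e])
    show Set.range (pr (show 2 ≤ 2 + m by omega) (f π)) = _
    rw [show (⇑(pr (show 2 ≤ 2 + m by omega) (f π)) : Fin 2 → Fin (2 + m)) =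
        (pr (show 2 ≤ 2 + m by omega) 1) ∘ (s2.symm (Equiv.Perm.sign π)) from funext hpr,
      Function.Surjective.range_comp (Equiv.surjective _)]
  · obtain ⟨⟨a, b⟩, hab⟩ := Equiv.Perm.mem_sumCongrHom_range_of_perm_mapsTo_inl
      (σ := e.symm.permCongr (τ : Equiv.Perm (Fin (2 + m)))) (by
        rintro x ⟨j, rfl⟩
        have hmem : (τ : Equiv.Perm (Fin (2 + m))) (e (Sum.inl j)) ∈ Set.range (pr (show 2 ≤ 2 + m by omega) 1) :=
          hτ ▸ ⟨j, congrArg (τ : Equiv.Perm (Fin (2 + m))) (Fin.ext (by simp [e]))⟩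
        obtain ⟨j', hj'⟩ := hmem
        refine ⟨j', ?_⟩
        rw [Equiv.permCongr_apply, Equiv.symm_symm, Equiv.eq_symm_apply, ← hj']
        exact Fin.ext (by simp [e, pr]))
    refine ⟨b, Subtype.ext ?_⟩
    have hτe : (τ : Equiv.Perm (Fin (2 + m))) = e.permCongr (Equiv.Perm.sumCongr a b) := by
      rw [show Equiv.Perm.sumCongr a b = e.symm.permCongr (τ : Equiv.Perm (Fin (2 + m))) from hab]
      ext x; simp [Equiv.permCongr_apply]
    show e.permCongr (Equiv.Perm.sumCongr (s2.symm (Equiv.Perm.sign b)) b) = _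
    have hs := Equiv.Perm.mem_alternatingGroup.1 τ.2
    rw [hτe, Equiv.Perm.sign_permCongr, Equiv.Perm.sign_sumCongr, mul_eq_one_iff_eq_inv,
      Int.units_inv_eq_self] at hs
    rw [hτe, ← hs, show s2.symm (Equiv.Perm.sign a) = a from s2.symm_apply_apply a]

/-- Generators of the stabiliser of the first pair. -/
theorem exists_stab_gens {n : ℕ} (hn : 4 ≤ n) :
    ∃ Z : List (alternatingGroup (Fin n)), Z.length ≤ (if n = 4 then 1 else 2) ∧
      (∀ z ∈ Z, Set.range (pr (show 2 ≤ n by omega) (z : Equiv.Perm (Fin n))) =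
        Set.range (pr (show 2 ≤ n by omega) 1)) ∧
      ∀ τ : alternatingGroup (Fin n), Set.range (pr (show 2 ≤ n by omega) (τ : Equiv.Perm (Fin n))) =
        Set.range (pr (show 2 ≤ n by omega) 1) → τ ∈ Subgroup.closure {z | z ∈ Z} := by
  classical
  obtain ⟨m, rfl⟩ : ∃ m, n = 2 + (m + 2) := ⟨n - 4, by omega⟩
  obtain ⟨ι, hι, hsurj⟩ := exists_stab_hom (n := 2 + (m + 2)) rfl
  obtain ⟨L, hL, hgen⟩ : ∃ L : List (Equiv.Perm (Fin (m + 2))), L.length ≤ (if 2 + (m + 2) = 4 then 1 else 2) ∧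
      Subgroup.closure {z | z ∈ L} = ⊤ := by
    rcases Nat.eq_zero_or_pos m with rfl | hm
    · refine ⟨[Equiv.swap 0 1], by simp, eq_top_iff.2 fun x _ => ?_⟩
      have hx : ∀ x : Equiv.Perm (Fin 2), x = 1 ∨ x = Equiv.swap 0 1 := by decide
      rcases hx x with rfl | rfl
      · exact one_mem _
      · exact Subgroup.subset_closure (List.mem_singleton_self _)
    · refine ⟨[finRotate (m + 2), Equiv.swap 0 (finRotate (m + 2) 0)], by rw [if_neg (by omega)]; simp, ?_⟩
      rw [show {z | z ∈ [finRotate (m + 2), Equiv.swap 0 (finRotate (m + 2) 0)]} =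
          ({finRotate (m + 2), Equiv.swap 0 (finRotate (m + 2) 0)} : Set (Equiv.Perm (Fin (m + 2)))) by ext; simp]
      exact Equiv.Perm.closure_cycle_adjacent_swap isCycle_finRotate support_finRotate 0
  refine ⟨L.map ι, by simpa using hL, fun z hz => ?_, fun τ hτ => ?_⟩
  · obtain ⟨π, -, rfl⟩ := List.mem_map.1 hz
    exact hι π
  · obtain ⟨π, rfl⟩ := hsurj τ hτ
    have := Subgroup.mem_map_of_mem ι (show π ∈ Subgroup.closure {z | z ∈ L} by rw [hgen]; exact Subgroup.mem_top π)
    rw [MonoidHom.map_closure] at this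
    refine Subgroup.closure_mono ?_ this
    rintro _ ⟨z, hz, rfl⟩
    exact List.mem_map.2 ⟨z, hz, rfl⟩

variable {F : Type*} [Field F] [Fintype F] {q n : ℕ}

/-- `SU_n` from `A_n` and `SU₃`. -/
theorem hasPres_glue (hF : Fintype.card F = q ^ 2) (hn : 4 ≤ n) (hq : 4 ≤ q) {a r b s : ℕ}
    (hA : HasPres a r (alternatingGroup (Fin n))) (hB : HasPres b s (Cfsg.SU 3 F q)) :
    HasPres (a + b) (r + s + (3 + 2 * (if n = 4 then 1 else 2))) (Cfsg.SU n F q) := by
  classical
  haveI : Finite (Cfsg.SU n F q) := inferInstance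
  have h2 : 2 ≤ n := by omega
  have h3 : 3 ≤ n := by omega
  have h23 : (2 : ℕ) ≤ 3 := by omega
  obtain ⟨x, δ, hδ, hxd⟩ := exists_pair_gen hF hq
  obtain ⟨Z, hZlen, hZstab, hZgen⟩ := exists_stab_gens hn
  let c : alternatingGroup (Fin n) := ⟨(rot3 : Equiv.Perm (Fin 3)).viaFintypeEmbedding (first h3), by
    rw [Equiv.Perm.mem_alternatingGroup, Equiv.Perm.viaFintypeEmbedding_sign]
    exact Equiv.Perm.mem_alternatingGroup.1 rot3.2⟩
  have hc_in : ∀ j, (c : Equiv.Perm (Fin n)) (first h3 j) = first h3 (finRotate 3 j) := fun j =>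
    Equiv.Perm.viaFintypeEmbedding_apply_image _ _ j
  have hc_out : ∀ i, (∀ j, first h3 j ≠ i) → (c : Equiv.Perm (Fin n)) i = i := fun i hi =>
    Equiv.Perm.viaFintypeEmbedding_apply_notMem_range _ _ (by rintro ⟨j, hj⟩; exact hi j hj)
  have h02 : (⟨0, by omega⟩ : Fin n) ≠ ⟨2, by omega⟩ := by simp
  have h13 : (⟨1, by omega⟩ : Fin n) ≠ ⟨3, by omega⟩ := by simp
  let σ : alternatingGroup (Fin n) := ⟨Equiv.swap ⟨0, by omega⟩ ⟨2, by omega⟩ * Equiv.swap ⟨1, by omega⟩ ⟨3, by omega⟩,
    Equiv.Perm.mem_alternatingGroup.2 (by rw [map_mul, Equiv.Perm.sign_swap h02, Equiv.Perm.sign_swap h13]; rfl)⟩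
  have hσ0 : (σ : Equiv.Perm (Fin n)) ⟨0, by omega⟩ = ⟨2, by omega⟩ := by
    simp [σ, Equiv.swap_apply_def, Fin.ext_iff]
  have hσ1 : (σ : Equiv.Perm (Fin n)) ⟨1, by omega⟩ = ⟨3, by omega⟩ := by
    simp [σ, Equiv.swap_apply_def, Fin.ext_iff]
  have hσσ : σ * σ = 1 := by
    refine Subtype.ext (Equiv.ext fun i => ?_)
    show Equiv.swap _ _ (Equiv.swap _ _ (Equiv.swap _ _ (Equiv.swap _ _ i))) = i
    simp only [Equiv.swap_apply_def]
    split_ifs <;> simp_all [Fin.ext_iff]
  have hre : ∀ (z : alternatingGroup (Fin n)) (h : Cfsg.SU 2 F q), ∃ h', z ∈ Z →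
      emb (pr h2 (z : Equiv.Perm (Fin n))) h = emb (pr h2 1) h' := fun z h => by
    by_cases hz : z ∈ Z
    · obtain ⟨h', e⟩ := exists_reorient hF (pr h2 (z : Equiv.Perm (Fin n))) (pr h2 1) (hZstab z hz).symm h
      exact ⟨h', fun _ => e.symm⟩
    · exact ⟨1, fun hz' => absurd hz' hz⟩
  choose rh hrh using hre
  let e01 : Cfsg.SU 2 F q →* Cfsg.SU 3 F q := emb (first h23)
  let A0 : alternatingGroup (Fin n) →* Monoid.Coprod (alternatingGroup (Fin n)) (Cfsg.SU 3 F q) := Monoid.Coprod.inl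
  let B0 : Cfsg.SU 3 F q →* Monoid.Coprod (alternatingGroup (Fin n)) (Cfsg.SU 3 F q) := Monoid.Coprod.inr
  let relc := A0 c * (B0 (permSU hF rot3))⁻¹
  let relz := fun (z : alternatingGroup (Fin n)) (h : Cfsg.SU 2 F q) =>
    A0 z * B0 (e01 h) * (A0 z)⁻¹ * (B0 (e01 (rh z h)))⁻¹
  let relx := fun (h : Cfsg.SU 2 F q) =>
    B0 (e01 x) * (A0 σ * B0 (e01 h) * (A0 σ)⁻¹) * (B0 (e01 x))⁻¹ * (A0 σ * B0 (e01 h) * (A0 σ)⁻¹)⁻¹
  let l := relc :: (Z.flatMap fun z => [relz z x, relz z (diag2 hF hδ)]) ++ [relx x, relx (diag2 hF hδ)]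
  have hlen : l.length ≤ 3 + 2 * (if n = 4 then 1 else 2) := by
    simp only [l, List.length_append, List.length_cons, List.length_nil, List.length_flatMap, List.map_const',
      List.sum_replicate, smul_eq_mul]
    omega
  refine (hasPres_of_coprod hA hB (permSU hF) (emb (first h3)) l ?_ ?_ ?_).mono (by omega)
  · -- the relations hold
    intro w hw
    simp only [l, List.mem_append, List.mem_cons, List.mem_flatMap, List.not_mem_nil, or_false] at hw
    have hz : ∀ z ∈ Z, ∀ h, Monoid.Coprod.lift (permSU hF) (emb (first h3)) (relz z h) = 1 := fun z hz h => by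
      simp only [relz, A0, B0, e01, map_mul, map_inv, Monoid.Coprod.lift_apply_inl, Monoid.Coprod.lift_apply_inr]
      rw [emb_trans, emb_trans, permSU_conj_emb, mul_inv_eq_one]
      exact (show emb (pr h2 (z : Equiv.Perm (Fin n))) h = emb (pr h2 1) (rh z h) from hrh z h hz)
    have hx : ∀ h, Monoid.Coprod.lift (permSU hF) (emb (first h3)) (relx h) = 1 := fun h => by
      simp only [relx, A0, B0, e01, map_mul, map_inv, Monoid.Coprod.lift_apply_inl, Monoid.Coprod.lift_apply_inr]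
      rw [mul_inv_eq_one, mul_inv_eq_iff_eq_mul, emb_trans, emb_trans, permSU_conj_emb]
      refine emb_apply_comm _ _ (fun i j e => ?_) x h
      simp only [Function.Embedding.trans_apply, Equiv.coe_toEmbedding] at e
      fin_cases j
      · rw [show first h3 (first h23 ((fun i => i) ⟨0, by omega⟩)) = (⟨0, by omega⟩ : Fin n) from rfl, hσ0] at e
        have := congrArg Fin.val e
        simp at this
        omega
      · rw [show first h3 (first h23 ((fun i => i) ⟨1, by omega⟩)) = (⟨1, by omega⟩ : Fin n) from rfl, hσ1] at e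
        have := congrArg Fin.val e
        simp at this
        omega
    rcases hw with (rfl | ⟨z, hz', rfl | rfl⟩) | rfl | rfl
    · simp only [relc, A0, B0, map_mul, map_inv, Monoid.Coprod.lift_apply_inl, Monoid.Coprod.lift_apply_inr]
      rw [mul_inv_eq_one]
      exact permSU_eq_emb hF (first h3) c rot3 hc_in hc_out
    · exact hz z hz' x
    · exact hz z hz' _
    · exact hx x
    · exact hx _
  · -- generation
    rw [eq_top_iff, ← gen_windows hF h3]
    refine iSup₂_le fun i hi => ?_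
    rintro _ ⟨g, rfl⟩
    obtain ⟨u, π, he⟩ := exists_window h3 i hi
    rw [win_eq hi, ← he, ← permSU_conj_emb hF, ← emb_trans]
    exact mul_mem (mul_mem (Subgroup.mem_sup_left ⟨u, rfl⟩) (Subgroup.mem_sup_right ⟨_, rfl⟩))
      (inv_mem (Subgroup.mem_sup_left ⟨u, rfl⟩))
  · intro G _ α β hl hG
    have hl' : ∀ w ∈ l, Monoid.Coprod.lift α β w = 1 := hl
    simp only [l, List.mem_append, List.mem_cons, List.mem_flatMap, List.not_mem_nil, or_false] at hl'
    let W : Glue hF hn G :=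
      { α := α, β := β, x := x, δ := δ, hδ := hδ, gen := hxd, c := c, c_in := hc_in, c_out := hc_out
        hc := by
          have := hl' relc (Or.inl (Or.inl rfl))
          simpa [relc, A0, B0, mul_inv_eq_one] using this
        Z := {z | z ∈ Z}
        hZ := hZgen
        hrel := fun z hz h hh => by
          refine ⟨rh z h, hrh z h hz, ?_⟩
          have : Monoid.Coprod.lift α β (relz z h) = 1 := by
            rcases hh with rfl | rfl
            · exact hl' _ (Or.inl (Or.inr ⟨z, hz, Or.inl rfl⟩))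
            · exact hl' _ (Or.inl (Or.inr ⟨z, hz, Or.inr rfl⟩))
          simpa [relz, A0, B0, e01, mul_inv_eq_one] using this
        σ := σ, σ0 := hσ0, σ1 := hσ1, σσ := hσσ
        hcomm := fun h hh => by
          have : Monoid.Coprod.lift α β (relx h) = 1 := by
            rcases hh with rfl | rfl
            · exact hl' _ (Or.inr (Or.inl rfl))
            · exact hl' _ (Or.inr (Or.inr rfl))
          simp only [relx, A0, B0, e01, map_mul, map_inv, Monoid.Coprod.lift_apply_inl,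
            Monoid.Coprod.lift_apply_inr, mul_inv_eq_one, mul_inv_eq_iff_eq_mul] at this
          rw [one_mul] at this
          exact this }
    obtain ⟨f, hf, -⟩ := W.exists_surj hq hG
    exact ⟨f, hf⟩

end Cfsg.Agent.Lib.ShortPresSU
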