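import Cfsg.Agent.Lib.ShortPresSU.Block
import Cfsg.Agent.Lib.ShortPresSU.Main

/-!
# Extending even permutations, and the stabiliser of the first triple
-/

set_option autoImplicit false
set_option linter.unusedSectionVars false

namespace Cfsg.Agent.Lib.ShortPresSU

open Matrix Cfsg.Agent.Lib.Unitary Cfsg.Agent.Lib.Phan

theorem sign_viaEmbedding {k n : ℕ} (ι : Fin k ↪ Fin n) (σ : Equiv.Perm (Fin k)) :
    Equiv.Perm.sign (σ.viaEmbedding ι) = Equiv.Perm.sign σ := by
  classical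
  rw [Equiv.Perm.viaEmbedding]
  convert Equiv.Perm.sign_extendDomain σ (Equiv.ofInjective ι ι.injective) <;> rfl

/-- Even permutations of the first coordinates, extended. -/
noncomputable def extA {k n : ℕ} (h : k ≤ n) : alternatingGroup (Fin k) →* alternatingGroup (Fin n) :=
  ((Equiv.Perm.viaEmbeddingHom (first h)).comp (alternatingGroup (Fin k)).subtype).codRestrict _ fun σ =>
    Equiv.Perm.mem_alternatingGroup.2 ((sign_viaEmbedding (first h) σ).trans (Equiv.Perm.mem_alternatingGroup.1 σ.2))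

theorem extA_in {k n : ℕ} (h : k ≤ n) (σ : alternatingGroup (Fin k)) (j : Fin k) :
    (extA h σ : Equiv.Perm (Fin n)) (first h j) = first h ((σ : Equiv.Perm (Fin k)) j) :=
  Equiv.Perm.viaEmbedding_apply _ (first h) j

theorem extA_out {k n : ℕ} (h : k ≤ n) (σ : alternatingGroup (Fin k)) (i : Fin n) (hi : ∀ j, first h j ≠ i) :
    (extA h σ : Equiv.Perm (Fin n)) i = i :=
  Equiv.Perm.viaEmbedding_apply_of_notMem _ (first h) i (by rintro ⟨j, hj⟩; exact hi j hj)

theorem permSU_extA {F : Type*} [Field F] [Fintype F] {q k n : ℕ} (hF : Fintype.card F = q ^ 2) (h : k ≤ n)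
    (σ : alternatingGroup (Fin k)) : permSU hF (extA h σ) = emb (first h) (permSU hF σ) :=
  permSU_eq_emb hF (first h) _ σ (extA_in h σ) (extA_out h σ)

theorem mv'_extA {j k n : ℕ} (hj : j ≤ k) (h : k ≤ n) (σ : alternatingGroup (Fin k)) :
    mv' (hj.trans h) (extA h σ) = (mv' hj σ).trans (first h) :=
  DFunLike.ext _ _ fun i => extA_in h σ (first hj i)

theorem rot3_pow : ∀ σ : Equiv.Perm (Fin 3), Equiv.Perm.sign σ = 1 →
    ∃ i : Fin 3, ((rot3 ^ i.val : alternatingGroup (Fin 3)) : Equiv.Perm (Fin 3)) = σ := by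
  decide +kernel

/-- The parity carrier on the first triple. -/
def flip3 (s : ℤˣ) : Equiv.Perm (Fin 3) := if s = 1 then 1 else Equiv.swap 0 1

theorem sign_flip3 : ∀ s : ℤˣ, Equiv.Perm.sign (flip3 s) = s := by decide

theorem flip3_mul : ∀ s t : ℤˣ, flip3 (s * t) = flip3 s * flip3 t := by decide

/-- Generators of the stabiliser of the first triple. -/
theorem exists_triple_gens {n : ℕ} (hn : 5 ≤ n) :
    ∃ Z : List (alternatingGroup (Fin n)), Z.length ≤ (if n = 5 then 1 else 2) ∧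
      (∀ z ∈ Z, Set.range (mv' (show 3 ≤ n by omega) z) = Set.range (first (show 3 ≤ n by omega))) ∧
      ∀ τ : alternatingGroup (Fin n), Set.range (mv' (show 3 ≤ n by omega) τ) =
        Set.range (first (show 3 ≤ n by omega)) →
        τ ∈ Subgroup.closure (insert (extA (show 3 ≤ n by omega) rot3) {z | z ∈ Z}) := by
  classical
  obtain ⟨m, rfl⟩ : ∃ m, n = 3 + (m + 2) := ⟨n - 5, by omega⟩
  have h3 : 3 ≤ 3 + (m + 2) := by omega
  let e : Fin 3 ⊕ Fin (m + 2) ≃ Fin (3 + (m + 2)) := finSumFinEquiv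
  let fl : Equiv.Perm (Fin (m + 2)) →* Equiv.Perm (Fin 3) :=
    MonoidHom.mk' (fun b => flip3 (Equiv.Perm.sign b)) fun a b => by rw [map_mul, flip3_mul]
  let f : Equiv.Perm (Fin (m + 2)) →* Equiv.Perm (Fin (3 + (m + 2))) :=
    e.permCongrHom.toMonoidHom.comp ((Equiv.Perm.sumCongrHom (Fin 3) (Fin (m + 2))).comp
      (fl.prod (MonoidHom.id _)))
  have hsign : ∀ π, f π ∈ alternatingGroup (Fin (3 + (m + 2))) := fun π => by
    rw [Equiv.Perm.mem_alternatingGroup]
    show Equiv.Perm.sign (e.permCongr (Equiv.Perm.sumCongr (flip3 (Equiv.Perm.sign π)) π)) = 1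
    rw [Equiv.Perm.sign_permCongr, Equiv.Perm.sign_sumCongr, sign_flip3, Int.units_mul_self]
  let ι : Equiv.Perm (Fin (m + 2)) →* alternatingGroup (Fin (3 + (m + 2))) := f.codRestrict _ hsign
  have he : ∀ j : Fin 3, first h3 j = e (Sum.inl j) := fun j => Fin.ext (by simp [e])
  have hι : ∀ π, Set.range (mv' h3 (ι π)) = Set.range (first h3) := fun π => by
    have : (⇑(mv' h3 (ι π)) : Fin 3 → _) = (first h3) ∘ (flip3 (Equiv.Perm.sign π)) := funext fun j => by
      show e.permCongr (Equiv.Perm.sumCongr (flip3 (Equiv.Perm.sign π)) π) (first h3 j) = first h3 _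
      rw [he, he, Equiv.permCongr_apply, Equiv.symm_apply_apply]
      rfl
    rw [this, (Equiv.surjective _).range_comp]
  obtain ⟨L, hL, hgen⟩ : ∃ L : List (Equiv.Perm (Fin (m + 2))), L.length ≤ (if 3 + (m + 2) = 5 then 1 else 2) ∧
      Subgroup.closure {z | z ∈ L} = ⊤ := by
    rcases Nat.eq_zero_or_pos m with rfl | hm
    · refine ⟨[Equiv.swap 0 1], by simp, eq_top_iff.2 fun x _ => ?_⟩
      have hx : ∀ x : Equiv.Perm (Fin 2), x = 1 ∨ x = Equiv.swap 0 1 := by decide
      rcases hx x with rfl | rfl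
      · exact one_mem _
      · exact Subgroup.subset_closure (List.mem_singleton_self _)
    · refine ⟨[finRotate (m + 2), Equiv.swap 0 (finRotate (m + 2) 0)], by rw [if_neg (by omega)]; simp, ?_⟩
      rw [show {z | z ∈ [finRotate (m + 2), Equiv.swap 0 (finRotate (m + 2) 0)]} =
          ({finRotate (m + 2), Equiv.swap 0 (finRotate (m + 2) 0)} : Set (Equiv.Perm (Fin (m + 2)))) by ext; simp]
      exact Equiv.Perm.closure_cycle_adjacent_swap isCycle_finRotate support_finRotate 0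
  refine ⟨L.map ι, by simpa using hL, fun z hz => ?_, fun τ hτ => ?_⟩
  · obtain ⟨π, -, rfl⟩ := List.mem_map.1 hz
    exact hι π
  set H := Subgroup.closure (insert (extA h3 rot3) {z | z ∈ L.map ι})
  obtain ⟨⟨a, b⟩, hab⟩ := Equiv.Perm.mem_sumCongrHom_range_of_perm_mapsTo_inl
    (σ := e.symm.permCongr (τ : Equiv.Perm (Fin (3 + (m + 2))))) (by
      rintro x ⟨j, rfl⟩
      have hmem : (τ : Equiv.Perm (Fin (3 + (m + 2)))) (e (Sum.inl j)) ∈ Set.range (first h3) :=
        hτ ▸ ⟨j, congrArg (τ : Equiv.Perm (Fin (3 + (m + 2)))) (he j)⟩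
      obtain ⟨j', hj'⟩ := hmem
      refine ⟨j', ?_⟩
      rw [Equiv.permCongr_apply, Equiv.symm_symm, Equiv.eq_symm_apply, ← hj', he])
  have hτe : (τ : Equiv.Perm (Fin (3 + (m + 2)))) = e.permCongr (Equiv.Perm.sumCongr a b) := by
    rw [show Equiv.Perm.sumCongr a b = e.symm.permCongr (τ : Equiv.Perm (Fin (3 + (m + 2)))) from hab]
    ext x; simp [Equiv.permCongr_apply]
  have hs := Equiv.Perm.mem_alternatingGroup.1 τ.2
  rw [hτe, Equiv.Perm.sign_permCongr, Equiv.Perm.sign_sumCongr] at hs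
  obtain ⟨i, hi⟩ := rot3_pow (a * (flip3 (Equiv.Perm.sign b))⁻¹) (by
    rw [map_mul, map_inv, sign_flip3, Int.units_inv_eq_self, hs])
  have hdec : τ = extA h3 (rot3 ^ i.val) * ι b := by
    refine Subtype.ext (Equiv.ext fun x => ?_)
    rw [Subgroup.coe_mul, Equiv.Perm.mul_apply]
    show (τ : Equiv.Perm (Fin (3 + (m + 2)))) x =
      (extA h3 (rot3 ^ i.val) : Equiv.Perm _) (e.permCongr (Equiv.Perm.sumCongr (flip3 (Equiv.Perm.sign b)) b) x)
    obtain ⟨y, rfl⟩ := e.surjective x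
    rw [hτe, Equiv.permCongr_apply, Equiv.permCongr_apply, Equiv.symm_apply_apply]
    rcases y with j | j
    · rw [Equiv.Perm.sumCongr_apply, Equiv.Perm.sumCongr_apply, Sum.map_inl, Sum.map_inl, ← he, ← he, extA_in, hi]
      simp
    · rw [Equiv.Perm.sumCongr_apply, Equiv.Perm.sumCongr_apply, Sum.map_inr, Sum.map_inr, extA_out]
      intro j' hj'
      rw [he, e.injective.eq_iff] at hj'
      cases hj'
  rw [hdec]
  refine mul_mem ?_ ?_
  · rw [map_pow]; exact pow_mem (Subgroup.subset_closure (Set.mem_insert _ _)) _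
  · have := Subgroup.mem_map_of_mem ι (show b ∈ Subgroup.closure {z | z ∈ L} by rw [hgen]; exact Subgroup.mem_top b)
    rw [MonoidHom.map_closure] at this
    refine Subgroup.closure_mono ?_ this
    rintro _ ⟨z, hz, rfl⟩
    exact Or.inr (List.mem_map.2 ⟨z, hz, rfl⟩)

/-- Two generators of `A₄`. -/
theorem closure_alt_four : ∃ a b : alternatingGroup (Fin 4), Subgroup.closure {a, b} = ⊤ := by
  let g : Fin 2 → alternatingGroup (Fin 4) :=
    ![⟨⟨![1, 2, 0, 3], ![2, 0, 1, 3], by decide, by decide⟩, Equiv.Perm.mem_alternatingGroup.2 (by decide)⟩,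
      ⟨⟨![1, 3, 2, 0], ![3, 0, 2, 1], by decide, by decide⟩, Equiv.Perm.mem_alternatingGroup.2 (by decide)⟩]
  refine ⟨g 0, g 1, eq_top_iff.2 fun y _ => ?_⟩
  have hall : ∀ y : alternatingGroup (Fin 4), ∃ i : Fin 3, ∃ j : Fin 3, ∃ k : Fin 3, ∃ l : Fin 3,
      (g 0 ^ i.val * g 1 ^ j.val * (g 0 ^ k.val * g 1 ^ l.val)) = y := by
    decide +kernel
  obtain ⟨i, j, k, l, rfl⟩ := hall y
  have h0 : g 0 ∈ Subgroup.closure {g 0, g 1} := Subgroup.subset_closure (Or.inl rfl)
  have h1 : g 1 ∈ Subgroup.closure {g 0, g 1} := Subgroup.subset_closure (Or.inr rfl)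
  exact mul_mem (mul_mem (pow_mem h0 _) (pow_mem h1 _)) (mul_mem (pow_mem h0 _) (pow_mem h1 _))

end Cfsg.Agent.Lib.ShortPresSU
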