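import Cfsg.Agent.Lib.ShortPresSLn.Carmichael
import Cfsg.Agent.Lib.ShortPresSLn.Pres
import Cfsg.Agent.Lib.Spectrum.A5Presentation

/-!
# Two-generator presentations of `A₄` and `A₅` with three relations
-/

set_option autoImplicit false

namespace Cfsg.Agent.Lib.ShortPresSU

open ShortPresSLn (HasPres CarmRel)

/-- `A₄`. -/
theorem hasPres_alt_four : HasPres 2 3 (alternatingGroup (Fin 4)) := by
  classical
  let a : FreeGroup (Fin 2) := FreeGroup.of 0
  let b : FreeGroup (Fin 2) := FreeGroup.of 1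
  let R : Finset (FreeGroup (Fin 2)) := {a ^ 3, b ^ 3, (a * b) ^ 2}
  refine ⟨R, Finset.card_le_three, ?_⟩
  let P := PresentedGroup (↑R : Set (FreeGroup (Fin 2)))
  let x : ℕ → P := fun i => PresentedGroup.of (if i = 0 then 0 else 1)
  have hrel : ∀ w ∈ R, PresentedGroup.mk (↑R : Set (FreeGroup (Fin 2))) w = 1 := fun w hw =>
    PresentedGroup.one_of_mem hw
  have hba : PresentedGroup.mk (↑R : Set (FreeGroup (Fin 2))) ((b * a) ^ 2) = 1 := by
    rw [show (b * a) ^ 2 = a⁻¹ * ((a * b) ^ 2) * a by simp [pow_two, mul_assoc], map_mul, map_mul,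
      hrel ((a * b) ^ 2) (by simp [R]), map_inv, mul_one, inv_mul_cancel]
  have hx : CarmRel 2 x := by
    constructor
    · intro i hi
      interval_cases i
      · show PresentedGroup.mk _ (a ^ 3) = 1
        exact hrel _ (by simp [R])
      · show PresentedGroup.mk _ (b ^ 3) = 1
        exact hrel _ (by simp [R])
    · intro i hi j hj h
      interval_cases i <;> interval_cases j <;> try contradiction
      · show PresentedGroup.mk _ ((a * b) ^ 2) = 1
        exact hrel _ (by simp [R])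
      · show PresentedGroup.mk _ ((b * a) ^ 2) = 1
        exact hba
  obtain ⟨hfin, hcard⟩ := hx.finite_and_card_le
  have htop : Subgroup.closure {g | ∃ i < 2, g = x i} = ⊤ := by
    rw [eq_top_iff, ← PresentedGroup.closure_range_of, Subgroup.closure_le]
    rintro _ ⟨i, rfl⟩
    refine Subgroup.subset_closure ⟨i.val, i.isLt, ?_⟩
    fin_cases i <;> rfl
  rw [htop] at hfin hcard
  haveI : Finite P := Finite.of_equiv _ Subgroup.topEquiv.toEquiv
  rw [Nat.card_congr Subgroup.topEquiv.toEquiv] at hcard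
  let g : Fin 2 → alternatingGroup (Fin 4) :=
    ![⟨⟨![1, 2, 0, 3], ![2, 0, 1, 3], by decide, by decide⟩, Equiv.Perm.mem_alternatingGroup.2 (by decide)⟩,
      ⟨⟨![1, 3, 2, 0], ![3, 0, 2, 1], by decide, by decide⟩, Equiv.Perm.mem_alternatingGroup.2 (by decide)⟩]
  have hg : ∀ w ∈ (↑R : Set (FreeGroup (Fin 2))), FreeGroup.lift g w = 1 := by
    intro w hw
    simp only [R, Finset.coe_insert, Finset.coe_singleton, Set.mem_insert_iff, Set.mem_singleton_iff] at hw
    rcases hw with rfl | rfl | rfl <;>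
      simp only [a, b, map_pow, map_mul, FreeGroup.lift_apply_of] <;>
      apply Subtype.ext <;> simp only [pow_succ, pow_zero, Subgroup.coe_mul, Subgroup.coe_one] <;>
      apply Equiv.ext <;> decide +kernel
  have hs : Function.Surjective (PresentedGroup.toGroup hg) := by
    intro y
    have hall : ∀ y : alternatingGroup (Fin 4), ∃ i : Fin 3, ∃ j : Fin 3, ∃ k : Fin 3, ∃ l : Fin 3,
        (g 0 ^ i.val * g 1 ^ j.val * (g 0 ^ k.val * g 1 ^ l.val)) = y := by
      decide +kernel
    obtain ⟨i, j, k, l, rfl⟩ := hall y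
    exact ⟨PresentedGroup.of 0 ^ i.val * PresentedGroup.of 1 ^ j.val *
      (PresentedGroup.of 0 ^ k.val * PresentedGroup.of 1 ^ l.val), by simp [PresentedGroup.toGroup.of]⟩
  refine ⟨MulEquiv.ofBijective (PresentedGroup.toGroup hg) ((Nat.bijective_iff_surjective_and_card _).2
    ⟨hs, le_antisymm ?_ (Nat.card_le_card_of_surjective _ hs)⟩)⟩
  rw [nat_card_alternatingGroup, Nat.card_fin]
  have h24 : (Nat.factorial 4) = 24 := rfl
  have hc : 2 * Nat.card P ≤ 24 := h24 ▸ hcard
  show Nat.card P ≤ Nat.factorial 4 / 2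
  omega

/-- `A₅`. -/
theorem hasPres_alt_five : HasPres 2 3 (alternatingGroup (Fin 5)) := by
  classical
  obtain ⟨e⟩ := Spectrum.TinyEnum.presentation_a5
  refine ⟨{FreeGroup.of (0 : Fin 2) ^ 3, FreeGroup.of (1 : Fin 2) ^ 5,
    (FreeGroup.of (0 : Fin 2) * FreeGroup.of 1) ^ 2}, Finset.card_le_three, ?_⟩
  rw [show (↑({FreeGroup.of (0 : Fin 2) ^ 3, FreeGroup.of (1 : Fin 2) ^ 5,
    (FreeGroup.of (0 : Fin 2) * FreeGroup.of 1) ^ 2} : Finset (FreeGroup (Fin 2))) : Set (FreeGroup (Fin 2))) =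
      Spectrum.TinyEnum.triRels by simp [Spectrum.TinyEnum.triRels]]
  exact ⟨e⟩

end Cfsg.Agent.Lib.ShortPresSU
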