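import Cfsg.Agent.Lib.ShortPresSU.Concrete
import Cfsg.Agent.Lib.ShortPresSLn.Pres
import Cfsg.Agent.Lib.Phan.Gen

/-!
# Presentations of `SU₃(q)` and `SU₄(q)` from certificates
-/

set_option autoImplicit false
set_option linter.unusedSectionVars false

namespace Cfsg.Agent.Lib.ShortPresSU.Base

open Matrix Cfsg.Agent.Lib.Unitary Cfsg.Agent.Lib.Phan
open ShortPresSLn (HasPres)
open CosetEnum (force allBelow allBelow_iff)
open Conc (K dec decM decV moves isOne GensOK BasisOK letter act_of_moves val_eq_one)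

/-- A letter as an element of the free group: even letters are generators, odd ones their inverses. -/
def lt (m g : ℕ) : FreeGroup (Fin m) :=
  if h : g / 2 < m then (if g % 2 = 0 then FreeGroup.of ⟨g / 2, h⟩ else (FreeGroup.of ⟨g / 2, h⟩)⁻¹) else 1

/-- The relators of a word list. -/
def rels (m : ℕ) (words : List (List ℕ)) (nfree : ℕ) : List (FreeGroup (Fin m)) :=
  ((words.take nfree).drop (2 * m)).map (Cert.val (lt m))

theorem map_lt {G : Type*} [Group G] {m : ℕ} (f : FreeGroup (Fin m) →* G) (φ : ℕ → G)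
    (hev : ∀ i : Fin m, f (FreeGroup.of i) = φ (2 * i.val))
    (hodd : ∀ i : Fin m, φ (2 * i.val + 1) = (φ (2 * i.val))⁻¹) (w : List ℕ) (hw : ∀ g ∈ w, g < 2 * m) :
    f (Cert.val (lt m) w) = Cert.val φ w := by
  induction w with
  | nil => simp [Cert.val]
  | cons g w ih =>
    show f (lt m g * Cert.val (lt m) w) = φ g * Cert.val φ w
    rw [map_mul, ih fun x hx => hw x (List.mem_cons_of_mem _ hx)]
    congr 1
    have hg : g / 2 < m := by have := hw g List.mem_cons_self; omega
    rw [lt, dif_pos hg]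
    rcases Nat.mod_two_eq_zero_or_one g with h | h
    · rw [if_pos h, hev]; congr 1; show 2 * (g / 2) = g; omega
    · rw [if_neg (by omega), map_inv, hev, ← hodd]; congr 1; show 2 * (g / 2) + 1 = g; omega

/-- The letters in a presented group. -/
def pl {m : ℕ} (R : Set (FreeGroup (Fin m))) (g : ℕ) : PresentedGroup R := PresentedGroup.mk R (lt m g)

theorem pl_even {m : ℕ} (R : Set (FreeGroup (Fin m))) (i : Fin m) :
    pl R (2 * i.val) = PresentedGroup.of i := by
  rw [pl, lt, dif_pos (show 2 * i.val / 2 < m by omega), if_pos (by omega)]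
  congr 2
  exact Fin.ext (by simp)

theorem pl_odd {m : ℕ} (R : Set (FreeGroup (Fin m))) (i : Fin m) :
    pl R (2 * i.val + 1) = (PresentedGroup.of i : PresentedGroup R)⁻¹ := by
  rw [pl, lt, dif_pos (show (2 * i.val + 1) / 2 < m by omega), if_neg (by omega), map_inv]
  congr 3
  exact Fin.ext (by simp; omega)

/-- The bound from a certificate. -/
theorem presented_card_le {m : ℕ} {R : List (FreeGroup (Fin m))} {d : Cert.Tab} {words : List (List ℕ)}
    {nfree : ℕ} (hR : R = rels m words nfree) (hK : d.K = 2 * m) (hc : Cert.check d words nfree = true)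
    (hlt : ∀ w ∈ words, ∀ g ∈ w, g < 2 * m) (hfree : ∀ k < 2 * m, words.getD k [] = [k, if k % 2 = 0 then k + 1 else k - 1])
    (hn : nfree ≤ words.length) (h2 : 2 * m ≤ nfree) (H : Subgroup (PresentedGroup {r | r ∈ R})) [Finite H]
    (hsub : ∀ k, nfree ≤ k → k < words.length → Cert.val (pl {r | r ∈ R}) (words.getD k []) ∈ H) :
    Finite (PresentedGroup {r | r ∈ R}) ∧ Nat.card (PresentedGroup {r | r ∈ R}) ≤ d.N * Nat.card H := by
  classical
  have hone : ∀ k < nfree, Cert.val (pl {r | r ∈ R}) (words.getD k []) = 1 := by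
    intro k hk
    rcases Nat.lt_or_ge k (2 * m) with hk2 | hk2
    · rw [hfree k hk2]
      have hm : k / 2 < m := by omega
      have e := (show k = 2 * (⟨k / 2, hm⟩ : Fin m).val ∨ k = 2 * (⟨k / 2, hm⟩ : Fin m).val + 1 by
        show k = 2 * (k / 2) ∨ k = 2 * (k / 2) + 1; omega)
      rcases e with e | e
      · rw [if_pos (by omega)]
        simp only [Cert.val, List.map_cons, List.map_nil, List.prod_cons, List.prod_nil, mul_one]
        rw [e, pl_even, pl_odd, mul_inv_cancel]
      · rw [if_neg (by omega)]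
        simp only [Cert.val, List.map_cons, List.map_nil, List.prod_cons, List.prod_nil, mul_one]
        rw [e, pl_odd, Nat.add_sub_cancel, pl_even, inv_mul_cancel]
    · have hkl : k < words.length := lt_of_lt_of_le hk hn
      rw [← map_lt (PresentedGroup.mk {r | r ∈ R}) (pl {r | r ∈ R}) (fun i => (pl_even _ i).symm)
        (fun i => by rw [pl_odd, pl_even]) _ (by rw [List.getD_eq_getElem _ _ hkl]; exact hlt _ (List.getElem_mem hkl))]
      refine PresentedGroup.one_of_mem (show _ ∈ R from ?_)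
      rw [hR, rels, List.mem_map]
      refine ⟨_, ?_, rfl⟩
      rw [List.getD_eq_getElem _ _ hkl, List.mem_iff_getElem]
      refine ⟨k - 2 * m, by simp; omega, ?_⟩
      simp only [List.getElem_drop, List.getElem_take]
      congr 1
      omega
  refine Cert.card_le hc hone (fun k hk => ?_) (fun g hg => ?_) ?_
  · rcases Nat.lt_or_ge k nfree with h | h
    · rw [hone k h]; exact one_mem _
    · exact hsub k h hk
  · rw [hK] at hg ⊢
    have hm : g / 2 < m := by omega
    rcases Nat.mod_two_eq_zero_or_one g with h | h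
    · refine ⟨g + 1, by omega, ?_⟩
      rw [show g + 1 = 2 * (⟨g / 2, hm⟩ : Fin m).val + 1 by show g + 1 = 2 * (g / 2) + 1; omega, pl_odd,
        ← pl_even, show 2 * (⟨g / 2, hm⟩ : Fin m).val = g by show 2 * (g / 2) = g; omega]
    · refine ⟨g - 1, by omega, ?_⟩
      rw [show g - 1 = 2 * (⟨g / 2, hm⟩ : Fin m).val by show g - 1 = 2 * (g / 2); omega, pl_even]
      conv_rhs => rw [show g = 2 * (⟨g / 2, hm⟩ : Fin m).val + 1 by show g = 2 * (g / 2) + 1; omega]
      rw [pl_odd, inv_inv]
  · rw [eq_top_iff, ← PresentedGroup.closure_range_of, Subgroup.closure_le]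
    rintro _ ⟨i, rfl⟩
    exact Subgroup.subset_closure ⟨2 * i.val, by rw [Set.mem_Iio, hK]; omega, pl_even _ i⟩

/-- Words in the letters lie in the subgroup of the even ones. -/
theorem val_mem {G : Type*} [Group G] {φ : ℕ → G} {S : Subgroup G} {B : ℕ}
    (h : ∀ g < B, φ g ∈ S) : ∀ {w : List ℕ}, (∀ g ∈ w, g < B) → Cert.val φ w ∈ S := by
  intro w
  induction w with
  | nil => intro _; exact S.one_mem
  | cons g w ih =>
    intro hw
    exact S.mul_mem (h g (hw g List.mem_cons_self)) (ih fun x hx => hw x (List.mem_cons_of_mem _ hx))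

variable {p : ℕ} {a b : ZMod p} {q : ℕ}

/-- The words of the first plane do what they should. -/
noncomputable def planeOK (p : ℕ) (a b : ZMod p) (q : ℕ) (gens3 planeWord : List (List ℕ)) : Bool :=
  allBelow (p * p) fun ca => allBelow (p * p) fun cb =>
    let α : K p a b := dec ca
    let β : K p a b := dec cb
    decide (α * α ^ q + β * β ^ q ≠ 1) ||
      (force (Nat.add ca (Nat.mul (p * p) cb)) fun c =>
        (planeWord.getD c []).all (fun g => decide (g < 4)) &&
        moves (k := 3) gens3 (planeWord.getD c []) (Conc.bc p 0) ![α, -(β ^ q), 0] &&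
        moves (k := 3) gens3 (planeWord.getD c []) (Conc.bc p 1) ![β, α ^ q, 0] &&
        moves (k := 3) gens3 (planeWord.getD c []) (Conc.bc p 2) (![0, 0, 1] : Fin 3 → K p a b))

/-- The words of unit vectors do what they should. -/
noncomputable def reachOK (p : ℕ) (a b : ZMod p) (q : ℕ) (gens3 reachWord : List (List ℕ)) : Bool :=
  allBelow (p * p) fun c0 => allBelow (p * p) fun c1 => allBelow (p * p) fun c2 =>
    let v : Fin 3 → K p a b := ![dec c0, dec c1, dec c2]
    decide (v 0 * v 0 ^ q + v 1 * v 1 ^ q + v 2 * v 2 ^ q ≠ 1) ||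
      (force (Nat.add c0 (Nat.mul (p * p) (Nat.add c1 (Nat.mul (p * p) c2)))) fun c =>
        decide ((decV c : Fin 3 → K p a b) = v) &&
        (reachWord.getD c []).all (fun g => decide (g < 4)) &&
        moves (k := 3) gens3 (reachWord.getD c []) c (![0, 0, 1] : Fin 3 → K p a b))

variable {F : Type*} [Field F] [Fintype F]

/-- The two generators generate `SU₃`. -/
theorem gen_three' (φ : K p a b →+* F) (hφ : Function.Bijective φ) (hF : Fintype.card F = q ^ 2)
    (hsurj : ∀ x : K p a b, ∃ c < p * p, dec c = x) {gens3 planeWord reachWord : List (List ℕ)}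
    (hlen : gens3.length = 4) (hok : GensOK (p := p) (a := a) (b := b) q 3 gens3) (hb : BasisOK p 3 a b)
    (hpl : planeOK p a b q gens3 planeWord = true) (hre : reachOK p a b q gens3 reachWord = true)
    (S : Subgroup (Cfsg.SU 3 F q)) (hS : ∀ g < 4, letter φ q 3 gens3 g ∈ S) : S = ⊤ := by
  have h01 : (0 : Fin 3) ≠ 1 := by decide
  have hplane : ∀ g ∈ Plane (n := 3) (F := F) q 0 1, g ∈ S := by
    intro g hg
    obtain ⟨α, β, h, rfl⟩ := eq_R2 hF h01 hg
    obtain ⟨α', rfl⟩ := hφ.2 α
    obtain ⟨β', rfl⟩ := hφ.2 β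
    obtain ⟨ca, hca, rfl⟩ := hsurj α'
    obtain ⟨cb, hcb, rfl⟩ := hsurj β'
    have hc := allBelow_iff.1 (allBelow_iff.1 hpl ca hca) cb hcb
    have hn : ¬ ((dec ca : K p a b) * dec ca ^ q + dec cb * dec cb ^ q ≠ 1) := fun hne => by
      rw [← map_pow, ← map_pow, ← map_mul, ← map_mul, ← map_add, ← map_one φ] at h
      exact hne (hφ.1 h)
    simp only [decide_eq_false hn, Bool.false_or, CosetEnum.force_eq, Bool.and_eq_true, List.all_eq_true,
      decide_eq_true_eq] at hc
    obtain ⟨⟨⟨hw, h0⟩, h1⟩, h2⟩ := hc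
    set w := planeWord.getD (Nat.add ca (Nat.mul (p * p) cb)) []
    have hw' : ∀ x ∈ w, x < gens3.length := fun x hx => by rw [hlen]; exact hw x hx
    rw [show R2 hF h01 (φ (dec ca)) (φ (dec cb)) h = Cert.val (letter φ q 3 gens3) w from ?_]
    · exact val_mem hS hw
    refine Subtype.ext (Subtype.ext (Matrix.ext_of_mulVec_single fun j => ?_))
    have hs : ∀ j : Fin 3, φ ∘ (decV (Conc.bc p j.val) : Fin 3 → K p a b) = Pi.single j 1 := fun j => by
      rw [hb j]; funext x; by_cases hx : x = j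
      · subst hx; simp
      · simp [hx]
    rw [← hs j]
    funext x
    rw [R2_mulVec, hs j]
    fin_cases j
    · have e := act_of_moves φ hF hok hw' h0
      rw [act, show φ ∘ (decV (Conc.bc p 0) : Fin 3 → K p a b) = Pi.single 0 1 from hs 0] at e
      refine Eq.trans ?_ (congrFun e x).symm
      fin_cases x <;> simp [Pi.single_apply, map_pow]
    · have e := act_of_moves φ hF hok hw' h1
      rw [act, show φ ∘ (decV (Conc.bc p 1) : Fin 3 → K p a b) = Pi.single 1 1 from hs 1] at e
      refine Eq.trans ?_ (congrFun e x).symm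
      fin_cases x <;> simp [Pi.single_apply, map_pow]
    · have e := act_of_moves φ hF hok hw' h2
      rw [act, show φ ∘ (decV (Conc.bc p 2) : Fin 3 → K p a b) = Pi.single 2 1 from hs 2] at e
      refine Eq.trans ?_ (congrFun e x).symm
      fin_cases x <;> simp [Pi.single_apply]
  rw [eq_top_iff]
  intro g _
  set v := g.1.1 *ᵥ (Pi.single 2 1 : Fin 3 → F) with hv
  have hv1 : hermForm 3 F q v v = 1 := (g.2 _ _).trans (by rw [herm_std hF]; rfl)
  obtain ⟨v', hv'⟩ : ∃ v' : Fin 3 → K p a b, φ ∘ v' = v :=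
    ⟨fun i => (hφ.2 (v i)).choose, funext fun i => (hφ.2 (v i)).choose_spec⟩
  obtain ⟨c0, h0, e0⟩ := hsurj (v' 0)
  obtain ⟨c1, h1, e1⟩ := hsurj (v' 1)
  obtain ⟨c2, h2, e2⟩ := hsurj (v' 2)
  have hvv : (![dec c0, dec c1, dec c2] : Fin 3 → K p a b) = v' := by
    funext i; fin_cases i <;> simp [e0, e1, e2]
  have hc := allBelow_iff.1 (allBelow_iff.1 (allBelow_iff.1 hre c0 h0) c1 h1) c2 h2
  have hn : ¬ (v' 0 * v' 0 ^ q + v' 1 * v' 1 ^ q + v' 2 * v' 2 ^ q ≠ 1) := fun hne => by
    rw [← hv', hermForm, Fin.sum_univ_three] at hv1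
    simp only [Function.comp, ← map_pow, ← map_mul, ← map_add] at hv1
    rw [← map_one φ] at hv1
    exact hne (hφ.1 hv1)
  simp only [hvv] at hc
  simp only [decide_eq_false hn, Bool.false_or, CosetEnum.force_eq, Bool.and_eq_true, List.all_eq_true,
    decide_eq_true_eq] at hc
  obtain ⟨⟨hd, hw⟩, hm⟩ := hc
  set c := Nat.add c0 (Nat.mul (p * p) (Nat.add c1 (Nat.mul (p * p) c2)))
  set w := reachWord.getD c []
  have he := act_of_moves φ hF hok (fun x hx => by rw [hlen]; exact hw x hx) hm
  rw [hd, hv', act] at he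
  have hwS : Cert.val (letter φ q 3 gens3) w ∈ S := val_mem hS hw
  have hmem : Cert.val (letter φ q 3 gens3) w * g ∈ Plane (n := 3) (F := F) q 0 1 := fun l h1 h2 => by
    have hl : l = 2 := by fin_cases l <;> simp at h1 h2 ⊢
    subst hl
    rw [SU_mulVec_mul, ← hv, he]
    funext x
    fin_cases x <;> simp
  have := S.mul_mem (S.inv_mem hwS) (hplane _ hmem)
  rwa [inv_mul_cancel_left] at this

/-- A presentation from a certificate, a bound and generation. -/
theorem hasPres_of_cert {m r : ℕ} {H : Type*} [Group H] [Finite H] (R : List (FreeGroup (Fin m))) (hr : R.length ≤ r)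
    (g : Fin m → H) (hrel : ∀ x ∈ R, FreeGroup.lift g x = 1) (hgen : Subgroup.closure (Set.range g) = ⊤)
    (hfin : Finite (PresentedGroup {x | x ∈ R})) (hcard : Nat.card (PresentedGroup {x | x ∈ R}) ≤ Nat.card H) :
    ∃ rels : Finset (FreeGroup (Fin m)), rels.card ≤ r ∧
      ∃ e : PresentedGroup (↑rels : Set (FreeGroup (Fin m))) ≃* H, ∀ i, e (PresentedGroup.of i) = g i := by
  classical
  refine ⟨R.toFinset, (List.toFinset_card_le R).trans hr, ?_⟩
  rw [show (↑R.toFinset : Set (FreeGroup (Fin m))) = {x | x ∈ R} by ext x; simp]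
  let ρ := PresentedGroup.toGroup (rels := {x | x ∈ R}) hrel
  have hs : Function.Surjective ρ := by
    rw [← MonoidHom.range_eq_top, eq_top_iff, ← hgen, Subgroup.closure_le]
    rintro _ ⟨i, rfl⟩
    exact ⟨PresentedGroup.of i, PresentedGroup.toGroup.of _⟩
  exact ⟨MulEquiv.ofBijective ρ ((Nat.bijective_iff_surjective_and_card ρ).2
    ⟨hs, le_antisymm hcard (Nat.card_le_card_of_surjective ρ hs)⟩), fun i => PresentedGroup.toGroup.of hrel⟩

/-- The data of a base case. -/
structure Case (p : ℕ) (a b : ZMod p) (q : ℕ) where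
  gens3 : List (List ℕ)
  gens4 : List (List ℕ)
  words3 : List (List ℕ)
  nfree3 : ℕ
  tab3 : Cert.Tab
  ord : ℕ
  words4 : List (List ℕ)
  nfree4 : ℕ
  tab4 : Cert.Tab
  planeWord : List (List ℕ)
  reachWord : List (List ℕ)
  hlen3 : gens3.length = 4
  hlen4 : gens4.length = 6
  ok3 : GensOK (p := p) (a := a) (b := b) q 3 gens3
  ok4 : GensOK (p := p) (a := a) (b := b) q 4 gens4
  basis3 : BasisOK p 3 a b
  basis4 : BasisOK p 4 a b
  hsurj : ∀ x : K p a b, ∃ c < p * p, dec c = x
  hK3 : tab3.K = 4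
  hK4 : tab4.K = 6
  chk3 : Cert.check tab3 words3 nfree3 = true
  chk4 : Cert.check tab4 words4 nfree4 = true
  hlt3 : ∀ w ∈ words3, ∀ g ∈ w, g < 4
  hlt4 : ∀ w ∈ words4, ∀ g ∈ w, g < 6
  free3 : ∀ k < 4, words3.getD k [] = [k, if k % 2 = 0 then k + 1 else k - 1]
  free4 : ∀ k < 6, words4.getD k [] = [k, if k % 2 = 0 then k + 1 else k - 1]
  bd3 : 4 ≤ nfree3 ∧ nfree3 + 1 = words3.length
  bd4 : 6 ≤ nfree4 ∧ nfree4 + 2 = words4.length
  sub3 : words3.getD nfree3 [] = [0]
  sub4 : words4.getD nfree4 [] = [0] ∧ words4.getD (nfree4 + 1) [] = [2]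
  pow3 : List.replicate ord 0 ∈ (words3.take nfree3).drop 4
  ord_pos : 0 < ord
  sub34 : ∀ w ∈ (words3.take nfree3).drop 4, w ∈ (words4.take nfree4).drop 6
  one3 : (List.range nfree3).all (fun k => isOne (k := 3) (p := p) (a := a) (b := b) gens3 (words3.getD k [])) = true
  one4 : (List.range nfree4).all (fun k => isOne (k := 4) (p := p) (a := a) (b := b) gens4 (words4.getD k [])) = true
  plane : planeOK p a b q gens3 planeWord = true
  reach : reachOK p a b q gens3 reachWord = true

variable (C : Case p a b q) (φ : K p a b →+* F)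

/-- The generators of `SU₃`. -/
noncomputable def Case.x (i : Fin 2) : Cfsg.SU 3 F q := letter φ q 3 C.gens3 (2 * i.val)

/-- The generators of `SU₄`. -/
noncomputable def Case.y (i : Fin 3) : Cfsg.SU 4 F q := letter φ q 4 C.gens4 (2 * i.val)

theorem letters_odd (hF : Fintype.card F = q ^ 2) {k m : ℕ} {gens words : List (List ℕ)} {nfree : ℕ}
    (hlen : gens.length = 2 * m) (hb : BasisOK p k a b) (hok : GensOK (p := p) (a := a) (b := b) q k gens)
    (hfree : ∀ i < 2 * m, words.getD i [] = [i, if i % 2 = 0 then i + 1 else i - 1]) (h2 : 2 * m ≤ nfree)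
    (hone : (List.range nfree).all (fun i => isOne (k := k) (p := p) (a := a) (b := b) gens (words.getD i [])) = true)
    (i : Fin m) : letter φ q k gens (2 * i.val + 1) = (letter φ q k gens (2 * i.val))⁻¹ := by
  refine (inv_eq_of_mul_eq_one_right ?_).symm
  have h := List.all_eq_true.1 hone (2 * i.val) (List.mem_range.2 (by omega))
  rw [hfree _ (by omega), if_pos (by omega)] at h
  have := val_eq_one φ hF hb hok (w := [2 * i.val, 2 * i.val + 1]) (by
    intro g hg; simp at hg; rw [hlen]; omega) h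
  simpa [Cert.val] using this

theorem lift_rels (hF : Fintype.card F = q ^ 2) {k m : ℕ} {gens words : List (List ℕ)} {nfree : ℕ}
    (hlen : gens.length = 2 * m) (hb : BasisOK p k a b) (hok : GensOK (p := p) (a := a) (b := b) q k gens)
    (hfree : ∀ i < 2 * m, words.getD i [] = [i, if i % 2 = 0 then i + 1 else i - 1]) (h2 : 2 * m ≤ nfree)
    (hn : nfree ≤ words.length) (hlt : ∀ w ∈ words, ∀ g ∈ w, g < 2 * m)
    (hone : (List.range nfree).all (fun i => isOne (k := k) (p := p) (a := a) (b := b) gens (words.getD i [])) = true) :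
    ∀ x ∈ rels m words nfree, FreeGroup.lift (fun i : Fin m => letter φ q k gens (2 * i.val)) x = 1 := by
  intro x hx
  obtain ⟨w, hw, rfl⟩ := List.mem_map.1 hx
  have hw' := List.mem_of_mem_take (List.mem_of_mem_drop hw)
  rw [map_lt _ (letter φ q k gens) (fun i => by simp) (letters_odd φ hF hlen hb hok hfree h2 hone) w (hlt w hw')]
  obtain ⟨j, hj, rfl⟩ := List.mem_iff_getElem.1 (List.mem_of_mem_drop hw)
  have hj' : j < nfree := by simp at hj; omega
  have h := List.all_eq_true.1 hone j (List.mem_range.2 hj')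
  rw [List.getD_eq_getElem _ _ (show j < words.length by omega), ← List.getElem_take (h := hj)] at h
  exact val_eq_one φ hF hb hok (fun g hg => by rw [hlen]; exact hlt _ hw' g hg) h

/-- The closure of the generators of `SU₃`. -/
theorem Case.closure_x (hF : Fintype.card F = q ^ 2) (hφ : Function.Bijective φ) :
    Subgroup.closure (Set.range (C.x φ)) = ⊤ := by
  refine gen_three' φ hφ hF C.hsurj C.hlen3 C.ok3 C.basis3 C.plane C.reach _ fun g hg => ?_
  have hev : ∀ i : Fin 2, letter φ q 3 C.gens3 (2 * i.val) ∈ Subgroup.closure (Set.range (C.x φ)) :=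
    fun i => Subgroup.subset_closure ⟨i, rfl⟩
  have hodd : ∀ i : Fin 2, letter φ q 3 C.gens3 (2 * i.val + 1) ∈ Subgroup.closure (Set.range (C.x φ)) := fun i => by
    rw [letters_odd φ hF (m := 2) C.hlen3 C.basis3 C.ok3 C.free3 C.bd3.1 C.one3 i]
    exact inv_mem (hev i)
  interval_cases g
  · exact hev 0
  · exact hodd 0
  · exact hev 1
  · exact hodd 1

/-- `SU₃` on its two generators. -/
theorem Case.pres3 (hF : Fintype.card F = q ^ 2) (hφ : Function.Bijective φ)
    (hcard : Nat.card (Cfsg.SU 3 F q) = C.tab3.N * C.ord) :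
    ∃ e : PresentedGroup {x | x ∈ rels 2 C.words3 C.nfree3} ≃* Cfsg.SU 3 F q,
      ∀ i, e (PresentedGroup.of i) = C.x φ i := by
  classical
  set R := rels 2 C.words3 C.nfree3
  have hrel := lift_rels φ hF (m := 2) C.hlen3 C.basis3 C.ok3 C.free3 C.bd3.1 (by have := C.bd3.2; omega) C.hlt3 C.one3
  have hpow : (PresentedGroup.of (0 : Fin 2) : PresentedGroup {x | x ∈ R}) ^ C.ord = 1 := by
    have := PresentedGroup.one_of_mem (rels := {x | x ∈ R}) (show Cert.val (lt 2) (List.replicate C.ord 0) ∈ R from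
      List.mem_map.2 ⟨_, C.pow3, rfl⟩)
    rw [Cert.val, List.map_replicate, List.prod_replicate, map_pow] at this
    exact this
  let H : Subgroup (PresentedGroup {x | x ∈ R}) := Subgroup.zpowers (PresentedGroup.of (0 : Fin 2))
  have hfo : IsOfFinOrder (PresentedGroup.of (0 : Fin 2) : PresentedGroup {x | x ∈ R}) :=
    isOfFinOrder_iff_pow_eq_one.2 ⟨C.ord, C.ord_pos, hpow⟩
  haveI : Finite H := hfo.finite_zpowers.to_subtype
  obtain ⟨hfin, hle⟩ := presented_card_le (R := R) rfl C.hK3 C.chk3 C.hlt3 C.free3 (by have := C.bd3.2; omega) C.bd3.1 H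
    (fun k h1 h2 => by
      obtain rfl : k = C.nfree3 := by have := C.bd3.2; omega
      rw [C.sub3]
      simp only [Cert.val, List.map_cons, List.map_nil, List.prod_cons, List.prod_nil, mul_one]
      rw [show (0 : ℕ) = 2 * (0 : Fin 2).val from rfl, pl_even]
      exact Subgroup.mem_zpowers _)
  have hH : Nat.card H ≤ C.ord := by
    rw [Nat.card_zpowers]; exact Nat.le_of_dvd C.ord_pos (orderOf_dvd_of_pow_eq_one hpow)
  let ρ := PresentedGroup.toGroup (rels := {x | x ∈ R}) hrel
  have hs : Function.Surjective ρ := by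
    rw [← MonoidHom.range_eq_top, eq_top_iff, ← C.closure_x φ hF hφ, Subgroup.closure_le]
    rintro _ ⟨i, rfl⟩
    exact ⟨PresentedGroup.of i, PresentedGroup.toGroup.of _⟩
  refine ⟨MulEquiv.ofBijective ρ ((Nat.bijective_iff_surjective_and_card ρ).2
    ⟨hs, le_antisymm ?_ (Nat.card_le_card_of_surjective ρ hs)⟩), fun i => PresentedGroup.toGroup.of hrel⟩
  rw [hcard]
  exact hle.trans (Nat.mul_le_mul_left _ hH)

/-- `SU₄` on three generators. -/
theorem Case.pres4 (hF : Fintype.card F = q ^ 2) (hφ : Function.Bijective φ)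
    (hcard : Nat.card (Cfsg.SU 3 F q) = C.tab3.N * C.ord)
    (hcard4 : Nat.card (Cfsg.SU 4 F q) = C.tab4.N * Nat.card (Cfsg.SU 3 F q))
    (hgen : Subgroup.closure (Set.range (C.y φ)) = ⊤) :
    HasPres 3 (C.nfree4 - 6) (Cfsg.SU 4 F q) := by
  classical
  set R := rels 3 C.words4 C.nfree4
  have hrel := lift_rels φ hF (m := 3) C.hlen4 C.basis4 C.ok4 C.free4 C.bd4.1 (by have := C.bd4.2; omega) C.hlt4 C.one4
  obtain ⟨e, he⟩ := C.pres3 φ hF hφ hcard
  -- the image of the presented `SU₃`
  have h3 : ∀ x ∈ {x | x ∈ rels 2 C.words3 C.nfree3},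
      FreeGroup.lift (fun i : Fin 2 => (PresentedGroup.of i.castSucc : PresentedGroup {x | x ∈ R})) x = 1 := by
    intro x hx
    obtain ⟨w, hw, rfl⟩ := List.mem_map.1 hx
    have hw4 := C.sub34 w hw
    rw [map_lt _ (pl {x | x ∈ R}) (fun i => by
        rw [FreeGroup.lift_apply_of, show 2 * i.val = 2 * i.castSucc.val from rfl, pl_even])
      (fun i => by rw [show 2 * i.val = 2 * i.castSucc.val from rfl, pl_odd, pl_even])
      w (C.hlt3 w (List.mem_of_mem_take (List.mem_of_mem_drop hw))),
      ← map_lt (PresentedGroup.mk {x | x ∈ R}) (pl {x | x ∈ R}) (fun i => (pl_even _ i).symm)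
        (fun i => by rw [pl_odd, pl_even]) w (C.hlt4 w (List.mem_of_mem_take (List.mem_of_mem_drop hw4)))]
    exact PresentedGroup.one_of_mem (show _ ∈ R from List.mem_map.2 ⟨w, hw4, rfl⟩)
  let ι : Cfsg.SU 3 F q →* PresentedGroup {x | x ∈ R} := (PresentedGroup.toGroup h3).comp e.symm.toMonoidHom
  have hι : ∀ i : Fin 2, (PresentedGroup.of i.castSucc : PresentedGroup {x | x ∈ R}) ∈ ι.range := fun i =>
    ⟨C.x φ i, by
      show PresentedGroup.toGroup h3 (e.symm (C.x φ i)) = _
      rw [← he, MulEquiv.symm_apply_apply, PresentedGroup.toGroup.of]⟩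
  obtain ⟨hfin, hle⟩ := presented_card_le (R := R) rfl C.hK4 C.chk4 C.hlt4 C.free4 (by have := C.bd4.2; omega) C.bd4.1
    ι.range (fun k h1 h2 => by
      rcases (show k = C.nfree4 ∨ k = C.nfree4 + 1 by have := C.bd4.2; omega) with rfl | rfl
      · rw [C.sub4.1]
        simp only [Cert.val, List.map_cons, List.map_nil, List.prod_cons, List.prod_nil, mul_one]
        rw [show (0 : ℕ) = 2 * (0 : Fin 2).castSucc.val from rfl, pl_even]
        exact hι 0
      · rw [C.sub4.2]
        simp only [Cert.val, List.map_cons, List.map_nil, List.prod_cons, List.prod_nil, mul_one]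
        rw [show (2 : ℕ) = 2 * (1 : Fin 2).castSucc.val from rfl, pl_even]
        exact hι 1)
  have hι' : Nat.card ι.range ≤ Nat.card (Cfsg.SU 3 F q) :=
    Nat.card_le_card_of_surjective _ ι.rangeRestrict_surjective
  obtain ⟨rl, hrl, e4, -⟩ := hasPres_of_cert R (show R.length ≤ C.nfree4 - 6 by
      simp only [R, rels, List.length_map, List.length_drop, List.length_take]; omega) (C.y φ) hrel hgen hfin
    (by rw [hcard4]; exact hle.trans (Nat.mul_le_mul_left _ hι'))
  exact ⟨rl, hrl, ⟨e4⟩⟩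

end Cfsg.Agent.Lib.ShortPresSU.Base
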