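import Mathlib

/-! The generators of `SU₃(2)` and `SU₄(2)`, and words for a plane and for moving unit vectors. -/

set_option autoImplicit false
set_option maxRecDepth 20000

namespace Cfsg.Agent.Lib.ShortPresSU.Gens2

/-- Generators of `SU₃` and their inverses, rows first. -/
def gens3 : List (List ℕ) :=
  [[2, 1, 3, 1, 1, 1, 3, 1, 2],
   [3, 1, 2, 1, 1, 1, 2, 1, 3],
   [1, 2, 1, 2, 1, 1, 2, 2, 3],
   [1, 3, 3, 3, 1, 3, 1, 1, 2]]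

/-- Generators of `SU₄` and their inverses, rows first. -/
def gens4 : List (List ℕ) :=
  [[2, 1, 3, 0, 1, 1, 1, 0, 3, 1, 2, 0, 0, 0, 0, 1],
   [3, 1, 2, 0, 1, 1, 1, 0, 2, 1, 3, 0, 0, 0, 0, 1],
   [1, 2, 1, 0, 2, 1, 1, 0, 2, 2, 3, 0, 0, 0, 0, 1],
   [1, 3, 3, 0, 3, 1, 3, 0, 1, 1, 2, 0, 0, 0, 0, 1],
   [0, 0, 0, 1, 1, 0, 0, 0, 0, 0, 1, 0, 0, 1, 0, 0],
   [0, 1, 0, 0, 0, 0, 0, 1, 0, 0, 1, 0, 1, 0, 0, 0]]

/-- Words for the first plane. -/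
def planeWord : List (List ℕ) :=
  [[],
   [],
   [0, 2, 0, 3],
   [0, 2, 2, 0],
   [0, 3, 0, 0, 2, 1],
   [],
   [],
   [],
   [1, 2, 2, 1, 2, 2],
   [],
   [],
   [],
   [0, 3, 3, 0, 3, 3],
   [],
   [],
   []]

/-- Words moving unit vectors to the last basis vector. -/
def reachWord : List (List ℕ) :=
  [[],
   [0, 0],
   [0, 2, 1, 2],
   [0, 3, 3, 1],
   [0, 3, 0, 2],
   [],
   [],
   [],
   [0, 0, 3, 3],
   [],
   [],
   [],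
   [0, 0, 2, 2],
   [],
   [],
   [],
   [],
   [],
   [],
   [],
   [],
   [2, 0, 2],
   [0, 0, 3, 0],
   [3, 0, 0],
   [],
   [1, 2],
   [2, 2, 2],
   [1, 2, 2],
   [],
   [0, 0, 2],
   [0, 3, 3],
   [3, 0],
   [3, 3],
   [],
   [],
   [],
   [],
   [0, 0, 3, 1],
   [0, 3, 0],
   [1],
   [],
   [0, 0, 3],
   [2, 0, 3],
   [0, 2],
   [],
   [2, 2, 0],
   [0, 0, 2, 0],
   [2],
   [2, 2],
   [],
   [],
   [],
   [],
   [3],
   [0],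
   [0, 3],
   [],
   [3, 1, 2],
   [2, 0],
   [1, 2, 0],
   [],
   [3, 1],
   [0, 2, 1],
   [3, 0, 3]]

end Cfsg.Agent.Lib.ShortPresSU.Gens2
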