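import Cfsg.Agent.Lib.ShortPresSU.Base
import Cfsg.Agent.Lib.ShortPresSU.Data32
import Cfsg.Agent.Lib.ShortPresSU.Data42
import Cfsg.Agent.Lib.ShortPresSU.Gens2

/-! The base case `q = 2`. -/

set_option autoImplicit false
set_option maxRecDepth 20000

namespace Cfsg.Agent.Lib.ShortPresSU.Base2

open Conc (K dec decM)

/-- The field. -/
abbrev K2 : Type := K 2 (1 : ZMod 2) (1 : ZMod 2)

theorem ok3 : Conc.GensOK (p := 2) (a := 1) (b := 1) 2 3 Gens2.gens3 := by
  unfold Conc.GensOK
  decide +kernel

theorem ok4 : Conc.GensOK (p := 2) (a := 1) (b := 1) 2 4 Gens2.gens4 := by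
  unfold Conc.GensOK
  decide +kernel

theorem basis3 : Conc.BasisOK 2 3 (1 : ZMod 2) (1 : ZMod 2) := by
  unfold Conc.BasisOK
  decide +kernel

theorem basis4 : Conc.BasisOK 2 4 (1 : ZMod 2) (1 : ZMod 2) := by
  unfold Conc.BasisOK
  decide +kernel

theorem hsurj : ∀ x : K2, ∃ c < 2 * 2, dec c = x := by
  intro x
  have h : ∀ u v : ZMod 2, ∃ c : Fin (2 * 2), (dec c.val : K2) = ⟨u, v⟩ := by decide +kernel
  obtain ⟨c, hc⟩ := h x.re x.im
  exact ⟨c.val, c.isLt, hc⟩

theorem one3 : (List.range Data32.nfree).all (fun k => Conc.isOne (k := 3) (p := 2) (a := 1) (b := 1)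
    Gens2.gens3 (Data32.words.getD k [])) = true := by decide +kernel

theorem one4 : (List.range Data42.nfree).all (fun k => Conc.isOne (k := 4) (p := 2) (a := 1) (b := 1)
    Gens2.gens4 (Data42.words.getD k [])) = true := by decide +kernel

theorem plane : Base.planeOK 2 (1 : ZMod 2) 1 2 Gens2.gens3 Gens2.planeWord = true := by decide +kernel

theorem reach : Base.reachOK 2 (1 : ZMod 2) 1 2 Gens2.gens3 Gens2.reachWord = true := by decide +kernel

/-- The base case. -/
noncomputable def case2 : Base.Case 2 (1 : ZMod 2) 1 2 where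
  gens3 := Gens2.gens3
  gens4 := Gens2.gens4
  words3 := Data32.words
  nfree3 := Data32.nfree
  tab3 := Data32.tab
  ord := 4
  words4 := Data42.words
  nfree4 := Data42.nfree
  tab4 := Data42.tab
  planeWord := Gens2.planeWord
  reachWord := Gens2.reachWord
  hlen3 := rfl
  hlen4 := rfl
  ok3 := ok3
  ok4 := ok4
  basis3 := basis3
  basis4 := basis4
  hsurj := hsurj
  hK3 := rfl
  hK4 := rfl
  chk3 := Data32.check_tab
  chk4 := Data42.check_tab
  hlt3 := by decide +kernel
  hlt4 := by decide +kernel
  free3 := by decide +kernel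
  free4 := by decide +kernel
  bd3 := by decide +kernel
  bd4 := by decide +kernel
  sub3 := by decide +kernel
  sub4 := by decide +kernel
  pow3 := by decide +kernel
  ord_pos := by decide
  sub34 := by decide +kernel
  one3 := one3
  one4 := one4
  plane := plane
  reach := reach

end Cfsg.Agent.Lib.ShortPresSU.Base2
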