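import Cfsg.Agent.Lib.ShortPresSU.Base
import Cfsg.Agent.Lib.ShortPresSU.Data33
import Cfsg.Agent.Lib.ShortPresSU.Data43
import Cfsg.Agent.Lib.ShortPresSU.Gens3

/-! The base case `q = 3`. -/

set_option autoImplicit false
set_option maxRecDepth 20000

namespace Cfsg.Agent.Lib.ShortPresSU.Base3

open Conc (K dec decM)

/-- The field. -/
abbrev K3 : Type := K 3 (2 : ZMod 3) (0 : ZMod 3)

theorem ok3 : Conc.GensOK (p := 3) (a := 2) (b := 0) 3 3 Gens3.gens3 := by
  unfold Conc.GensOK
  decide +kernel

theorem ok4 : Conc.GensOK (p := 3) (a := 2) (b := 0) 3 4 Gens3.gens4 := by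
  unfold Conc.GensOK
  decide +kernel

theorem basis3 : Conc.BasisOK 3 3 (2 : ZMod 3) (0 : ZMod 3) := by
  unfold Conc.BasisOK
  decide +kernel

theorem basis4 : Conc.BasisOK 3 4 (2 : ZMod 3) (0 : ZMod 3) := by
  unfold Conc.BasisOK
  decide +kernel

theorem hsurj : ∀ x : K3, ∃ c < 3 * 3, dec c = x := by
  intro x
  have h : ∀ u v : ZMod 3, ∃ c : Fin (3 * 3), (dec c.val : K3) = ⟨u, v⟩ := by decide +kernel
  obtain ⟨c, hc⟩ := h x.re x.im
  exact ⟨c.val, c.isLt, hc⟩

theorem one3 : (List.range Data33.nfree).all (fun k => Conc.isOne (k := 3) (p := 3) (a := 2) (b := 0)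
    Gens3.gens3 (Data33.words.getD k [])) = true := by decide +kernel

theorem one4 : (List.range Data43.nfree).all (fun k => Conc.isOne (k := 4) (p := 3) (a := 2) (b := 0)
    Gens3.gens4 (Data43.words.getD k [])) = true := by decide +kernel

theorem plane : Base.planeOK 3 (2 : ZMod 3) 0 3 Gens3.gens3 Gens3.planeWord = true := by decide +kernel

theorem reach : Base.reachOK 3 (2 : ZMod 3) 0 3 Gens3.gens3 Gens3.reachWord = true := by decide +kernel

/-- The base case. -/
noncomputable def case3 : Base.Case 3 (2 : ZMod 3) 0 3 where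
  gens3 := Gens3.gens3
  gens4 := Gens3.gens4
  words3 := Data33.words
  nfree3 := Data33.nfree
  tab3 := Data33.tab
  ord := 6
  words4 := Data43.words
  nfree4 := Data43.nfree
  tab4 := Data43.tab
  planeWord := Gens3.planeWord
  reachWord := Gens3.reachWord
  hlen3 := rfl
  hlen4 := rfl
  ok3 := ok3
  ok4 := ok4
  basis3 := basis3
  basis4 := basis4
  hsurj := hsurj
  hK3 := rfl
  hK4 := rfl
  chk3 := Data33.check_tab
  chk4 := Data43.check_tab
  hlt3 := by decide +kernel
  hlt4 := by decide +kernel
  free3 := by decide +kernel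
  free4 := by decide +kernel
  bd3 := by decide +kernel
  bd4 := by decide +kernel
  sub3 := by decide +kernel
  sub4 := by decide +kernel
  pow3 := by decide +kernel
  ord_pos := by decide
  sub34 := by decide +kernel
  one3 := one3
  one4 := one4
  plane := plane
  reach := reach

end Cfsg.Agent.Lib.ShortPresSU.Base3
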