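import Cfsg.Agent.Lib.ShortPresSU.Base2
import Cfsg.Agent.Lib.ShortPresSU.Base3
import Cfsg.Agent.Lib.Unitary.Order

/-!
# `SU₄(2)` and `SU₄(3)`: generation and presentations
-/

set_option autoImplicit false
set_option linter.unusedSectionVars false

namespace Cfsg.Agent.Lib.ShortPresSU

open Matrix Cfsg.Agent.Lib.Unitary Cfsg.Agent.Lib.Phan
open ShortPresSLn (HasPres)
open Conc (K decM letter)

/-- A root of `X² - bX - a` gives the identification with the concrete field. -/
theorem exists_iso {p : ℕ} [Fact p.Prime] {a b : ZMod p} (hab : ∀ r : ZMod p, r ^ 2 ≠ a + b * r)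
    {F : Type*} [Field F] [Fintype F] [CharP F p] (hF : Fintype.card F = p ^ 2)
    (u : F) (hu : u * u = (ZMod.castHom (dvd_refl p) F a) + (ZMod.castHom (dvd_refl p) F b) * u) :
    ∃ φ : K p a b →+* F, Function.Bijective φ := by
  haveI : Fact (∀ r : ZMod p, r ^ 2 ≠ a + b * r) := ⟨hab⟩
  letI : Algebra (ZMod p) F := ZMod.algebra F p
  let ψ := QuadraticAlgebra.lift (R := ZMod p) (a := a) (b := b) (A := F) ⟨u, by
    rw [hu, Algebra.smul_def, Algebra.smul_def, mul_one]
    rfl⟩
  refine ⟨ψ.toRingHom, ?_⟩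
  have hinj : Function.Injective ψ.toRingHom := RingHom.injective _
  haveI : Finite (K p a b) := Finite.of_equiv _ (QuadraticAlgebra.equivProd a b).symm
  refine (Nat.bijective_iff_injective_and_card _).2 ⟨hinj, ?_⟩
  rw [Nat.card_congr (QuadraticAlgebra.equivProd a b), Nat.card_prod, Nat.card_zmod,
    Nat.card_eq_fintype_card (α := F), hF, sq]

/-- The concrete field of order four. -/
theorem exists_iso_two {F : Type*} [Field F] [Fintype F] (hF : Fintype.card F = 2 ^ 2) :
    ∃ φ : K 2 (1 : ZMod 2) (1 : ZMod 2) →+* F, Function.Bijective φ := by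
  classical
  obtain ⟨p, e, hp, hchar, he, hq⟩ := q_eq_primePow hF
  have hp2 : p = 2 := ((Nat.prime_dvd_prime_iff_eq hp Nat.prime_two).1 (hq ▸ dvd_pow_self p (by omega)))
  subst hp2
  haveI : Fact (Nat.Prime 2) := ⟨Nat.prime_two⟩
  obtain ⟨w, -, hw⟩ := Finset.exists_mem_notMem_of_card_lt_card (s := ({0, 1} : Finset F)) (t := Finset.univ)
    (by rw [Finset.card_univ, hF]; exact lt_of_le_of_lt Finset.card_le_two (by norm_num))
  simp only [Finset.mem_insert, Finset.mem_singleton, not_or] at hw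
  have h3 : w ^ 3 = 1 := by
    have := FiniteField.pow_card_sub_one_eq_one w hw.1
    rwa [hF] at this
  refine exists_iso (by decide) hF w ?_
  have h2 : (2 : F) = 0 := CharTwo.two_eq_zero
  have : (w - 1) * (w * w + w + 1) = 0 := by linear_combination h3
  rcases mul_eq_zero.1 this with h | h
  · exact absurd (sub_eq_zero.1 h) hw.2
  · rw [map_one, one_mul]
    linear_combination h - (w + 1) * h2

/-- The concrete field of order nine. -/
theorem exists_iso_three {F : Type*} [Field F] [Fintype F] (hF : Fintype.card F = 3 ^ 2) :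
    ∃ φ : K 3 (2 : ZMod 3) (0 : ZMod 3) →+* F, Function.Bijective φ := by
  classical
  obtain ⟨p, e, hp, hchar, he, hq⟩ := q_eq_primePow hF
  have hp3 : p = 3 := ((Nat.prime_dvd_prime_iff_eq hp Nat.prime_three).1 (hq ▸ dvd_pow_self p (by omega)))
  subst hp3
  haveI : Fact (Nat.Prime 3) := ⟨Nat.prime_three⟩
  obtain ⟨u, hu⟩ : IsSquare (-1 : F) := by
    rw [FiniteField.isSquare_neg_one_iff, hF]
    norm_num
  refine exists_iso (by decide) hF u ?_
  have h3 : (3 : F) = 0 := by exact_mod_cast CharP.cast_eq_zero F 3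
  rw [map_zero, zero_mul, add_zero, ← hu, map_ofNat]
  linear_combination -h3

/-- The cycle of the third generator, `q = 2`. -/
def σ2 : alternatingGroup (Fin 4) :=
  ⟨⟨![1, 3, 2, 0], ![3, 0, 2, 1], by decide, by decide⟩, Equiv.Perm.mem_alternatingGroup.2 (by decide)⟩

/-- The cycle of the third generator, `q = 3`. -/
def σ3 : alternatingGroup (Fin 4) :=
  ⟨⟨![0, 2, 3, 1], ![0, 3, 1, 2], by decide, by decide⟩, Equiv.Perm.mem_alternatingGroup.2 (by decide)⟩

/-- The renumbering, `q = 3`. -/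
def u3 : alternatingGroup (Fin 4) :=
  ⟨⟨![1, 0, 3, 2], ![1, 0, 3, 2], by decide, by decide⟩, Equiv.Perm.mem_alternatingGroup.2 (by decide)⟩

theorem hwin2 : ∀ i : Fin 2, ∃ m : Fin 3,
    Finset.univ.image (fun j : Fin 3 => ((1 : alternatingGroup (Fin 4)) : Equiv.Perm (Fin 4)) ⟨i.val + j.val, by omega⟩) =
      Finset.univ.image (fun j : Fin 3 => ((σ2 ^ m.val : alternatingGroup (Fin 4)) : Equiv.Perm (Fin 4))
        (first (show 3 ≤ 4 by omega) j)) := by
  decide +kernel

theorem hwin3 : ∀ i : Fin 2, ∃ m : Fin 3,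
    Finset.univ.image (fun j : Fin 3 => (u3 : Equiv.Perm (Fin 4)) ⟨i.val + j.val, by omega⟩) =
      Finset.univ.image (fun j : Fin 3 => ((σ3 ^ m.val : alternatingGroup (Fin 4)) : Equiv.Perm (Fin 4))
        (first (show 3 ≤ 4 by omega) j)) := by
  decide +kernel

variable {F : Type*} [Field F] [Fintype F] {q : ℕ} {p : ℕ} {a b : ZMod p}

/-- The coded block matrix. -/
def blockK (A : Matrix (Fin 3) (Fin 3) (K p a b)) : Matrix (Fin 4) (Fin 4) (K p a b) :=
  1 + (Matrix.of fun x j => if x = first (show 3 ≤ 4 by omega) j then (1 : K p a b) else 0) * (A - 1) *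
    (Matrix.of fun x j => if x = first (show 3 ≤ 4 by omega) j then (1 : K p a b) else 0)ᵀ

/-- Generation of `SU₄` and the presentation. -/
theorem Base.Case.hasPres (C : Base.Case p a b q) (φ : K p a b →+* F) (hφ : Function.Bijective φ)
    (hF : Fintype.card F = q ^ 2)
    (hcard : Nat.card (Cfsg.SU 3 F q) = C.tab3.N * C.ord)
    (hcard4 : Nat.card (Cfsg.SU 4 F q) = C.tab4.N * Nat.card (Cfsg.SU 3 F q))
    (σ u : alternatingGroup (Fin 4))
    (hblock : ∀ i : Fin 2, (decM (C.gens4.getD (2 * i.val) []) : Matrix (Fin 4) (Fin 4) (K p a b)) =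
      blockK (decM (C.gens3.getD (2 * i.val) [])))
    (ht : (decM (C.gens4.getD 4 []) : Matrix (Fin 4) (Fin 4) (K p a b)) =
      ((σ : Equiv.Perm (Fin 4))⁻¹).permMatrix (K p a b))
    (hwin : ∀ i : Fin 2, ∃ m : Fin 3, Finset.univ.image (fun j : Fin 3 => (u : Equiv.Perm (Fin 4)) ⟨i.val + j.val, by omega⟩) =
      Finset.univ.image (fun j : Fin 3 => ((σ ^ m.val : alternatingGroup (Fin 4)) : Equiv.Perm (Fin 4)) (first (show 3 ≤ 4 by omega) j))) :
    ∃ x₁ x₂ : Cfsg.SU 3 F q, Subgroup.closure {x₁, x₂} = ⊤ ∧ HasPres 3 (C.nfree4 - 6) (Cfsg.SU 4 F q) := by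
  classical
  have h34 : (3 : ℕ) ≤ 4 := by omega
  have hx := C.closure_x φ hF hφ
  refine ⟨C.x φ 0, C.x φ 1, ?_, C.pres4 φ hF hφ hcard hcard4 ?_⟩
  · rw [← hx]
    congr 1
    ext y
    simp [Fin.exists_fin_two, eq_comm]
  set H := Subgroup.closure (Set.range (C.y φ))
  have hval3 : ∀ i : Fin 2, (C.x φ i).1.1 =
      (decM (C.gens3.getD (2 * i.val) []) : Matrix (Fin 3) (Fin 3) (K p a b)).map φ := fun i =>
    Conc.toSU_val φ hF C.ok3 (by rw [C.hlen3]; omega)
  have hval4 : ∀ i : Fin 3, (C.y φ i).1.1 =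
      (decM (C.gens4.getD (2 * i.val) []) : Matrix (Fin 4) (Fin 4) (K p a b)).map φ := fun i =>
    Conc.toSU_val φ hF C.ok4 (by rw [C.hlen4]; omega)
  have hemb : ∀ g : Cfsg.SU 3 F q, emb (first h34) g ∈ H := by
    intro g
    have hmem : g ∈ Subgroup.closure (Set.range (C.x φ)) := by rw [hx]; exact Subgroup.mem_top g
    refine Subgroup.closure_induction (p := fun g _ => emb (first h34) g ∈ H) ?_
      (by rw [map_one]; exact one_mem _) (fun x y _ _ hx hy => by rw [map_mul]; exact mul_mem hx hy)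
      (fun x _ hx => by rw [map_inv]; exact inv_mem hx) hmem
    rintro _ ⟨i, rfl⟩
    rw [show emb (first h34) (C.x φ i) = C.y φ i.castSucc from ?_]
    · exact Subgroup.subset_closure ⟨_, rfl⟩
    refine Subtype.ext (Subtype.ext ?_)
    rw [emb_val, hval3, hval4, show 2 * i.castSucc.val = 2 * i.val from rfl, hblock, blockK, embMatrix]
    have hincl : (Matrix.of fun x j => if x = first h34 j then (1 : K p a b) else 0).map φ = incl F (first h34) := by
      ext x j; simp only [incl, Matrix.map_apply, Matrix.of_apply]; split_ifs <;> simp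
    rw [Matrix.map_add _ (map_add φ), Matrix.map_mul, Matrix.map_mul, Matrix.map_sub _ (map_sub φ),
      Matrix.map_one _ (map_zero φ) (map_one φ), Matrix.map_one _ (map_zero φ) (map_one φ), Matrix.transpose_map, hincl]
  have hσ : permSU hF σ ∈ H := by
    rw [show permSU hF σ = C.y φ 2 from ?_]
    · exact Subgroup.subset_closure ⟨_, rfl⟩
    refine Subtype.ext (Subtype.ext ?_)
    rw [hval4, show 2 * (2 : Fin 3).val = 4 from rfl, ht]
    show ((σ : Equiv.Perm (Fin 4))⁻¹).permMatrix F = _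
    ext x j
    simp only [Equiv.Perm.permMatrix, PEquiv.toMatrix_apply, Matrix.map_apply]
    split_ifs <;> simp
  let c : Cfsg.SU 4 F q →* Cfsg.SU 4 F q := (MulAut.conj (permSU hF u)).toMonoidHom
  have htop : H.comap c = ⊤ := by
    rw [eq_top_iff, ← gen_windows hF (show 3 ≤ 4 by omega)]
    refine iSup₂_le fun i hi => ?_
    rintro _ ⟨g, rfl⟩
    show c (win 4 3 i g) ∈ H
    obtain ⟨m, hm⟩ := hwin ⟨i, by omega⟩
    rw [win_eq hi]
    show permSU hF u * emb (shift 4 3 i hi) g * (permSU hF u)⁻¹ ∈ H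
    rw [permSU_conj_emb]
    have hr := congrArg (fun s : Finset (Fin 4) => (s : Set (Fin 4))) hm
    simp only [Finset.coe_image, Finset.coe_univ, Set.image_univ] at hr
    obtain ⟨g', hg'⟩ := exists_reorient hF ((shift 4 3 i hi).trans (u : Equiv.Perm (Fin 4)).toEmbedding)
      ((first h34).trans ((σ ^ m.val : alternatingGroup (Fin 4)) : Equiv.Perm (Fin 4)).toEmbedding) hr.symm g
    rw [← hg', ← permSU_conj_emb hF]
    exact mul_mem (mul_mem (by rw [map_pow]; exact pow_mem hσ _) (hemb g'))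
      (inv_mem (by rw [map_pow]; exact pow_mem hσ _))
  rw [eq_top_iff]
  intro g _
  have hmem : c.toFun ((permSU hF u)⁻¹ * g * permSU hF u) ∈ H :=
    (show (permSU hF u)⁻¹ * g * permSU hF u ∈ H.comap c by rw [htop]; exact Subgroup.mem_top _)
  simpa [c, MulAut.conj_apply, mul_assoc] using hmem

/-- The small base cases. -/
theorem exists_base (hF : Fintype.card F = q ^ 2) (hq : q = 2 ∨ q = 3) :
    ∃ (x₁ x₂ : Cfsg.SU 3 F q) (r : ℕ), Subgroup.closure {x₁, x₂} = ⊤ ∧
      r ≤ (if q = 2 then 11 else 20) ∧ HasPres 3 r (Cfsg.SU 4 F q) := by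
  have hGU := card_GU hF
  have h3 := card_SU (n := 3) hF (by norm_num)
  have h4 := card_SU (n := 4) hF (by norm_num)
  rw [hGU] at h3 h4
  rcases hq with rfl | rfl
  · obtain ⟨φ, hφ⟩ := exists_iso_two hF
    norm_num [Finset.prod_range_succ, Nat.even_iff] at h3 h4
    have c3 : Nat.card (Cfsg.SU 3 F 2) = 216 := by omega
    have c4 : Nat.card (Cfsg.SU 4 F 2) = 25920 := by omega
    obtain ⟨x₁, x₂, hx, hp⟩ := Base2.case2.hasPres φ hφ hF (by rw [c3]; rfl) (by rw [c3, c4]; rfl)
      σ2 1 (by decide +kernel) (by decide +kernel) hwin2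
    exact ⟨x₁, x₂, _, hx, by decide +kernel, hp⟩
  · obtain ⟨φ, hφ⟩ := exists_iso_three hF
    norm_num [Finset.prod_range_succ, Nat.even_iff] at h3 h4
    have c3 : Nat.card (Cfsg.SU 3 F 3) = 6048 := by omega
    have c4 : Nat.card (Cfsg.SU 4 F 3) = 13063680 := by omega
    obtain ⟨x₁, x₂, hx, hp⟩ := Base3.case3.hasPres φ hφ hF (by rw [c3]; rfl) (by rw [c3, c4]; rfl)
      σ3 u3 (by decide +kernel) (by decide +kernel) hwin3
    exact ⟨x₁, x₂, _, hx, by decide +kernel, hp⟩

end Cfsg.Agent.Lib.ShortPresSU
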