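import Cfsg.Agent.Lib.ShortPresSU.Emb

/-!
# Short presentations of `SU_n`: a block glued along its stabiliser

The conjugates under `A_n` of a hom on the first `k` coordinates give one well defined hom on every
block of size `k`, once generators of the stabiliser act on generators of the block as in the model.
-/

set_option autoImplicit false
set_option linter.unusedSectionVars false

namespace Cfsg.Agent.Lib.ShortPresSU

open Matrix Cfsg.Agent.Lib.Unitary Cfsg.Agent.Lib.Phan

variable {F : Type*} [Field F] [Fintype F] {q n k : ℕ}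

/-- The block on which a permutation puts the first coordinates. -/
def mv' (h : k ≤ n) (s : alternatingGroup (Fin n)) : Fin k ↪ Fin n :=
  (first h).trans (s : Equiv.Perm (Fin n)).toEmbedding

theorem mv'_one (h : k ≤ n) : mv' h (1 : alternatingGroup (Fin n)) = first h := rfl

theorem mv'_mul (h : k ≤ n) (u s : alternatingGroup (Fin n)) :
    mv' h (u * s) = (mv' h s).trans (u : Equiv.Perm (Fin n)).toEmbedding := rfl

theorem range_trans {m : ℕ} {ι ι' : Fin k ↪ Fin n} (h : Set.range ι = Set.range ι') (f : Fin n ↪ Fin m) :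
    Set.range (ι.trans f) = Set.range (ι'.trans f) := by
  rw [Function.Embedding.coe_trans, Function.Embedding.coe_trans, Set.range_comp, Set.range_comp, h]

/-- The conjugate of the first block by a permutation in the model. -/
theorem emb_mv'_mul (hF : Fintype.card F = q ^ 2) (h : k ≤ n) (u s : alternatingGroup (Fin n))
    (g : Cfsg.SU k F q) :
    emb (mv' h (u * s)) g = permSU hF u * emb (mv' h s) g * (permSU hF u)⁻¹ := by
  rw [permSU_conj_emb, mv'_mul]

/-- Two homs agreeing on generators of both arguments commute. -/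
theorem commute_of_gens {A B G : Type*} [Group A] [Group B] [Group G] (f : A →* G) (g : B →* G)
    {S : Set A} {T : Set B} (hS : Subgroup.closure S = ⊤) (hT : Subgroup.closure T = ⊤)
    (h : ∀ a ∈ S, ∀ b ∈ T, Commute (f a) (g b)) (a : A) (b : B) : Commute (f a) (g b) := by
  have h1 : ∀ a ∈ S, ∀ b, Commute (f a) (g b) := fun a ha b => by
    refine Subgroup.closure_induction (p := fun b _ => Commute (f a) (g b)) (fun b hb => h a ha b hb)
      ?_ ?_ ?_ (show b ∈ Subgroup.closure T by rw [hT]; exact Subgroup.mem_top b)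
    · rw [map_one]; exact Commute.one_right _
    · intro x y _ _ hx hy; rw [map_mul]; exact hx.mul_right hy
    · intro x _ hx; rw [map_inv]; exact hx.inv_right
  refine Subgroup.closure_induction (p := fun a _ => Commute (f a) (g b)) (fun a ha => h1 a ha b)
    ?_ ?_ ?_ (show a ∈ Subgroup.closure S by rw [hS]; exact Subgroup.mem_top a)
  · rw [map_one]; exact Commute.one_left _
  · intro x y _ _ hx hy; rw [map_mul]; exact hx.mul_left hy
  · intro x _ hx; rw [map_inv]; exact hx.inv_left

/-- A block glued to `A_n`. -/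
structure Block (hF : Fintype.card F = q ^ 2) (hk : 2 ≤ k) (hkn : k ≤ n) (G : Type*) [Group G] where
  α : alternatingGroup (Fin n) →* G
  β : Cfsg.SU k F q →* G
  T : Set (Cfsg.SU k F q)
  gen : Subgroup.closure T = ⊤
  Z : Set (alternatingGroup (Fin n))
  hZ : ∀ τ : alternatingGroup (Fin n), Set.range (mv' hkn τ) = Set.range (first hkn) → τ ∈ Subgroup.closure Z
  hrel : ∀ z ∈ Z, ∀ g ∈ T, ∃ g', emb (mv' hkn z) g = emb (first hkn) g' ∧ α z * β g * (α z)⁻¹ = β g'

namespace Block

variable {hF : Fintype.card F = q ^ 2} {hk : 2 ≤ k} {hkn : k ≤ n} {G : Type*} [Group G] (B : Block hF hk hkn G)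

/-- The conjugates of the hom on the first block. -/
def Φ (s : alternatingGroup (Fin n)) : Cfsg.SU k F q →* G :=
  (MulAut.conj (B.α s)).toMonoidHom.comp B.β

theorem Φ_apply (s : alternatingGroup (Fin n)) (g : Cfsg.SU k F q) :
    B.Φ s g = B.α s * B.β g * (B.α s)⁻¹ := rfl

theorem Φ_mul (u s : alternatingGroup (Fin n)) (g : Cfsg.SU k F q) :
    B.Φ (u * s) g = B.α u * B.Φ s g * (B.α u)⁻¹ := by
  simp only [Φ_apply, map_mul, _root_.mul_inv_rev]; group

theorem Φ_one (g : Cfsg.SU k F q) : B.Φ 1 g = B.β g := by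
  simp [Φ_apply]

include B in
theorem stab (τ : alternatingGroup (Fin n)) (hτ : Set.range (mv' hkn τ) = Set.range (first hkn))
    (g : Cfsg.SU k F q) : ∃ g', emb (mv' hkn τ) g = emb (first hkn) g' ∧ B.Φ τ g = B.Φ 1 g' := by
  classical
  let good : alternatingGroup (Fin n) → Cfsg.SU k F q → Prop := fun τ g => ∃ g',
    emb (mv' hkn τ) g = emb (first hkn) g' ∧ B.Φ τ g = B.Φ 1 g'
  have hmul : ∀ a b, (∀ g, good a g) → (∀ g, good b g) → ∀ g, good (a * b) g := by
    intro a b ha hb g
    obtain ⟨g₁, e₁, f₁⟩ := hb g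
    obtain ⟨g₂, e₂, f₂⟩ := ha g₁
    refine ⟨g₂, ?_, ?_⟩
    · rw [emb_mv'_mul hF, e₁, ← mv'_one hkn, ← emb_mv'_mul hF, mul_one, mv'_one, e₂]
    · rw [Φ_mul, f₁, ← Φ_mul, mul_one, f₂]
  have hone : ∀ g, good 1 g := fun g => ⟨g, rfl, rfl⟩
  have hZgood : ∀ z ∈ B.Z, ∀ g, good z g := by
    intro z hz g
    refine Subgroup.closure_induction (p := fun g _ => good z g) (fun g hg => ?_) ?_ ?_ ?_
      (show g ∈ Subgroup.closure B.T by rw [B.gen]; exact Subgroup.mem_top g)
    · obtain ⟨g', e, f⟩ := B.hrel z hz g hg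
      exact ⟨g', e, by rw [Φ_one, Φ_apply, f]⟩
    · exact ⟨1, by simp, by simp⟩
    · rintro a b - - ⟨a', ea, fa⟩ ⟨b', eb, fb⟩
      exact ⟨a' * b', by rw [map_mul, map_mul, ea, eb], by rw [map_mul, map_mul, fa, fb]⟩
    · rintro a - ⟨a', ea, fa⟩
      exact ⟨a'⁻¹, by rw [map_inv, map_inv, ea], by rw [map_inv, map_inv, fa]⟩
  let S : Submonoid (alternatingGroup (Fin n)) :=
    { carrier := {τ | ∀ g, good τ g}, one_mem' := hone, mul_mem' := fun {a b} ha hb => hmul a b ha hb }
  have hmem := B.hZ τ hτ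
  rw [← Subgroup.mem_toSubmonoid, Subgroup.closure_toSubmonoid_of_finite] at hmem
  exact (Submonoid.closure_le.2 (show B.Z ⊆ S from hZgood) hmem) g

/-- Two presentations of one element of a block give the same element. -/
theorem key {s t : alternatingGroup (Fin n)} {g g' : Cfsg.SU k F q}
    (hr : Set.range (mv' hkn s) = Set.range (mv' hkn t)) (he : emb (mv' hkn s) g = emb (mv' hkn t) g') :
    B.Φ s g = B.Φ t g' := by
  have hτ : Set.range (mv' hkn (t⁻¹ * s)) = Set.range (first hkn) := by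
    rw [mv'_mul, range_trans hr, ← mv'_mul, inv_mul_cancel, mv'_one]
  obtain ⟨g₁, e, f⟩ := B.stab _ hτ g
  have hst : t * (t⁻¹ * s) = s := mul_inv_cancel_left t s
  have hh : g₁ = g' := by
    refine emb_injective (mv' hkn t) ?_
    rw [← he]
    conv_rhs => rw [← hst, emb_mv'_mul hF, e, ← mv'_one hkn, ← emb_mv'_mul hF, mul_one]
  conv_lhs => rw [← hst, Φ_mul, f, hh, ← Φ_mul, mul_one]

include hF hk in
theorem exists_mv (K : Fin k ↪ Fin n) :
    ∃ t : alternatingGroup (Fin n), Set.range (mv' hkn t) = Set.range K := by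
  obtain ⟨t, ht | ht⟩ := exists_even hk (first hkn) K
  · exact ⟨t, congrArg Set.range (funext fun j => ht j)⟩
  · refine ⟨t, ?_⟩
    rw [← (Equiv.swap (⟨0, by omega⟩ : Fin k) ⟨1, by omega⟩).surjective.range_comp]
    exact congrArg Set.range (funext fun j => ht j)

include B in
theorem exists_val (K : Fin k ↪ Fin n) (g : Cfsg.SU k F q) :
    ∃ y, ∀ (t : alternatingGroup (Fin n)) (g' : Cfsg.SU k F q), Set.range (mv' hkn t) = Set.range K →
      emb (mv' hkn t) g' = emb K g → B.Φ t g' = y := by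
  obtain ⟨t, ht⟩ := exists_mv (hF := hF) (hk := hk) (hkn := hkn) K
  obtain ⟨g₀, h0⟩ := exists_reorient hF K (mv' hkn t) ht g
  exact ⟨B.Φ t g₀, fun t' g' hr he => B.key (hr.trans ht.symm) (he.trans h0.symm)⟩

/-- The value of an element of the block `K`. -/
noncomputable def V (K : Fin k ↪ Fin n) (g : Cfsg.SU k F q) : G := (B.exists_val K g).choose

theorem V_eq {K : Fin k ↪ Fin n} {g : Cfsg.SU k F q} (t : alternatingGroup (Fin n)) (g' : Cfsg.SU k F q)
    (hr : Set.range (mv' hkn t) = Set.range K) (he : emb (mv' hkn t) g' = emb K g) : B.V K g = B.Φ t g' :=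
  ((B.exists_val K g).choose_spec t g' hr he).symm

theorem V_first (g : Cfsg.SU k F q) : B.V (first hkn) g = B.β g := by
  rw [B.V_eq (K := first hkn) 1 g rfl rfl, Φ_one]

theorem V_reorient {K K' : Fin k ↪ Fin n} {g g' : Cfsg.SU k F q} (hr : Set.range K = Set.range K')
    (he : emb K g = emb K' g') : B.V K g = B.V K' g' := by
  obtain ⟨t, ht⟩ := exists_mv (hF := hF) (hk := hk) (hkn := hkn) K
  obtain ⟨g₀, h0⟩ := exists_reorient hF K (mv' hkn t) ht g
  rw [B.V_eq t g₀ ht h0, B.V_eq t g₀ (ht.trans hr) (h0.trans he)]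

/-- A renumbered block. -/
theorem V_emb (π : Equiv.Perm (Fin k)) (K : Fin k ↪ Fin n) (g : Cfsg.SU k F q) :
    B.V K (emb π.toEmbedding g) = B.V (π.toEmbedding.trans K) g :=
  B.V_reorient (by rw [Function.Embedding.coe_trans, Set.range_comp, Equiv.coe_toEmbedding,
    π.surjective.range_eq, Set.image_univ]) (emb_trans _ _ _)

theorem V_conj (u : alternatingGroup (Fin n)) (K : Fin k ↪ Fin n) (g : Cfsg.SU k F q) :
    B.α u * B.V K g * (B.α u)⁻¹ = B.V (K.trans (u : Equiv.Perm (Fin n)).toEmbedding) g := by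
  obtain ⟨t, ht⟩ := exists_mv (hF := hF) (hk := hk) (hkn := hkn) K
  obtain ⟨g₀, h0⟩ := exists_reorient hF K (mv' hkn t) ht g
  rw [B.V_eq t g₀ ht h0, B.V_eq (u * t) g₀ ?_ ?_, Φ_mul]
  · exact range_trans ht (u : Equiv.Perm (Fin n)).toEmbedding
  · rw [emb_mv'_mul hF, h0, permSU_conj_emb]

end Block

end Cfsg.Agent.Lib.ShortPresSU
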