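import Cfsg.Agent.Lib.CosetEnum.Prim

/-!
# A small certificate for the index of a subgroup

A full coset table, each of whose edges is either a tree edge or closes a relator scanned through
edges of smaller rank. It bounds the index from above.
-/

set_option autoImplicit false

namespace Cfsg.Agent.Lib.ShortPresSU.Cert

open CosetEnum (PTree get32 force allBelow force_eq allBelow_iff)

/-- The static data: letters, cosets, table, ranks, starts and relator positions. -/
structure Tab where
  /-- letters -/
  K : ℕ
  /-- cosets -/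
  N : ℕ
  /-- table -/
  T : PTree
  /-- ranks -/
  R : PTree
  /-- scan starts -/
  A : PTree
  /-- relator and position, packed -/
  J : PTree
  /-- tree edge leading to a coset -/
  P : PTree

variable (d : Tab)

/-- Follow a word through edges of rank below `r`. -/
noncomputable def walk (r : ℕ) (l : List ℕ) (j : ℕ) (i : ℕ) : Bool :=
  List.rec (motive := fun _ => ℕ → Bool) (fun i => Nat.beq i j)
    (fun g _ ih i => force (Nat.add (Nat.mul i d.K) g) fun e =>
      Nat.blt g d.K && Nat.blt (get32 d.R e) r && force (get32 d.T e) ih) l i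

/-- The check of one edge. The words before `nfree` hold everywhere, the later ones at the start. -/
noncomputable def edgeOK (words : List (List ℕ)) (nfree : ℕ) (i g : ℕ) : Bool :=
  force (Nat.add (Nat.mul i d.K) g) fun e =>
  force (get32 d.T e) fun t =>
  force (get32 d.R e) fun r =>
  force (get32 d.J e) fun jd =>
  force (Nat.div jd 64) fun ri =>
  force (Nat.mod jd 64) fun pos =>
  force (get32 d.A e) fun a =>
  Nat.blt t d.N &&
  Bool.rec
    (Nat.blt pos (words.getD ri []).length && Nat.beq ((words.getD ri []).getD pos 0) g &&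
      Nat.blt a d.N && (Nat.blt ri nfree || Nat.beq a 0) &&
      walk d r ((words.getD ri []).take pos) i a && walk d r ((words.getD ri []).drop (Nat.add pos 1)) a t)
    (Nat.blt i t && Nat.beq (get32 d.P t) e)
    (Nat.beq ri words.length)

/-- The whole check. -/
noncomputable def check (words : List (List ℕ)) (nfree : ℕ) : Bool :=
  Nat.blt 0 d.N && allBelow d.N fun i => allBelow d.K fun g => edgeOK d words nfree i g

/-- The value of a word. -/
def val {G : Type*} [Group G] (φ : ℕ → G) (l : List ℕ) : G := (l.map φ).prod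

/-- The representative of a coset. -/
noncomputable def cs {G : Type*} [Group G] (φ : ℕ → G) : ℕ → G
  | i => if h : get32 d.P i / d.K < i then cs φ (get32 d.P i / d.K) * φ (get32 d.P i % d.K) else 1
termination_by i => i

variable {d}

theorem cs_zero {G : Type*} [Group G] (φ : ℕ → G) : cs d φ 0 = 1 := by
  rw [cs, dif_neg (Nat.not_lt_zero _)]

variable {G : Type*} [Group G] {φ : ℕ → G} {H : Subgroup G}

/-- What an edge asserts. -/
def Edge (d : Tab) (φ : ℕ → G) (H : Subgroup G) (i g : ℕ) : Prop :=
  cs d φ i * φ g * (cs d φ (get32 d.T (i * d.K + g)))⁻¹ ∈ H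

theorem walk_sound {r : ℕ} (hT : ∀ i < d.N, ∀ g < d.K, get32 d.T (i * d.K + g) < d.N)
    (hE : ∀ i < d.N, ∀ g < d.K, get32 d.R (i * d.K + g) < r → Edge d φ H i g) :
    ∀ (l : List ℕ) (j i : ℕ), i < d.N → walk d r l j i = true →
      cs d φ i * val φ l * (cs d φ j)⁻¹ ∈ H := by
  intro l
  induction l with
  | nil =>
    intro j i _ h
    change Nat.beq i j = true at h
    rw [Nat.beq_eq] at h
    subst h
    simp [val, H.one_mem]
  | cons g l ih =>
    intro j i hi h
    change force (Nat.add (Nat.mul i d.K) g) (fun e => Nat.blt g d.K && Nat.blt (get32 d.R e) r &&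
      force (get32 d.T e) (walk d r l j)) = true at h
    simp only [force_eq, Bool.and_eq_true, Nat.blt_eq, Nat.add_eq, Nat.mul_eq] at h
    obtain ⟨⟨hg, hr⟩, h⟩ := h
    have h1 := hE i hi g hg hr
    have h2 := ih j _ (hT i hi g hg) h
    have := H.mul_mem h1 h2
    convert this using 1
    simp only [val, List.map_cons, List.prod_cons]
    group

variable {words : List (List ℕ)} {nfree : ℕ}

theorem edge_bound (hc : check d words nfree = true) : ∀ i < d.N, ∀ g < d.K, get32 d.T (i * d.K + g) < d.N := by
  intro i hi g hg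
  have h := allBelow_iff.1 (allBelow_iff.1 ((Bool.and_eq_true _ _).mp hc).2 i hi) g hg
  simp only [edgeOK, force_eq, Bool.and_eq_true, Nat.blt_eq, Nat.add_eq, Nat.mul_eq] at h
  exact h.1

theorem edge_sound (hc : check d words nfree = true)
    (hfree : ∀ k < nfree, val φ (words.getD k []) = 1)
    (hsub : ∀ k < words.length, val φ (words.getD k []) ∈ H) :
    ∀ i < d.N, ∀ g < d.K, Edge d φ H i g := by
  suffices ∀ r, ∀ i < d.N, ∀ g < d.K, get32 d.R (i * d.K + g) = r → Edge d φ H i g from
    fun i hi g hg => this _ i hi g hg rfl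
  intro r
  induction r using Nat.strong_induction_on with
  | _ r ih =>
    intro i hi g hg hr
    have hT := edge_bound hc
    have h := allBelow_iff.1 (allBelow_iff.1 ((Bool.and_eq_true _ _).mp hc).2 i hi) g hg
    simp only [edgeOK, force_eq, Bool.and_eq_true, Nat.blt_eq, Nat.add_eq, Nat.mul_eq] at h
    obtain ⟨ht, h⟩ := h
    set e := i * d.K + g with he
    cases hb : Nat.beq (Nat.div (get32 d.J e) 64) words.length
    · rw [hb] at h
      simp only [Bool.and_eq_true, Bool.or_eq_true, Nat.blt_eq, Nat.beq_eq] at h
      set ri := Nat.div (get32 d.J e) 64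
      set pos := Nat.mod (get32 d.J e) 64
      set w := words.getD ri [] with hw
      set a := get32 d.A e
      obtain ⟨⟨⟨⟨⟨hpos, hg'⟩, ha⟩, hfs⟩, hpre⟩, hsuf⟩ := h
      have hE : ∀ i < d.N, ∀ g < d.K, get32 d.R (i * d.K + g) < r → Edge d φ H i g :=
        fun i' hi' g' hg'' hlt => ih _ hlt i' hi' g' hg'' rfl
      rw [hr] at hpre hsuf
      have h1 := walk_sound hT hE _ i a ha hpre
      have h2 := walk_sound hT hE _ a _ ht hsuf
      have hsplit : val φ w = val φ (w.take pos) * φ g * val φ (w.drop (pos + 1)) := by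
        have hwl : w = w.take pos ++ g :: w.drop (pos + 1) := by
          rw [List.getD_eq_getElem _ _ hpos] at hg'
          conv_lhs => rw [← List.take_append_drop pos w, List.drop_eq_getElem_cons hpos, hg']
        conv_lhs => rw [hwl]
        simp only [val, List.map_append, List.map_cons, List.prod_append, List.prod_cons, mul_assoc]
      have hri : ri < words.length := by
        by_contra hge
        rw [hw, List.getD_eq_default _ _ (by omega)] at hpos
        simp at hpos
      have hmid : cs d φ a * val φ w * (cs d φ a)⁻¹ ∈ H := by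
        rcases hfs with h0 | h0
        · rw [hfree ri h0]; simp [H.one_mem]
        · rw [h0, cs_zero, one_mul, inv_one, mul_one]; exact hsub ri hri
      show cs d φ i * φ g * (cs d φ (get32 d.T e))⁻¹ ∈ H
      have := H.mul_mem (H.mul_mem (H.inv_mem h1) hmid) (H.inv_mem h2)
      convert this using 1
      rw [hsplit]
      group
    · rw [hb] at h
      simp only [Bool.and_eq_true, Nat.blt_eq, Nat.beq_eq] at h
      obtain ⟨hit, hP⟩ := h
      show cs d φ i * φ g * (cs d φ (get32 d.T e))⁻¹ ∈ H
      have hdiv : get32 d.P (get32 d.T e) / d.K = i := by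
        rw [hP, he, Nat.mul_comm, Nat.mul_add_div (by omega), Nat.div_eq_of_lt hg, add_zero]
      have hmod : get32 d.P (get32 d.T e) % d.K = g := by
        rw [hP, he, Nat.mul_comm, Nat.mul_add_mod, Nat.mod_eq_of_lt hg]
      have hcs : cs d φ (get32 d.T e) = cs d φ i * φ g := by
        rw [cs, dif_pos (by rw [hdiv]; exact hit), hdiv, hmod]
      rw [hcs, mul_inv_cancel]
      exact H.one_mem

/-- A checked table bounds the order of a group generated by the letters. -/
theorem card_le (hc : check d words nfree = true) (hfree : ∀ k < nfree, val φ (words.getD k []) = 1)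
    (hsub : ∀ k < words.length, val φ (words.getD k []) ∈ H)
    (hinv : ∀ g < d.K, ∃ g' < d.K, φ g' = (φ g)⁻¹) (hgen : Subgroup.closure (φ '' Set.Iio d.K) = ⊤)
    [Finite H] : Finite G ∧ Nat.card G ≤ d.N * Nat.card H := by
  have hE := edge_sound hc hfree hsub
  have hT := edge_bound hc
  have hN : 0 < d.N := by
    have := ((Bool.and_eq_true _ _).mp hc).1
    rwa [Nat.blt_eq] at this
  have hcov : ∀ x : G, ∃ i < d.N, x * (cs d φ i)⁻¹ ∈ H := by
    intro x
    have hx : x ∈ Subgroup.closure (φ '' Set.Iio d.K) := by rw [hgen]; exact Subgroup.mem_top x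
    have hstep : ∀ (y : G) (g : ℕ), g < d.K → (∃ i < d.N, y * (cs d φ i)⁻¹ ∈ H) →
        ∃ i < d.N, y * φ g * (cs d φ i)⁻¹ ∈ H := by
      rintro y g hg ⟨i, hi, hy⟩
      refine ⟨_, hT i hi g hg, ?_⟩
      have := H.mul_mem hy (hE i hi g hg)
      convert this using 1
      group
    induction hx using Subgroup.closure_induction_right with
    | one => exact ⟨0, hN, by rw [cs_zero]; simp [H.one_mem]⟩
    | mul_right x _ y hy ih =>
      obtain ⟨g, hg, rfl⟩ := hy
      exact hstep x g hg ih
    | mul_inv_cancel x _ y hy ih =>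
      obtain ⟨g, hg, rfl⟩ := hy
      obtain ⟨g', hg', e⟩ := hinv g hg
      rw [← e]
      exact hstep x g' hg' ih
  let f : Fin d.N × H → G := fun p => (p.2 : G) * cs d φ p.1
  have hf : Function.Surjective f := fun x => by
    obtain ⟨i, hi, hx⟩ := hcov x
    exact ⟨(⟨i, hi⟩, ⟨_, hx⟩), by simp [f]⟩
  refine ⟨Finite.of_surjective f hf, (Nat.card_le_card_of_surjective f hf).trans ?_⟩
  rw [Nat.card_prod, Nat.card_fin]

end Cfsg.Agent.Lib.ShortPresSU.Cert
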