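import Cfsg.Agent.Lib.ShortPresSU.Gen
import Cfsg.Agent.Lib.Phan.Emb

/-!
# Short presentations of `SU_n`, part 3: block embeddings and permutations
-/

set_option autoImplicit false
set_option linter.unusedSectionVars false

namespace Cfsg.Agent.Lib.ShortPresSU

open Matrix Cfsg.Agent.Lib.Unitary Cfsg.Agent.Lib.Phan

variable {F : Type*} [Field F] [Fintype F] {q n k : ℕ}

/-- The first coordinates. -/
abbrev first (h : k ≤ n) : Fin k ↪ Fin n := Fin.castLEEmb h

/-- The pair on which a permutation puts the first two coordinates. -/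
def pr (h : 2 ≤ n) (s : Equiv.Perm (Fin n)) : Fin 2 ↪ Fin n := (first h).trans s.toEmbedding

theorem su_ext_act {g h : Cfsg.SU n F q} (e : ∀ v x, act g v x = act h v x) : g = h :=
  su_ext fun v => funext (e v)

theorem act_permSU (hF : Fintype.card F = q ^ 2) (σ : alternatingGroup (Fin n)) (v : Fin n → F)
    (x : Fin n) : act (permSU hF σ) v x = v ((σ : Equiv.Perm (Fin n)).symm x) :=
  permSU_mulVec hF σ v x

/-- Conjugating a block element by a permutation. -/
theorem permSU_conj_emb (hF : Fintype.card F = q ^ 2) (σ : alternatingGroup (Fin n)) (ι : Fin k ↪ Fin n)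
    (A : Cfsg.SU k F q) :
    permSU hF σ * emb ι A * (permSU hF σ)⁻¹ = emb (ι.trans (σ : Equiv.Perm (Fin n)).toEmbedding) A := by
  rw [mul_inv_eq_iff_eq_mul]
  refine su_ext_act fun v x => ?_
  rw [act_mul, act_mul, act_permSU]
  by_cases hx : ∃ j, ι.trans (σ : Equiv.Perm (Fin n)).toEmbedding j = x
  · obtain ⟨j, rfl⟩ := hx
    rw [act_emb_apply]
    simp only [Function.Embedding.trans_apply, Equiv.coe_toEmbedding, Equiv.symm_apply_apply]
    rw [act_emb_apply]
    simp only [act_permSU, Equiv.symm_apply_apply]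
  · push Not at hx
    rw [act_emb_off _ _ _ hx, act_emb_off _ _ _ fun j e => hx j (by simp [e]), act_permSU]

/-- A block element of the same block for another numbering. -/
theorem exists_reorient (hF : Fintype.card F = q ^ 2) (ι ι' : Fin k ↪ Fin n)
    (h : Set.range ι' = Set.range ι) (A : Cfsg.SU k F q) : ∃ A', emb ι' A' = emb ι A := by
  refine exists_emb hF ι' (emb_mem_fix ι A fun j hj => ?_)
  obtain ⟨i, hi⟩ : ι j ∈ Set.range ι' := h ▸ Set.mem_range_self j
  simp [← hi] at hj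

theorem emb_apply_comm {l : ℕ} (ι : Fin k ↪ Fin n) (κ : Fin l ↪ Fin n) (hd : ∀ i j, ι i ≠ κ j)
    (A : Cfsg.SU k F q) (B : Cfsg.SU l F q) : Commute (emb ι A) (emb κ B) := by
  refine su_ext_act fun v x => ?_
  rw [act_mul, act_mul]
  by_cases hx : ∃ j, ι j = x
  · obtain ⟨j, rfl⟩ := hx
    rw [act_emb_apply, act_emb_off κ B _ (fun i => (hd j i).symm), act_emb_apply]
    exact congrArg (fun w => act A w j) (funext fun i => act_emb_off κ B v fun m => (hd i m).symm)
  push Not at hx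
  rw [act_emb_off ι A _ hx]
  by_cases hy : ∃ j, κ j = x
  · obtain ⟨j, rfl⟩ := hy
    rw [act_emb_apply, act_emb_apply]
    exact congrArg (fun w => act B w j) (funext fun i => (act_emb_off ι A v fun m => hd m i).symm)
  · push Not at hy
    rw [act_emb_off κ B _ hy, act_emb_off κ B _ hy, act_emb_off ι A _ hx]

theorem permSU_eq_emb (hF : Fintype.card F = q ^ 2) (ι : Fin k ↪ Fin n) (σ : alternatingGroup (Fin n))
    (c : alternatingGroup (Fin k)) (hin : ∀ j, (σ : Equiv.Perm (Fin n)) (ι j) = ι ((c : Equiv.Perm (Fin k)) j))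
    (hout : ∀ x, (∀ j, ι j ≠ x) → (σ : Equiv.Perm (Fin n)) x = x) :
    permSU hF σ = emb ι (permSU hF c) := by
  refine su_ext_act fun v x => ?_
  rw [act_permSU]
  by_cases hx : ∃ j, ι j = x
  · obtain ⟨j, rfl⟩ := hx
    rw [act_emb_apply, act_permSU]
    refine congrArg v ((Equiv.symm_apply_eq _).2 ?_)
    rw [hin, Equiv.apply_symm_apply]
  · push Not at hx
    rw [act_emb_off _ _ _ hx]
    exact congrArg v ((Equiv.symm_apply_eq _).2 (hout x hx).symm)

/-! ### Diagonal elements -/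

theorem diag_cond (hF : Fintype.card F = q ^ 2) {δ : F} (hδ : δ * δ ^ q = 1) :
    δ * δ ^ q + (0 : F) * (0 : F) ^ q = 1 := by simp [hδ]

/-- The diagonal element of `SU₂`. -/
def diag2 (hF : Fintype.card F = q ^ 2) {δ : F} (hδ : δ * δ ^ q = 1) : Cfsg.SU 2 F q :=
  R2 hF (show (0 : Fin 2) ≠ 1 by decide) δ 0 (diag_cond hF hδ)

theorem act_emb_diag2 (hF : Fintype.card F = q ^ 2) {δ : F} (hδ : δ * δ ^ q = 1) (κ : Fin 2 ↪ Fin n)
    (v : Fin n → F) (x : Fin n) :
    act (emb κ (diag2 hF hδ)) v x = (if x = κ 0 then δ else if x = κ 1 then δ ^ q else 1) * v x := by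
  by_cases hx : ∃ j, κ j = x
  · obtain ⟨j, rfl⟩ := hx
    rw [act_emb_apply]
    show ((R2 hF _ δ 0 _).1.1 *ᵥ _) j = _
    rw [R2_mulVec]
    fin_cases j <;> simp [zero_pow_q hF]
  · push Not at hx
    rw [act_emb_off _ _ _ hx, if_neg (fun e => hx 0 e.symm), if_neg (fun e => hx 1 e.symm), one_mul]

theorem emb_diag2_commute (hF : Fintype.card F = q ^ 2) {δ : F} (hδ : δ * δ ^ q = 1) (κ κ' : Fin 2 ↪ Fin n) :
    Commute (emb κ (diag2 hF hδ)) (emb κ' (diag2 hF hδ)) := by
  refine su_ext_act fun v x => ?_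
  simp only [act_mul, act_emb_diag2]
  ring

theorem emb_diag2_mul (hF : Fintype.card F = q ^ 2) {δ : F} (hδ : δ * δ ^ q = 1) (κ κ' μ : Fin 2 ↪ Fin n)
    (ha : κ 0 = μ 0) (hc : κ' 1 = μ 1) (hb : κ 1 = κ' 0) :
    emb κ (diag2 hF hδ) * emb κ' (diag2 hF hδ) = emb μ (diag2 hF hδ) := by
  have h02 : μ 0 ≠ μ 1 := fun e => by simpa using μ.injective e
  have h01 : κ 0 ≠ κ 1 := fun e => by simpa using κ.injective e
  have h12 : κ' 0 ≠ κ' 1 := fun e => by simpa using κ'.injective e
  refine su_ext_act fun v x => ?_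
  simp only [act_mul, act_emb_diag2]
  rw [ha, hc, hb]
  rw [ha, hb] at h01
  rw [hc] at h12
  by_cases h1 : x = μ 0
  · subst h1; simp [h01, h02]
  by_cases h3 : x = κ' 0
  · subst h3
    simp [h1, h12, ← mul_assoc, mul_comm (δ ^ q) δ, hδ]
  by_cases h2 : x = μ 1
  · subst h2; simp [h1, h3]
  simp [h1, h2, h3]

/-- An even permutation moving one tuple onto another, up to the order of the first two. -/
theorem exists_even (hk : 2 ≤ k) (ι ι' : Fin k ↪ Fin n) :
    ∃ s : alternatingGroup (Fin n),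
      (∀ j, (s : Equiv.Perm (Fin n)) (ι j) = ι' j) ∨
      (∀ j, (s : Equiv.Perm (Fin n)) (ι (Equiv.swap ⟨0, by omega⟩ ⟨1, by omega⟩ j)) = ι' j) := by
  classical
  obtain ⟨p, hp⟩ : ∃ p : Equiv.Perm (Fin n), ∀ j, p (ι j) = ι' j := by
    refine ⟨(((Equiv.ofInjective _ ι.injective).symm.trans (Equiv.ofInjective _ ι'.injective))).extendSubtype,
      fun j => ?_⟩
    rw [Equiv.extendSubtype_apply_of_mem _ _ (Set.mem_range_self j)]
    simp
  rcases Int.units_eq_one_or (Equiv.Perm.sign p) with h | h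
  · exact ⟨⟨p, Equiv.Perm.mem_alternatingGroup.2 h⟩, Or.inl hp⟩
  · have hne : ι ⟨0, by omega⟩ ≠ ι ⟨1, by omega⟩ := fun e => by simpa using ι.injective e
    refine ⟨⟨p * Equiv.swap (ι ⟨0, by omega⟩) (ι ⟨1, by omega⟩),
      Equiv.Perm.mem_alternatingGroup.2 (by rw [map_mul, h, Equiv.Perm.sign_swap hne]; rfl)⟩, Or.inr fun j => ?_⟩
    show p (Equiv.swap (ι _) (ι _) (ι (Equiv.swap _ _ j))) = _
    rw [ι.injective.swap_apply, Equiv.swap_apply_self, hp]

/-- Even permutations are transitive on unordered pairs. -/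
theorem exists_pr (h : 2 ≤ n) (K : Fin 2 ↪ Fin n) :
    ∃ t : alternatingGroup (Fin n), Set.range (pr h (t : Equiv.Perm (Fin n))) = Set.range K := by
  obtain ⟨t, ht | ht⟩ := exists_even le_rfl (first h) K
  · exact ⟨t, congrArg Set.range (funext fun j => ht j)⟩
  · refine ⟨t, ?_⟩
    rw [← (Equiv.swap (⟨0, by omega⟩ : Fin 2) ⟨1, by omega⟩).surjective.range_comp]
    exact congrArg Set.range (funext fun j => ht j)

end Cfsg.Agent.Lib.ShortPresSU
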