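import Cfsg.Agent.Lib.ShortPresSU.Gen
import Cfsg.Agent.Lib.ShortPresSU.Emb
import Cfsg.Agent.Lib.ShortPresSU.Cert
import Cfsg.Agent.Lib.CosetEnum.Prim

/-!
# Computations in `SU_k` over a concrete quadratic extension
-/

set_option autoImplicit false
set_option linter.unusedSectionVars false

namespace Cfsg.Agent.Lib.ShortPresSU.Conc

open Matrix Cfsg.Agent.Lib.Unitary Cfsg.Agent.Lib.Phan
open CosetEnum (force force_eq)

/-- `ZMod p` with a root of `X² - b X - a`. -/
abbrev K (p : ℕ) (a b : ZMod p) : Type := QuadraticAlgebra (ZMod p) a b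

variable {p : ℕ} {a b : ZMod p} {k : ℕ}

/-- Decode an element. -/
def dec (c : ℕ) : K p a b := ⟨(c % p : ℕ), (c / p : ℕ)⟩

/-- Encode an element. -/
def enc (x : K p a b) : ℕ := x.re.val + p * x.im.val

/-- Decode a matrix given by rows. -/
def decM (l : List ℕ) : Matrix (Fin k) (Fin k) (K p a b) :=
  Matrix.of fun i j => dec (l.getD (i.val * k + j.val) 0)

/-- Decode a vector. -/
def decV (c : ℕ) : Fin k → K p a b := fun i => dec (c / (p * p) ^ i.val % (p * p))

/-- Encode a vector. -/
def encV (v : Fin k → K p a b) : ℕ :=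
  (List.finRange k).foldr (fun i acc => enc (v i) * (p * p) ^ i.val + acc) 0

/-- Apply a word to a vector, rightmost letter first, and compare. -/
noncomputable def run (gens : List (List ℕ)) (w : List ℕ) (cont : ℕ → Bool) (c : ℕ) : Bool :=
  List.rec (motive := fun _ => (ℕ → Bool) → Bool) (fun cont => cont c)
    (fun g _ ih cont => ih fun c' =>
      force (encV ((decM (gens.getD g []) : Matrix (Fin k) (Fin k) (K p a b)) *ᵥ (decV c'))) fun c'' =>
        decide ((decV c'' : Fin k → K p a b) =
          (decM (gens.getD g []) : Matrix (Fin k) (Fin k) (K p a b)) *ᵥ (decV c')) && cont c'') w cont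

/-- A word takes a coded vector to a given one. -/
noncomputable def moves (gens : List (List ℕ)) (w : List ℕ) (c : ℕ) (u : Fin k → K p a b) : Bool :=
  run (p := p) (a := a) (b := b) (k := k) gens w (fun c' => decide (decV c' = u)) c

theorem run_sound (gens : List (List ℕ)) : ∀ (w : List ℕ) (cont : ℕ → Bool) (c : ℕ),
    run (p := p) (a := a) (b := b) (k := k) gens w cont c = true →
      ∃ c', cont c' = true ∧ (decV c' : Fin k → K p a b) =
        ((w.map fun g => (decM (gens.getD g []) : Matrix (Fin k) (Fin k) (K p a b))).prod) *ᵥ decV c := by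
  intro w
  induction w with
  | nil => intro cont c h; exact ⟨c, h, by simp⟩
  | cons g w ih =>
    intro cont c h
    obtain ⟨c', hc', e⟩ := ih _ c h
    simp only [force_eq, Bool.and_eq_true, decide_eq_true_eq] at hc'
    refine ⟨_, hc'.2, ?_⟩
    rw [hc'.1, e, List.map_cons, List.prod_cons, Matrix.mulVec_mulVec]

theorem moves_sound {gens : List (List ℕ)} {w : List ℕ} {c : ℕ} {u : Fin k → K p a b}
    (h : moves gens w c u = true) :
    ((w.map fun g => (decM (gens.getD g []) : Matrix (Fin k) (Fin k) (K p a b))).prod) *ᵥ decV c = u := by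
  obtain ⟨c', hc', e⟩ := run_sound gens w _ c h
  rw [decide_eq_true_eq] at hc'
  rw [← e, hc']

/-- The generators are unitary of determinant one. -/
def GensOK (q k : ℕ) (gens : List (List ℕ)) : Prop :=
  ∀ g < gens.length, (decM (gens.getD g []) : Matrix (Fin k) (Fin k) (K p a b)).det = 1 ∧
    ∀ i j, (∑ l, (decM (gens.getD g []) : Matrix (Fin k) (Fin k) (K p a b)) l i *
      ((decM (gens.getD g []) : Matrix (Fin k) (Fin k) (K p a b)) l j) ^ q) = if i = j then 1 else 0

variable {F : Type*} [Field F] [Fintype F] {q : ℕ}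

theorem herm_of_gram (hF : Fintype.card F = q ^ 2) {A : Matrix (Fin k) (Fin k) F}
    (h : ∀ i j, (∑ l, A l i * (A l j) ^ q) = if i = j then 1 else 0) (u v : Fin k → F) :
    hermForm k F q (A *ᵥ u) (A *ᵥ v) = hermForm k F q u v := by
  simp only [hermForm, Matrix.mulVec, dotProduct, sum_pow_q hF, mul_pow, Finset.sum_mul, Finset.mul_sum]
  rw [Finset.sum_comm]
  refine Finset.sum_congr rfl fun i _ => ?_
  rw [Finset.sum_comm, Finset.sum_eq_single i (fun j _ hj => ?_) (fun hh => absurd (Finset.mem_univ i) hh)]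
  · have e := h i i
    rw [if_pos rfl] at e
    calc ∑ l, A l i * u i * (A l i ^ q * v i ^ q) = (∑ l, A l i * A l i ^ q) * (u i * v i ^ q) := by
          rw [Finset.sum_mul]; exact Finset.sum_congr rfl fun l _ => by ring
      _ = u i * v i ^ q := by rw [e, one_mul]
  · have e := h j i
    rw [if_neg hj] at e
    calc ∑ l, A l j * u j * (A l i ^ q * v i ^ q) = (∑ l, A l j * A l i ^ q) * (u j * v i ^ q) := by
          rw [Finset.sum_mul]; exact Finset.sum_congr rfl fun l _ => by ring
      _ = 0 := by rw [e, zero_mul]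

open Classical in
/-- A coded matrix as an element of `SU`. -/
noncomputable def toSU (φ : K p a b →+* F) (q k : ℕ) (l : List ℕ) : Cfsg.SU k F q :=
  if h : ((decM l : Matrix (Fin k) (Fin k) (K p a b)).map φ).det = 1 ∧
      ∀ u v, hermForm k F q (((decM l : Matrix (Fin k) (Fin k) (K p a b)).map φ) *ᵥ u)
        (((decM l : Matrix (Fin k) (Fin k) (K p a b)).map φ) *ᵥ v) = hermForm k F q u v
  then ⟨⟨_, h.1⟩, h.2⟩ else 1

variable (φ : K p a b →+* F)

theorem toSU_val (hF : Fintype.card F = q ^ 2) {gens : List (List ℕ)} (hok : GensOK (p := p) (a := a) (b := b) q k gens)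
    {g : ℕ} (hg : g < gens.length) :
    (toSU φ q k (gens.getD g [])).1.1 = (decM (gens.getD g []) : Matrix (Fin k) (Fin k) (K p a b)).map φ := by
  obtain ⟨hd, hh⟩ := hok g hg
  rw [toSU, dif_pos]
  refine ⟨?_, herm_of_gram hF fun i j => ?_⟩
  · have := RingHom.map_det φ (decM (gens.getD g []) : Matrix (Fin k) (Fin k) (K p a b))
    rw [hd, map_one] at this
    exact this.symm
  · have := congrArg φ (hh i j)
    rw [map_sum] at this
    simp only [map_mul, map_pow] at this
    simp only [Matrix.map_apply]
    rw [this]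
    split_ifs <;> simp

/-- The letters as elements of `SU`. -/
noncomputable def letter (q k : ℕ) (gens : List (List ℕ)) (g : ℕ) : Cfsg.SU k F q :=
  toSU φ q k (gens.getD g [])

theorem val_mulVec (hF : Fintype.card F = q ^ 2) {gens : List (List ℕ)}
    (hok : GensOK (p := p) (a := a) (b := b) q k gens) :
    ∀ {w : List ℕ}, (∀ g ∈ w, g < gens.length) → ∀ v : Fin k → K p a b,
      (Cert.val (letter φ q k gens) w).1.1 *ᵥ (φ ∘ v) =
        φ ∘ (((w.map fun g => (decM (gens.getD g []) : Matrix (Fin k) (Fin k) (K p a b))).prod) *ᵥ v) := by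
  intro w
  induction w with
  | nil => intro _ v; simp [Cert.val, SU_one_mulVec]
  | cons g w ih =>
    intro hw v
    show (letter φ q k gens g * Cert.val (letter φ q k gens) w).1.1 *ᵥ (φ ∘ v) = _
    rw [SU_mulVec_mul, ih (fun x hx => hw x (List.mem_cons_of_mem _ hx)), letter,
      toSU_val φ hF hok (hw g List.mem_cons_self), List.map_cons, List.prod_cons, ← Matrix.mulVec_mulVec]
    funext i
    exact (RingHom.map_mulVec φ _ _ i).symm

/-- A checked movement, in `SU`. -/
theorem act_of_moves (hF : Fintype.card F = q ^ 2) {gens : List (List ℕ)}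
    (hok : GensOK (p := p) (a := a) (b := b) q k gens) {w : List ℕ} (hw : ∀ g ∈ w, g < gens.length) {c : ℕ}
    {u : Fin k → K p a b} (h : moves gens w c u = true) :
    act (Cert.val (letter φ q k gens) w) (φ ∘ decV c) = φ ∘ u := by
  rw [act, val_mulVec φ hF hok hw, moves_sound h]

/-- The code of a basis vector. -/
def bc (p : ℕ) (j : ℕ) : ℕ := (p * p) ^ j

/-- The words that are trivial: they fix the coded basis. -/
noncomputable def isOne (gens : List (List ℕ)) (w : List ℕ) : Bool :=
  (List.finRange k).all fun j => moves (p := p) (a := a) (b := b) gens w (bc p j.val) (Pi.single j 1)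

/-- All words of a list are trivial. -/
def BasisOK (p k : ℕ) (a b : ZMod p) : Prop :=
  ∀ j : Fin k, (decV (bc p j.val) : Fin k → K p a b) = Pi.single j 1

theorem val_eq_one (hF : Fintype.card F = q ^ 2) (hb : BasisOK p k a b) {gens : List (List ℕ)}
    (hok : GensOK (p := p) (a := a) (b := b) q k gens) {w : List ℕ} (hw : ∀ g ∈ w, g < gens.length)
    (h : isOne (k := k) (p := p) (a := a) (b := b) gens w = true) : Cert.val (letter φ q k gens) w = 1 := by
  refine Subtype.ext (Subtype.ext (Matrix.ext_of_mulVec_single fun j => ?_))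
  have hj := List.all_eq_true.1 h j (List.mem_finRange j)
  have e := act_of_moves φ hF hok hw hj
  have hs : φ ∘ (Pi.single j 1 : Fin k → K p a b) = Pi.single j 1 := by
    funext x
    by_cases hx : x = j
    · subst hx; simp
    · simp [hx]
  rw [hb j, hs] at e
  rw [show (1 : Cfsg.SU k F q).1.1 *ᵥ Pi.single j (1 : F) = Pi.single j 1 from SU_one_mulVec _]
  exact e

end Cfsg.Agent.Lib.ShortPresSU.Conc
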