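import Cfsg.Agent.Lib.ShortPresSU.SmallMain
import Cfsg.Agent.Lib.ShortPresSU.AltFour
import Cfsg.Agent.Lib.ShortPresSU3.Final
import Cfsg.Agent.Lib.ShortPresSU3.Model
import Cfsg.Agent.Lib.ShortPresSU3.Center
import Cfsg.Agent.Lib.ShortPresSym.Subst

/-!
# Short presentations of `SU_n`: the bounds
-/

set_option autoImplicit false
set_option linter.unusedSectionVars false

namespace Cfsg.Agent.Lib.ShortPresSU

open Cfsg.Agent.Lib.Unitary
open ShortPresSLn (HasPres)

variable {F : Type*} [Field F] [Fintype F] {q n : ℕ}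

theorem hasPres_three (hF : Fintype.card F = q ^ 2) (h2 : q ≠ 2) : HasPres 3 23 (Cfsg.SU 3 F q) := by
  obtain ⟨e⟩ := ShortPresSU3.exists_equiv hF
  exact ShortPresSU3.HasPres.congr (ShortPresSU3.hasPres_H3 hF h2) e

/-- At most `35` relators for degree four and five, `39` in general, on six generators. -/
theorem hasPres_SU (hF : Fintype.card F = q ^ 2) (hn : 4 ≤ n) :
    HasPres 6 (if n ≤ 5 then 35 else 39) (Cfsg.SU n F q) := by
  have h1q := one_lt_q hF
  obtain ⟨ra, hra, hA⟩ : ∃ ra, ra ≤ (if n ≤ 5 then 3 else 8) ∧ HasPres 2 ra (alternatingGroup (Fin n)) := by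
    rcases (show n = 4 ∨ n = 5 ∨ 6 ≤ n by omega) with rfl | rfl | h6
    · exact ⟨3, by norm_num, hasPres_alt_four⟩
    · exact ⟨3, by norm_num, hasPres_alt_five⟩
    · exact ⟨8, by rw [if_neg (by omega)], (ShortPresSym.hasPres_all n (by omega)).2.two_eight⟩
  by_cases hq : 4 ≤ q
  · refine (hasPres_glue hF hn hq hA (hasPres_three hF (by omega))).pad.mono ?_
    split_ifs at * <;> omega
  have hq' : q = 2 ∨ q = 3 := by omega
  rcases (show n = 4 ∨ 5 ≤ n by omega) with rfl | h5
  · obtain ⟨x₁, x₂, r, -, hr, h⟩ := exists_base hF hq'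
    refine h.pad.pad.pad.mono ?_
    rw [if_pos (by omega)]
    split_ifs at hr <;> omega
  · refine (hasPres_small hF hq' h5 hA).pad.mono ?_
    split_ifs at * <;> omega

end Cfsg.Agent.Lib.ShortPresSU
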