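import Cfsg.Agent.Lib.ShortPresSU.Pair
import Cfsg.Agent.Lib.Unitary.Order

/-!
# Short presentations of `SU_n`, part 2: generation

`SU₂` is generated by the diagonal torus and the diagonal conjugates of one element, and for
`q ≠ 2` two adjacent planes generate `SU₃`.
-/

set_option autoImplicit false
set_option linter.unusedSectionVars false

namespace Cfsg.Agent.Lib.ShortPresSU

open Matrix Cfsg.Agent.Lib.Unitary

variable {F : Type*} [Field F] [Fintype F] {q n : ℕ}

theorem norm_pow_q (hF : Fintype.card F = q ^ 2) (a : F) : (a * a ^ q) ^ q = a * a ^ q := by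
  rw [mul_pow, pow_q_q hF, mul_comm]

/-- The parameters of `SU₂`. -/
abbrev Par (F : Type*) [Field F] (q : ℕ) : Type _ := {p : F × F // p.1 * p.1 ^ q + p.2 * p.2 ^ q = 1}

theorem plane_le (hF : Fintype.card F = q ^ 2) {i j : Fin n} (hij : i ≠ j)
    {K : Subgroup (Cfsg.SU n F q)} {α₀ β₀ : F} (h₀ : α₀ * α₀ ^ q + β₀ * β₀ ^ q = 1)
    (ha₀ : α₀ ≠ 0) (hb₀ : β₀ ≠ 0)
    (hd : ∀ z h, R2 hF hij z 0 h ∈ K) (hx : ∀ ζ : F, ζ * ζ ^ q = 1 → ∀ h, R2 hF hij α₀ (ζ * β₀) h ∈ K) :
    Plane q i j ≤ K := by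
  classical
  have h1q := one_lt_q hF
  set a := α₀ * α₀ ^ q with hadef
  set b := β₀ * β₀ ^ q with hbdef
  have ha : a ≠ 0 := mul_ne_zero ha₀ (pow_ne_zero _ ha₀)
  have hb : b ≠ 0 := mul_ne_zero hb₀ (pow_ne_zero _ hb₀)
  have haq : a ^ q = a := norm_pow_q hF α₀
  have hbq : b ^ q = b := norm_pow_q hF β₀
  have hone : ∀ ζ : F, ζ * ζ ^ q = 1 → ∀ u : F, u * β₀ * (u * β₀) ^ q = u * u ^ q * b := fun ζ _ u => by
    rw [mul_pow, hbdef]; ring
  have hu : ∀ u : F, u * u ^ q = 1 → α₀ * α₀ ^ q + u * β₀ * (u * β₀) ^ q = 1 := fun u hu => by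
    rw [hone u hu u, hu, one_mul]; exact h₀
  have hd' : ∀ z : F, z * z ^ q = 1 → z * z ^ q + (0 : F) * (0 : F) ^ q = 1 := fun z hz => by simp [hz]
  -- the norms all of whose fibres lie in `K`
  let full : F → Prop := fun v => ∀ α β h, α * α ^ q = v → R2 hF hij α β h ∈ K
  have hfull1 : full 1 := fun α β h hv => by
    have hβ : β = 0 := by
      have : β * β ^ q = 0 := by linear_combination h - hv
      rcases mul_eq_zero.1 this with h' | h'
      · exact h'
      · exact eq_zero_of_pow_eq_zero h'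
    subst hβ
    exact hd α h
  let val : F → F := fun w => (α₀ * α₀ - b * w) * (α₀ * α₀ - b * w) ^ q
  set C := Finset.univ.filter fun w : F => w * w ^ q = 1 with hC
  have hCcard : C.card = q + 1 := by
    have := card_norm_fibre hF (d := (1 : F)) (one_pow q)
    rw [if_neg one_ne_zero, Nat.card_eq_fintype_card, Fintype.card_subtype] at this
    exact this
  have hval : ∀ w ∈ C, full (val w) := by
    intro w hw
    rw [hC, Finset.mem_filter] at hw
    obtain ⟨-, hw⟩ := hw
    have hwq : (w ^ q) * (w ^ q) ^ q = 1 := by rw [pow_q_q hF, mul_comm]; exact hw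
    set α'' := α₀ * α₀ - b * w with hα''
    set β'' := α₀ * (w ^ q * β₀) + β₀ * α₀ ^ q with hβ''
    -- phases are free
    have key : ∀ ζ : F, ζ * ζ ^ q = 1 → ∀ h, R2 hF hij α'' (ζ * β'') h ∈ K := by
      intro ζ hζ h
      have h1 : ζ * (1 : F) * (ζ * 1) ^ q = 1 := by rw [mul_one, hζ]
      have h2 : ζ * w ^ q * (ζ * w ^ q) ^ q = 1 := by
        rw [mul_pow]; linear_combination (ζ * ζ ^ q) * hwq + hζ
      have e := R2_mul hF hij (hu ζ hζ) (hu (ζ * w ^ q) h2)
      have := mul_mem (hx ζ hζ (hu ζ hζ)) (hx (ζ * w ^ q) h2 (hu (ζ * w ^ q) h2))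
      rw [e] at this
      convert this using 1
      refine R2_congr hF hij _ _ ?_ ?_
      · rw [hα'', hbdef, mul_pow, mul_pow, pow_q_q hF]
        linear_combination (β₀ * β₀ ^ q * w) * hζ
      · rw [hβ'']; ring
    intro α β h hv
    by_cases hα0 : α'' = 0
    · have hα : α = 0 := by
        change α * α ^ q = α'' * α'' ^ q at hv
        rw [hα0, zero_mul] at hv
        rcases mul_eq_zero.1 hv with h' | h'
        · exact h'
        · exact eq_zero_of_pow_eq_zero h'
      subst hα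
      have hNβ : β'' * β'' ^ q = 1 := by
        have e := R2_mul_cond hF (hu 1 (by simp)) (hu (w ^ q) hwq)
        rw [hβ'']
        simp only [one_mul, mul_pow, pow_q_q hF] at e ⊢
        have e0 : α₀ * α₀ - β₀ * (β₀ ^ q * w) = 0 := by rw [← hα0, hα'', hbdef]; ring
        have e0' : α₀ * α₀ - β₀ * (w * β₀ ^ q) = 0 := by rw [← e0]; ring
        rw [e0', zero_mul, zero_add] at e
        exact e
      have hβ0 : β'' ≠ 0 := fun h0 => by rw [h0, zero_mul] at hNβ; exact zero_ne_one hNβ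
      have hN1 : β * β ^ q = 1 := by
        rw [zero_mul, zero_add] at h; exact h
      have hζ : β / β'' * (β / β'') ^ q = 1 := by
        rw [div_pow, div_mul_div_comm, hN1, hNβ, div_one]
      have := key (β / β'') hζ (by rw [hα0, div_mul_cancel₀ _ hβ0]; exact h)
      convert this using 1
      exact R2_congr hF hij _ _ hα0.symm (div_mul_cancel₀ _ hβ0).symm
    set z := α / α'' with hzdef
    have hz : z * z ^ q = 1 := by
      rw [hzdef, div_pow, div_mul_div_comm, show α * α ^ q = α'' * α'' ^ q from hv,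
        div_self (mul_ne_zero hα0 (pow_ne_zero _ hα0))]
    have hz0 : z ≠ 0 := fun h0 => by rw [h0, zero_mul] at hz; exact zero_ne_one hz
    have hNβ : β * β ^ q = β'' * β'' ^ q := by
      have e := R2_mul_cond hF (hu 1 (by simp)) (hu (w ^ q) hwq)
      simp only [one_mul, mul_pow, pow_q_q hF] at e
      rw [hβ'', mul_comm (α₀) (w ^ q * β₀)]
      simp only [mul_pow, add_pow_q hF, pow_q_q hF] at e ⊢
      have hv' : α * α ^ q = (α₀ * α₀ - β₀ * β₀ ^ q * w) * (α₀ * α₀ - β₀ * β₀ ^ q * w) ^ q := hv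
      simp only [sub_pow_q hF, mul_pow, pow_q_q hF] at hv' e
      linear_combination h - hv' - e
    obtain ⟨ζ, hζ, hζβ⟩ : ∃ ζ, ζ * ζ ^ q = 1 ∧ z * (ζ * β'') = β := by
      by_cases hβ0 : β'' = 0
      · refine ⟨1, by simp, ?_⟩
        rw [hβ0] at hNβ ⊢
        rw [zero_mul] at hNβ
        rcases mul_eq_zero.1 hNβ with h' | h'
        · rw [h']; ring
        · rw [eq_zero_of_pow_eq_zero h']; ring
      refine ⟨β / (z * β''), ?_, ?_⟩
      · rw [div_pow, div_mul_div_comm, hNβ, mul_pow,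
          show z * β'' * (z ^ q * β'' ^ q) = z * z ^ q * (β'' * β'' ^ q) by ring, hz, one_mul,
          div_self (mul_ne_zero hβ0 (pow_ne_zero _ hβ0))]
      · field_simp
    have hh : α'' * α'' ^ q + ζ * β'' * (ζ * β'') ^ q = 1 := by
      rw [mul_pow]
      have hv' : α * α ^ q = α'' * α'' ^ q := hv
      linear_combination h - hv' - hNβ + (β'' * β'' ^ q) * hζ
    have := mul_mem (hd z (hd' z hz)) (key ζ hζ hh)
    rw [R2_mul] at this
    convert this using 1
    refine R2_congr hF hij _ _ ?_ ?_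
    · rw [zero_mul, sub_zero, hzdef, div_mul_cancel₀ _ hα0]
    · rw [zero_mul, add_zero, hζβ]
  -- counting
  set t₀ := C.image val with ht₀
  set J := (t₀.erase 0).erase 1 with hJ
  have hw1 : α₀ * α₀ / a * ((α₀ * α₀ / a) ^ q) = 1 := by
    rw [div_pow, haq, mul_pow, div_mul_div_comm,
      show α₀ * α₀ * (α₀ ^ q * α₀ ^ q) = a * a by rw [hadef]; ring, div_self (mul_ne_zero ha ha)]
  have hexp : ∀ w : F, w * w ^ q = 1 →
      val w = a * a + b * b - b * (w * (α₀ ^ q * α₀ ^ q) + α₀ * α₀ * w ^ q) := fun w hw => by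
    show (α₀ * α₀ - b * w) * (α₀ * α₀ - b * w) ^ q = _
    rw [sub_pow_q hF, mul_pow, mul_pow, hbq, hadef]
    linear_combination (b * b) * hw
  have hfib : ∀ v : F, ∀ w₁ ∈ C, ∀ w ∈ C, val w₁ = v → val w = v →
      w = w₁ ∨ w * w₁ = α₀ * α₀ * (α₀ * α₀) / (a * a) := by
    intro v w₁ hw₁ w hw e₁ e
    rw [hC, Finset.mem_filter] at hw₁ hw
    rw [hexp _ hw₁.2] at e₁
    rw [hexp _ hw.2] at e
    have hs : w * (α₀ ^ q * α₀ ^ q) + α₀ * α₀ * w ^ q = w₁ * (α₀ ^ q * α₀ ^ q) + α₀ * α₀ * w₁ ^ q := by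
      refine mul_left_cancel₀ hb ?_
      linear_combination e₁ - e
    by_contra hne
    simp only [not_or] at hne
    refine hne.2 ?_
    have hwq : ∀ w : F, w * w ^ q = 1 → w ^ q = w⁻¹ := fun w hw => eq_inv_of_mul_eq_one_right hw
    have hw0 : w ≠ 0 := fun h0 => by rw [h0, zero_mul] at hw; exact zero_ne_one hw.2
    have hw10 : w₁ ≠ 0 := fun h0 => by rw [h0, zero_mul] at hw₁; exact zero_ne_one hw₁.2
    rw [hwq w hw.2, hwq w₁ hw₁.2] at hs
    field_simp at hs
    rw [eq_div_iff (mul_ne_zero ha ha), hadef]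
    have : (w - w₁) * (w * w₁ * (α₀ ^ q * α₀ ^ q) - α₀ * α₀) = 0 := by linear_combination hs
    rcases mul_eq_zero.1 this with h' | h'
    · exact absurd (sub_eq_zero.1 h') hne.1
    · linear_combination (α₀ * α₀) * h'
  have hcard2 : ∀ v : F, (C.filter fun w => val w = v).card ≤ 2 := by
    intro v
    by_contra hc
    obtain ⟨w₁, w₂, w₃, h₁, h₂, h₃, h12, h13, h23⟩ := Finset.two_lt_card_iff.1 (by omega : 2 < (C.filter fun w => val w = v).card)
    rw [Finset.mem_filter] at h₁ h₂ h₃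
    have h10 : w₁ ≠ 0 := fun h0 => by
      have := h₁.1; rw [hC, Finset.mem_filter, h0, zero_mul] at this; exact zero_ne_one this.2
    rcases hfib v w₁ h₁.1 w₂ h₂.1 h₁.2 h₂.2 with e2 | e2
    · exact h12 e2.symm
    rcases hfib v w₁ h₁.1 w₃ h₃.1 h₁.2 h₃.2 with e3 | e3
    · exact h13 e3.symm
    exact h23 (mul_right_cancel₀ h10 (e2.trans e3.symm))
  have hA : α₀ * α₀ ≠ 0 := mul_ne_zero ha₀ ha₀
  have hsingle : ∀ v : F, v = 0 ∨ v = 1 → (C.filter fun w => val w = v).card ≤ 1 := by
    intro v hv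
    refine Finset.card_le_one.2 fun w hw w' hw' => ?_
    rw [Finset.mem_filter, hC, Finset.mem_filter] at hw hw'
    rcases hv with rfl | rfl
    · have : ∀ w : F, w * w ^ q = 1 → val w = 0 → w = α₀ * α₀ / b := fun w _ h => by
        rcases mul_eq_zero.1 h with h' | h'
        · rw [eq_div_iff hb]; linear_combination -h'
        · rw [eq_div_iff hb]; linear_combination -(eq_zero_of_pow_eq_zero h')
      rw [this w hw.1.2 hw.2, this w' hw'.1.2 hw'.2]
    · have : ∀ w : F, w * w ^ q = 1 → val w = 1 → w = -(α₀ * α₀ / a) := fun w hwn h => by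
        rw [hexp w hwn] at h
        have hwq : w ^ q = w⁻¹ := eq_inv_of_mul_eq_one_right hwn
        have hw0 : w ≠ 0 := fun h0 => by rw [h0, zero_mul] at hwn; exact zero_ne_one hwn
        rw [hwq] at h
        field_simp at h
        have h' : a + b = 1 := h₀
        have key : b * ((w * a + α₀ * α₀) * (w * a + α₀ * α₀)) = 0 := by
          have hAA : α₀ ^ q * α₀ ^ q * (α₀ * α₀) = a * a := by rw [hadef]; ring
          linear_combination (-(α₀ * α₀)) * h + (-(b * w * w)) * hAA +
            (α₀ * α₀ * w * (a + b + 1)) * h'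
        rcases mul_eq_zero.1 key with h'' | h''
        · exact absurd h'' hb
        · rw [mul_self_eq_zero] at h''
          field_simp
          linear_combination h''
      rw [this w hw.1.2 hw.2, this w' hw'.1.2 hw'.2]
  have hJcard : q - 1 ≤ 2 * J.card := by
    have hsum : C.card = ∑ v ∈ t₀, (C.filter fun w => val w = v).card :=
      Finset.card_eq_sum_card_fiberwise fun w hw => Finset.mem_image_of_mem val hw
    have hsub : J ⊆ t₀ := (Finset.erase_subset _ _).trans (Finset.erase_subset _ _)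
    rw [← Finset.sum_sdiff hsub] at hsum
    have e1 : ∑ v ∈ J, (C.filter fun w => val w = v).card ≤ J.card * 2 := by
      rw [← smul_eq_mul]; exact Finset.sum_le_card_nsmul _ _ _ fun v _ => hcard2 v
    have hsd : t₀ \ J ⊆ {0, 1} := fun v hv => by
      rw [Finset.mem_sdiff, hJ] at hv
      simp only [Finset.mem_erase, not_and] at hv
      by_cases h1 : v = 1
      · simp [h1]
      by_cases h0 : v = 0
      · simp [h0]
      exact absurd hv.1 (hv.2 h1 h0)
    have e2 : ∑ v ∈ t₀ \ J, (C.filter fun w => val w = v).card ≤ 2 := by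
      refine (Finset.sum_le_card_nsmul _ _ 1 fun v hv => hsingle v ?_).trans ?_
      · simpa using hsd hv
      · rw [smul_eq_mul, mul_one]
        exact (Finset.card_le_card hsd).trans Finset.card_le_two
    rw [hCcard] at hsum
    omega
  set V := ((Finset.univ.filter fun v : F => v ^ q = v).erase 0).erase 1 with hV
  have hVcard : V.card = q - 2 := by
    have hq : (Finset.univ.filter fun v : F => v ^ q = v).card = q := by
      rw [← Fintype.card_subtype, ← Nat.card_eq_fintype_card]; exact card_fixed hF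
    rw [hV, Finset.card_erase_of_mem (by simp), Finset.card_erase_of_mem (by simp [zero_pow_q hF]), hq]
    omega
  have hJV : J ⊆ V := fun v hv => by
    rw [hJ] at hv
    simp only [Finset.mem_erase, ht₀, Finset.mem_image] at hv
    obtain ⟨h1, h0, w, -, rfl⟩ := hv
    rw [hV]
    simp only [Finset.mem_erase, Finset.mem_filter, Finset.mem_univ, true_and]
    exact ⟨h1, h0, norm_pow_q hF _⟩
  let fib : F → Finset (F × F) := fun v => Finset.univ.filter fun p => p.1 * p.1 ^ q = v ∧ p.2 * p.2 ^ q = 1 - v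
  have hfibcard : ∀ v : F, v ^ q = v →
      (fib v).card = (if v = 0 then 1 else q + 1) * (if 1 - v = 0 then 1 else q + 1) := by
    intro v hv
    have hv' : (1 - v) ^ q = 1 - v := by rw [sub_pow_q hF, one_pow, hv]
    rw [← card_norm_fibre hF hv, ← card_norm_fibre hF hv', Nat.card_eq_fintype_card, Nat.card_eq_fintype_card,
      ← Fintype.card_prod, ← Fintype.card_subtype]
    exact Fintype.card_congr (Equiv.subtypeProdEquivProd (p := fun x : F => x * x ^ q = v) (q := fun x : F => x * x ^ q = 1 - v))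
  have hfibV : ∀ v ∈ V, (fib v).card = (q + 1) * (q + 1) := by
    intro v hv
    rw [hV] at hv
    simp only [Finset.mem_erase, Finset.mem_filter, Finset.mem_univ, true_and] at hv
    rw [hfibcard v hv.2.2, if_neg hv.2.1, if_neg (sub_ne_zero.2 (Ne.symm hv.1))]
  by_contra hnot
  obtain ⟨g, hg, hgK⟩ := SetLike.not_le_iff_exists.1 hnot
  obtain ⟨α₁, β₁, h₁, rfl⟩ := eq_R2 hF hij hg
  set good := Finset.univ.filter fun p : Par F q => R2 hF hij p.1.1 p.1.2 p.2 ∈ K with hgood
  let mv : Par F q → Par F q := fun p =>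
    ⟨(α₁ * p.1.1 - β₁ * p.1.2 ^ q, α₁ * p.1.2 + β₁ * p.1.1 ^ q), R2_mul_cond hF h₁ p.2⟩
  have hmv : Function.Injective mv := by
    intro p p' e
    have e1 : (α₁ * p.1.1 - β₁ * p.1.2 ^ q) = (α₁ * p'.1.1 - β₁ * p'.1.2 ^ q) :=
      congrArg (fun x : Par F q => x.1.1) e
    have e2 : (α₁ * p.1.2 + β₁ * p.1.1 ^ q) = (α₁ * p'.1.2 + β₁ * p'.1.1 ^ q) :=
      congrArg (fun x : Par F q => x.1.2) e
    have e2' := congrArg (· ^ q) e2
    have e1' := congrArg (· ^ q) e1
    simp only [add_pow_q hF, sub_pow_q hF, mul_pow, pow_q_q hF] at e2' e1'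
    refine Subtype.ext (Prod.ext ?_ ?_)
    · linear_combination (α₁ ^ q) * e1 + β₁ * e2' - (p.1.1 - p'.1.1) * h₁
    · linear_combination (α₁ ^ q) * e2 - β₁ * e1' - (p.1.2 - p'.1.2) * h₁
  have hmaps : good.image mv ⊆ goodᶜ := by
    intro p hp
    obtain ⟨p₀, hp₀, rfl⟩ := Finset.mem_image.1 hp
    rw [Finset.mem_compl, hgood, Finset.mem_filter]
    rintro ⟨-, hK⟩
    rw [hgood, Finset.mem_filter] at hp₀
    refine hgK ?_
    have hK' : R2 hF hij α₁ β₁ h₁ * R2 hF hij p₀.1.1 p₀.1.2 p₀.2 ∈ K := by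
      rw [R2_mul]; exact hK
    have := mul_mem hK' (inv_mem hp₀.2)
    rwa [mul_inv_cancel_right] at this
  have hle : good.card ≤ goodᶜ.card := by
    rw [← Finset.card_image_of_injective good hmv]; exact Finset.card_le_card hmaps
  have hfib_good : ∀ v, full v → ∀ p : Par F q, p.1.1 * p.1.1 ^ q = v → p ∈ good := fun v hv p hp => by
    rw [hgood, Finset.mem_filter]; exact ⟨Finset.mem_univ _, hv _ _ p.2 hp⟩
  have hfullJ : ∀ v ∈ J, full v := fun v hv => by
    rw [hJ] at hv
    simp only [Finset.mem_erase, ht₀, Finset.mem_image] at hv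
    obtain ⟨-, -, w, hw, rfl⟩ := hv
    exact hval w hw
  have hgood_ge : J.card * ((q + 1) * (q + 1)) + (q + 1) ≤ good.card := by
    have h11 : (fib 1).card = q + 1 := by
      rw [hfibcard 1 (one_pow q), if_neg one_ne_zero, sub_self, if_pos rfl, mul_one]
    have h1J : (1 : F) ∉ J := by simp [hJ]
    have hdisj : ∀ s : Finset F, (s : Set F).PairwiseDisjoint fib := fun s v _ v' _ hne =>
      Finset.disjoint_left.2 fun p hp hp' => hne (by
        simp only [fib, Finset.mem_filter] at hp hp'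
        rw [← hp.2.1, hp'.2.1])
    have e : ((insert 1 J).biUnion fib).card = J.card * ((q + 1) * (q + 1)) + (q + 1) := by
      rw [Finset.card_biUnion (hdisj _), Finset.sum_insert h1J, h11,
        Finset.sum_congr rfl (fun v hv => hfibV v (hJV hv)), Finset.sum_const, smul_eq_mul, add_comm]
    rw [← e, ← Finset.card_map (Function.Embedding.subtype _) (s := good)]
    refine Finset.card_le_card fun p hp => ?_
    rw [Finset.mem_biUnion] at hp
    obtain ⟨v, hv, hp⟩ := hp
    simp only [fib, Finset.mem_filter] at hp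
    have hpar : p.1 * p.1 ^ q + p.2 * p.2 ^ q = 1 := by rw [hp.2.1, hp.2.2]; ring
    have hfv : full v := by
      rcases Finset.mem_insert.1 hv with rfl | h
      · exact hfull1
      · exact hfullJ v h
    exact Finset.mem_map.2 ⟨⟨p, hpar⟩, hfib_good v hfv _ hp.2.1, rfl⟩
  have hbad_le : goodᶜ.card ≤ (V.card - J.card) * ((q + 1) * (q + 1)) + (q + 1) := by
    have hsub : (goodᶜ).map (Function.Embedding.subtype _) ⊆ (insert 0 (V \ J)).biUnion fib := by
      intro p hp
      obtain ⟨p, hp', rfl⟩ := Finset.mem_map.1 hp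
      rw [Finset.mem_compl] at hp'
      rw [Finset.mem_biUnion]
      refine ⟨p.1.1 * p.1.1 ^ q, ?_, ?_⟩
      · by_cases h0 : p.1.1 * p.1.1 ^ q = 0
        · rw [h0]; exact Finset.mem_insert_self _ _
        refine Finset.mem_insert_of_mem (Finset.mem_sdiff.2 ⟨?_, fun hJ' => hp' (hfib_good _ (hfullJ _ hJ') p rfl)⟩)
        rw [hV]
        simp only [Finset.mem_erase, Finset.mem_filter, Finset.mem_univ, true_and]
        exact ⟨fun h1 => hp' (hfib_good 1 hfull1 p h1), h0, norm_pow_q hF _⟩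
      · simp only [fib, Finset.mem_filter, Finset.mem_univ, true_and, Function.Embedding.coe_subtype]
        linear_combination p.2
    rw [← Finset.card_map (Function.Embedding.subtype _)]
    refine (Finset.card_le_card hsub).trans (Finset.card_biUnion_le.trans ?_)
    have h0 : (0 : F) ∉ V \ J := by simp [hV]
    rw [Finset.sum_insert h0, Finset.sum_congr rfl (fun v hv => hfibV v (Finset.mem_sdiff.1 hv).1), Finset.sum_const,
      smul_eq_mul, Finset.card_sdiff_of_subset hJV,
      hfibcard 0 (zero_pow_q hF), if_pos rfl, sub_zero, if_neg one_ne_zero, one_mul, add_comm]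
  have hlt : V.card - J.card < J.card := by omega
  have : (V.card - J.card) * ((q + 1) * (q + 1)) < J.card * ((q + 1) * (q + 1)) :=
    Nat.mul_lt_mul_of_pos_right hlt (by positivity)
  omega

/-- A plane vector of nonzero norm can be turned onto the first axis. -/
theorem exists_rot (hF : Fintype.card F = q ^ 2) {i j : Fin n} (hij : i ≠ j) (v : Fin n → F) {z : F}
    (hz : z * z ^ q = v i * v i ^ q + v j * v j ^ q) (hs : v i * v i ^ q + v j * v j ^ q ≠ 0) :
    ∃ g ∈ Plane q i j, (g.1.1 *ᵥ v) i = z ∧ (g.1.1 *ᵥ v) j = 0 ∧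
      ∀ k, k ≠ i → k ≠ j → (g.1.1 *ᵥ v) k = v k := by
  obtain ⟨s, hsd⟩ : ∃ s, v i * v i ^ q + v j * v j ^ q = s := ⟨_, rfl⟩
  rw [hsd] at hs hz
  have hsq : s ^ q = s := by rw [← hsd, add_pow_q hF, norm_pow_q hF, norm_pow_q hF]
  have h : z * v i ^ q / s * (z * v i ^ q / s) ^ q + z * v j ^ q / s * (z * v j ^ q / s) ^ q = 1 := by
    simp only [div_pow, mul_pow, pow_q_q hF, hsq]
    field_simp
    linear_combination (z * z ^ q) * hsd + s * hz
  refine ⟨_, R2_mem hF hij h, ?_, ?_, fun k hi hj => ?_⟩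
  · rw [R2_mulVec, if_pos rfl]; field_simp; linear_combination z * hsd
  · rw [R2_mulVec, if_neg hij.symm, if_pos rfl]
    simp only [div_pow, mul_pow, pow_q_q hF, hsq]
    field_simp
    ring
  · rw [R2_mulVec, if_neg hi, if_neg hj]

/-- Two adjacent planes generate `SU₃`. -/
theorem eq_top_of_planes (hF : Fintype.card F = q ^ 2) (h2 : q ≠ 2) {K : Subgroup (Cfsg.SU 3 F q)}
    (h01 : Plane q 0 1 ≤ K) (h12 : Plane q 1 2 ≤ K) : K = ⊤ := by
  classical
  have h1q := one_lt_q hF
  have hP : ∀ g ∈ Plane (n := 3) (F := F) q 0 1, g ∈ K := fun g hg => h01 hg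
  have hQ : ∀ g ∈ Plane (n := 3) (F := F) q 1 2, g ∈ K := fun g hg => h12 hg
  let good : (Fin 3 → F) → Prop := fun v => ∃ g ∈ K, g.1.1 *ᵥ v = Pi.single 0 1
  have hN : ∀ v, hermForm 3 F q v v = v 0 * v 0 ^ q + v 1 * v 1 ^ q + v 2 * v 2 ^ q := fun v => by
    simp [hermForm, Fin.sum_univ_three]
  have hgood2 : ∀ v, hermForm 3 F q v v = 1 → v 2 = 0 → good v := by
    intro v hv h2
    rw [hN, h2, zero_mul, add_zero] at hv
    obtain ⟨g, hg, e0, e1, e2⟩ := exists_rot hF (show (0 : Fin 3) ≠ 1 by decide) v (z := 1)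
      (by rw [hv]; simp) (by rw [hv]; exact one_ne_zero)
    refine ⟨g, hP g hg, funext fun k => ?_⟩
    fin_cases k
    · simpa using e0
    · simpa using e1
    · simpa [h2] using e2 2 (by decide) (by decide)
  have hstep : ∀ v, hermForm 3 F q v v = 1 → ∀ g ∈ K, good (g.1.1 *ᵥ v) → good v := by
    intro v _ g hg ⟨g', hg', e⟩
    exact ⟨g' * g, mul_mem hg' hg, by rw [SU_mulVec_mul]; exact e⟩
  have hgood12 : ∀ v, hermForm 3 F q v v = 1 → v 1 * v 1 ^ q + v 2 * v 2 ^ q ≠ 0 → good v := by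
    intro v hv hs
    obtain ⟨z, hz⟩ := norm_surj hF (y := v 1 * v 1 ^ q + v 2 * v 2 ^ q)
      (by rw [add_pow_q hF, norm_pow_q hF, norm_pow_q hF])
    obtain ⟨g, hg, -, e2, -⟩ := exists_rot hF (show (1 : Fin 3) ≠ 2 by decide) v hz hs
    exact hstep v hv g (hQ g hg) (hgood2 _ ((g.2 v v).trans hv) e2)
  have hall : ∀ v, hermForm 3 F q v v = 1 → good v := by
    intro v hv
    by_cases hs : v 1 * v 1 ^ q + v 2 * v 2 ^ q = 0
    swap
    · exact hgood12 v hv hs
    by_cases h1 : v 1 = 0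
    · refine hgood2 v hv ?_
      rw [h1, zero_mul, zero_add] at hs
      rcases mul_eq_zero.1 hs with h | h
      · exact h
      · exact eq_zero_of_pow_eq_zero h
    -- a new norm `y ∉ {0, -1}` for the middle coordinate
    obtain ⟨y, hyq, hy0, hy1⟩ : ∃ y : F, y ^ q = y ∧ y ≠ 0 ∧ y ≠ -1 := by
      have hq : (Finset.univ.filter fun v : F => v ^ q = v).card = q := by
        rw [← Fintype.card_subtype, ← Nat.card_eq_fintype_card]; exact card_fixed hF
      obtain ⟨y, hy, hy'⟩ := Finset.exists_mem_notMem_of_card_lt_card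
        (s := ({0, -1} : Finset F)) (t := Finset.univ.filter fun v : F => v ^ q = v)
        (by rw [hq]; exact lt_of_le_of_lt Finset.card_le_two (by omega))
      simp only [Finset.mem_filter, Finset.mem_univ, true_and] at hy
      simp only [Finset.mem_insert, Finset.mem_singleton, not_or] at hy'
      exact ⟨y, hy, hy'.1, hy'.2⟩
    have hN1 : v 1 * v 1 ^ q ≠ 0 := mul_ne_zero h1 (pow_ne_zero _ h1)
    obtain ⟨u, hu⟩ := norm_surj hF (y := y / (v 1 * v 1 ^ q)) (by rw [div_pow, hyq, norm_pow_q hF])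
    have hu0 : u ≠ 0 := fun h => by
      rw [h, zero_mul] at hu
      exact div_ne_zero hy0 hN1 hu.symm
    have huq0 : u ^ q ≠ 0 := pow_ne_zero _ hu0
    obtain ⟨x, hx⟩ := trace_surj hF (y := 1 + u * u ^ q) (by rw [add_pow_q hF, one_pow, norm_pow_q hF])
    have h2v : v 2 ≠ 0 := fun h => by rw [h, zero_mul, add_zero] at hs; exact hN1 hs
    set α := x / u ^ q
    set β := (u - α) * v 1 / v 2
    have h : α * α ^ q + β * β ^ q = 1 := by
      simp only [α, β, div_pow, mul_pow, sub_pow_q hF, pow_q_q hF]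
      field_simp
      linear_combination (x * x ^ q + u * u ^ q * (u * u ^ q) - x * (u * u ^ q) - x ^ q * (u * u ^ q)) * hs +
        (u * u ^ q) * (v 2 * v 2 ^ q) * hx
    have hg := R2_mem hF (show (1 : Fin 3) ≠ 2 by decide) h
    refine hstep v hv _ (hQ _ hg) ?_
    set v' := (R2 hF (show (1 : Fin 3) ≠ 2 by decide) α β h).1.1 *ᵥ v with hv'
    have e1 : v' 1 * v' 1 ^ q = y := by
      have : v' 1 = u * v 1 := by
        rw [hv', R2_mulVec, if_pos rfl]
        simp only [β]
        field_simp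
        ring
      rw [this, mul_pow, show u * v 1 * (u ^ q * v 1 ^ q) = u * u ^ q * (v 1 * v 1 ^ q) by ring, hu,
        div_mul_cancel₀ _ hN1]
    have hn' : hermForm 3 F q v' v' = 1 :=
      (((R2 hF (show (1 : Fin 3) ≠ 2 by decide) α β h).2 v v)).trans hv
    have e0 : v' 0 * v' 0 ^ q = 1 := by
      rw [hv', R2_mulVec, if_neg (by decide), if_neg (by decide)]
      rw [hN] at hv
      linear_combination hv - hs
    have hs' : v' 0 * v' 0 ^ q + v' 1 * v' 1 ^ q ≠ 0 := by
      rw [e0, e1]; exact fun h => hy1 (by linear_combination h)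
    obtain ⟨z, hz⟩ := norm_surj hF (y := v' 0 * v' 0 ^ q + v' 1 * v' 1 ^ q)
      (by rw [add_pow_q hF, norm_pow_q hF, norm_pow_q hF])
    obtain ⟨g, hg', -, g1, g2⟩ := exists_rot hF (show (0 : Fin 3) ≠ 1 by decide) v' hz hs'
    refine hstep v' hn' g (hP g hg') (hgood12 _ ((g.2 v' v').trans hn') ?_)
    rw [g1, g2 2 (by decide) (by decide), zero_mul, zero_add]
    intro h0
    rw [hN, e0, e1, h0, add_zero] at hn'
    exact hy0 (by linear_combination hn')
  rw [eq_top_iff]
  intro g _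
  obtain ⟨k, hk, hk'⟩ := hall (g.1.1 *ᵥ Pi.single 0 1) ((g.2 _ _).trans (by rw [herm_std hF]; rfl))
  have : k * g ∈ Plane (n := 3) (F := F) q 1 2 := fun l h1 h2 => by
    have hl : l = 0 := by fin_cases l <;> simp at h1 h2 ⊢
    subst hl
    rw [SU_mulVec_mul, hk']
  simpa using mul_mem (inv_mem hk) (h12 this)

end Cfsg.Agent.Lib.ShortPresSU
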