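import Cfsg.Agent.Lib.ShortPresSU.Emb

/-!
# Short presentations of `SU_n`, part 4: gluing a copy of `SU₃` and a copy of `A_n`

In a group with images of `A_n` and `SU₃` satisfying a few relations, every pair of coordinates
carries a well defined `SU₂`, and those of disjoint pairs commute.
-/

set_option autoImplicit false
set_option linter.unusedSectionVars false

namespace Cfsg.Agent.Lib.ShortPresSU

open Matrix Cfsg.Agent.Lib.Unitary Cfsg.Agent.Lib.Phan

theorem exists_triple {n : ℕ} (hn : 4 ≤ n) (a b c : Fin n) (hab : a ≠ b) (hac : a ≠ c) (hbc : b ≠ c) :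
    ∃ u : alternatingGroup (Fin n), ∀ x, x = a ∨ x = b ∨ x = c →
      ∃ j : Fin 3, (u : Equiv.Perm (Fin n)) (first (show 3 ≤ n by omega) j) = x := by
  let ι' : Fin 3 ↪ Fin n := ⟨![a, b, c], fun i j e => by
    fin_cases i <;> fin_cases j <;> simp [hab, hac, hbc, hab.symm, hac.symm, hbc.symm] at e ⊢⟩
  obtain ⟨u, hu⟩ := exists_even (show 2 ≤ 3 by omega) (first (show 3 ≤ n by omega)) ι'
  refine ⟨u, fun x hx => ?_⟩
  obtain ⟨j, rfl⟩ : ∃ j, ι' j = x := by
    rcases hx with rfl | rfl | rfl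
    · exact ⟨0, rfl⟩
    · exact ⟨1, rfl⟩
    · exact ⟨2, rfl⟩
  rcases hu with hu | hu
  · exact ⟨j, hu j⟩
  · exact ⟨_, hu j⟩

theorem exists_sub {n : ℕ} (hn : 4 ≤ n) (u : alternatingGroup (Fin n)) (K : Fin 2 ↪ Fin n)
    (h : ∀ i, ∃ j : Fin 3, (u : Equiv.Perm (Fin n)) (first (show 3 ≤ n by omega) j) = K i) :
    ∃ κ : Fin 2 ↪ Fin 3, (κ.trans (first (show 3 ≤ n by omega))).trans (u : Equiv.Perm (Fin n)).toEmbedding = K := by
  choose f hf using h
  exact ⟨⟨f, fun i j e => K.injective (by rw [← hf, ← hf, e])⟩, DFunLike.ext _ _ hf⟩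

variable {F : Type*} [Field F] [Fintype F] {q n : ℕ}

/-- The three-cycle on the first three coordinates of `A₃`. -/
def rot3 : alternatingGroup (Fin 3) := ⟨finRotate 3, Equiv.Perm.mem_alternatingGroup.2 (by decide)⟩

/-- The gluing relations. -/
structure Glue (hF : Fintype.card F = q ^ 2) (hn : 4 ≤ n) (G : Type*) [Group G] where
  α : alternatingGroup (Fin n) →* G
  β : Cfsg.SU 3 F q →* G
  x : Cfsg.SU 2 F q
  δ : F
  hδ : δ * δ ^ q = 1
  gen : Subgroup.closure {x, diag2 hF hδ} = ⊤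
  c : alternatingGroup (Fin n)
  c_in : ∀ j, (c : Equiv.Perm (Fin n)) (first (show 3 ≤ n by omega) j) =
    first (show 3 ≤ n by omega) (finRotate 3 j)
  c_out : ∀ i, (∀ j, first (show 3 ≤ n by omega) j ≠ i) → (c : Equiv.Perm (Fin n)) i = i
  hc : α c = β (permSU hF rot3)
  Z : Set (alternatingGroup (Fin n))
  hZ : ∀ τ : alternatingGroup (Fin n), Set.range (pr (show 2 ≤ n by omega) (τ : Equiv.Perm (Fin n))) =
    Set.range (pr (show 2 ≤ n by omega) 1) → τ ∈ Subgroup.closure Z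
  hrel : ∀ z ∈ Z, ∀ h ∈ ({x, diag2 hF hδ} : Set _), ∃ h',
    emb (pr (show 2 ≤ n by omega) (z : Equiv.Perm (Fin n))) h = emb (pr (show 2 ≤ n by omega) 1) h' ∧
      α z * β (emb (first (show 2 ≤ 3 by omega)) h) * (α z)⁻¹ = β (emb (first (show 2 ≤ 3 by omega)) h')
  σ : alternatingGroup (Fin n)
  σ0 : (σ : Equiv.Perm (Fin n)) ⟨0, by omega⟩ = ⟨2, by omega⟩
  σ1 : (σ : Equiv.Perm (Fin n)) ⟨1, by omega⟩ = ⟨3, by omega⟩
  σσ : σ * σ = 1
  hcomm : ∀ h ∈ ({x, diag2 hF hδ} : Set _), Commute (β (emb (first (show 2 ≤ 3 by omega)) x))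
    (α σ * β (emb (first (show 2 ≤ 3 by omega)) h) * (α σ)⁻¹)

theorem model_conj (hF : Fintype.card F = q ^ 2) (h2 : 2 ≤ n) (u : alternatingGroup (Fin n))
    (t : Equiv.Perm (Fin n)) (h : Cfsg.SU 2 F q) :
    permSU hF u * emb (pr h2 t) h * (permSU hF u)⁻¹ =
      emb (pr h2 ((u : Equiv.Perm (Fin n)) * t)) h := by
  rw [permSU_conj_emb]; rfl

namespace Glue

variable {hF : Fintype.card F = q ^ 2} {hn : 4 ≤ n} {G : Type*} [Group G] (W : Glue hF hn G)

/-- The conjugates of the first pair. -/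
def Φ (s : alternatingGroup (Fin n)) : Cfsg.SU 2 F q →* G :=
  (MulAut.conj (W.α s)).toMonoidHom.comp (W.β.comp (emb (first (show 2 ≤ 3 by omega))))

theorem Φ_apply (s : alternatingGroup (Fin n)) (h : Cfsg.SU 2 F q) :
    W.Φ s h = W.α s * W.β (emb (first (show 2 ≤ 3 by omega)) h) * (W.α s)⁻¹ := rfl

theorem Φ_mul (u s : alternatingGroup (Fin n)) (h : Cfsg.SU 2 F q) :
    W.Φ (u * s) h = W.α u * W.Φ s h * (W.α u)⁻¹ := by
  simp only [Φ_apply, map_mul, _root_.mul_inv_rev]; group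

theorem Φ_one (h : Cfsg.SU 2 F q) : W.Φ 1 h = W.β (emb (first (show 2 ≤ 3 by omega)) h) := by
  simp [Φ_apply]

include W in
/-- The stabiliser of the first pair acts on it as in the model. -/
theorem stab (τ : alternatingGroup (Fin n)) (hτ : Set.range (pr (show 2 ≤ n by omega) (τ : Equiv.Perm (Fin n))) =
    Set.range (pr (show 2 ≤ n by omega) 1)) (h : Cfsg.SU 2 F q) :
    ∃ h', emb (pr (show 2 ≤ n by omega) (τ : Equiv.Perm (Fin n))) h = emb (pr (show 2 ≤ n by omega) 1) h' ∧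
      W.Φ τ h = W.Φ 1 h' := by
  classical
  let good : alternatingGroup (Fin n) → Cfsg.SU 2 F q → Prop := fun τ h => ∃ h',
    emb (pr (show 2 ≤ n by omega) (τ : Equiv.Perm (Fin n))) h = emb (pr (show 2 ≤ n by omega) 1) h' ∧
      W.Φ τ h = W.Φ 1 h'
  have hmul : ∀ a b, (∀ h, good a h) → (∀ h, good b h) → ∀ h, good (a * b) h := by
    intro a b ha hb h
    obtain ⟨h₁, e₁, f₁⟩ := hb h
    obtain ⟨h₂, e₂, f₂⟩ := ha h₁
    refine ⟨h₂, ?_, ?_⟩
    · rw [Subgroup.coe_mul, ← model_conj hF (show 2 ≤ n by omega), e₁, model_conj hF (show 2 ≤ n by omega), mul_one, e₂]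
    · rw [Φ_mul, f₁, ← Φ_mul, mul_one, f₂]
  have hone : ∀ h, good 1 h := fun h => ⟨h, rfl, rfl⟩
  have hZgood : ∀ z ∈ W.Z, ∀ h, good z h := by
    intro z hz h
    have hh : h ∈ Subgroup.closure {W.x, diag2 hF W.hδ} := by rw [W.gen]; exact Subgroup.mem_top h
    refine Subgroup.closure_induction (p := fun h _ => good z h) (fun h hh => ?_) ?_ ?_ ?_ hh
    · obtain ⟨h', e, f⟩ := W.hrel z hz h hh
      exact ⟨h', e, by rw [Φ_one, Φ_apply, f]⟩
    · exact ⟨1, by simp, by simp⟩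
    · rintro a b - - ⟨a', ea, fa⟩ ⟨b', eb, fb⟩
      exact ⟨a' * b', by rw [map_mul, map_mul, ea, eb], by rw [map_mul, map_mul, fa, fb]⟩
    · rintro a - ⟨a', ea, fa⟩
      exact ⟨a'⁻¹, by rw [map_inv, map_inv, ea], by rw [map_inv, map_inv, fa]⟩
  let S : Submonoid (alternatingGroup (Fin n)) :=
    { carrier := {τ | ∀ h, good τ h}, one_mem' := hone, mul_mem' := fun {a b} ha hb => hmul a b ha hb }
  have hmem := W.hZ τ hτ
  rw [← Subgroup.mem_toSubmonoid, Subgroup.closure_toSubmonoid_of_finite] at hmem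
  exact (Submonoid.closure_le.2 (show W.Z ⊆ S from hZgood) hmem) h

/-- Two presentations of one element of a pair give the same element. -/
theorem key {s t : alternatingGroup (Fin n)} {h h' : Cfsg.SU 2 F q}
    (hr : Set.range (pr (show 2 ≤ n by omega) (s : Equiv.Perm (Fin n))) =
      Set.range (pr (show 2 ≤ n by omega) (t : Equiv.Perm (Fin n))))
    (he : emb (pr (show 2 ≤ n by omega) (s : Equiv.Perm (Fin n))) h =
      emb (pr (show 2 ≤ n by omega) (t : Equiv.Perm (Fin n))) h') : W.Φ s h = W.Φ t h' := by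
  have hτ : Set.range (pr (show 2 ≤ n by omega) ((t⁻¹ * s : alternatingGroup (Fin n)) : Equiv.Perm (Fin n))) =
      Set.range (pr (show 2 ≤ n by omega) 1) := by
    have := congrArg (fun S => ((t : Equiv.Perm (Fin n))⁻¹ : Equiv.Perm (Fin n)) '' S) hr
    simp only [← Set.range_comp] at this
    convert this using 2
    · rfl
    · funext j; simp [pr]
  obtain ⟨h₁, e, f⟩ := W.stab _ hτ h
  have hh : h₁ = h' := by
    refine emb_injective (pr (show 2 ≤ n by omega) (t : Equiv.Perm (Fin n))) ?_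
    rw [← he, show (s : Equiv.Perm (Fin n)) = (t : Equiv.Perm (Fin n)) *
        ((t⁻¹ * s : alternatingGroup (Fin n)) : Equiv.Perm (Fin n)) by simp,
      ← model_conj hF (show 2 ≤ n by omega), e, model_conj hF (show 2 ≤ n by omega), mul_one]
  rw [show s = t * (t⁻¹ * s) by group, Φ_mul, f, hh, ← Φ_mul, mul_one]

include W in
theorem exists_val (K : Fin 2 ↪ Fin n) (h : Cfsg.SU 2 F q) :
    ∃ y, ∀ (t : alternatingGroup (Fin n)) (h' : Cfsg.SU 2 F q),
      Set.range (pr (show 2 ≤ n by omega) (t : Equiv.Perm (Fin n))) = Set.range K →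
      emb (pr (show 2 ≤ n by omega) (t : Equiv.Perm (Fin n))) h' = emb K h → W.Φ t h' = y := by
  obtain ⟨t, ht⟩ := exists_pr (show 2 ≤ n by omega) K
  obtain ⟨h₀, h0⟩ := exists_reorient hF K (pr (show 2 ≤ n by omega) (t : Equiv.Perm (Fin n))) ht h
  exact ⟨W.Φ t h₀, fun t' h' hr he => W.key (hr.trans ht.symm) (he.trans h0.symm)⟩

/-- The value of an element of the pair `K`. -/
noncomputable def V (K : Fin 2 ↪ Fin n) (h : Cfsg.SU 2 F q) : G := (W.exists_val K h).choose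

theorem V_eq {K : Fin 2 ↪ Fin n} {h : Cfsg.SU 2 F q} (t : alternatingGroup (Fin n)) (h' : Cfsg.SU 2 F q)
    (hr : Set.range (pr (show 2 ≤ n by omega) (t : Equiv.Perm (Fin n))) = Set.range K)
    (he : emb (pr (show 2 ≤ n by omega) (t : Equiv.Perm (Fin n))) h' = emb K h) : W.V K h = W.Φ t h' :=
  ((W.exists_val K h).choose_spec t h' hr he).symm

theorem V_pr (t : alternatingGroup (Fin n)) (h : Cfsg.SU 2 F q) :
    W.V (pr (show 2 ≤ n by omega) (t : Equiv.Perm (Fin n))) h = W.Φ t h := W.V_eq t h rfl rfl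

theorem V_reorient {K K' : Fin 2 ↪ Fin n} {h h' : Cfsg.SU 2 F q} (hr : Set.range K = Set.range K')
    (he : emb K h = emb K' h') : W.V K h = W.V K' h' := by
  obtain ⟨t, ht⟩ := exists_pr (show 2 ≤ n by omega) K
  obtain ⟨h₀, h0⟩ := exists_reorient hF K (pr (show 2 ≤ n by omega) (t : Equiv.Perm (Fin n))) ht h
  rw [W.V_eq t h₀ ht h0, W.V_eq t h₀ (ht.trans hr) (h0.trans he)]

theorem V_conj (u : alternatingGroup (Fin n)) (K : Fin 2 ↪ Fin n) (h : Cfsg.SU 2 F q) :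
    W.α u * W.V K h * (W.α u)⁻¹ = W.V (K.trans (u : Equiv.Perm (Fin n)).toEmbedding) h := by
  obtain ⟨t, ht⟩ := exists_pr (show 2 ≤ n by omega) K
  obtain ⟨h₀, h0⟩ := exists_reorient hF K (pr (show 2 ≤ n by omega) (t : Equiv.Perm (Fin n))) ht h
  rw [W.V_eq t h₀ ht h0, W.V_eq (u * t) h₀ ?_ ?_, Φ_mul]
  · have := congrArg (fun S => (u : Equiv.Perm (Fin n)) '' S) ht
    simp only [← Set.range_comp] at this
    exact this
  · rw [Subgroup.coe_mul, ← model_conj hF (show 2 ≤ n by omega), h0, permSU_conj_emb]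

theorem c_pow_trans (k : ℕ) (j : Fin 3) :
    ((W.c ^ k : alternatingGroup (Fin n)) : Equiv.Perm (Fin n)) (first (show 3 ≤ n by omega) j) =
      first (show 3 ≤ n by omega) (((rot3 ^ k : alternatingGroup (Fin 3)) : Equiv.Perm (Fin 3)) j) := by
  induction k with
  | zero => simp
  | succ k ih => rw [pow_succ', pow_succ', Subgroup.coe_mul, Subgroup.coe_mul, Equiv.Perm.mul_apply, ih, W.c_in]; rfl

/-- Inside a conjugate of the copy of `SU₃`. -/
theorem V_triple (u : alternatingGroup (Fin n)) (κ : Fin 2 ↪ Fin 3) (h : Cfsg.SU 2 F q) :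
    W.α u * W.β (emb κ h) * (W.α u)⁻¹ =
      W.V ((κ.trans (first (show 3 ≤ n by omega))).trans (u : Equiv.Perm (Fin n)).toEmbedding) h := by
  rw [← W.V_conj]
  congr 2
  obtain ⟨k, hk⟩ : ∃ k : ℕ, Finset.univ.image (fun j =>
      ((rot3 ^ k : alternatingGroup (Fin 3)) : Equiv.Perm (Fin 3)) (first (show 2 ≤ 3 by omega) j)) =
      Finset.univ.image κ := by
    have hex : ∀ a b : Fin 3, a ≠ b → ∃ k : Fin 3, ({((rot3 ^ (k : ℕ) : alternatingGroup (Fin 3)) : Equiv.Perm (Fin 3)) 0,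
        ((rot3 ^ (k : ℕ) : alternatingGroup (Fin 3)) : Equiv.Perm (Fin 3)) 1} : Finset (Fin 3)) = {a, b} := by
      decide
    obtain ⟨k, hk⟩ := hex (κ 0) (κ 1) fun e => by simpa using κ.injective e
    refine ⟨k, ?_⟩
    have hu : (Finset.univ : Finset (Fin 2)) = {0, 1} := rfl
    rw [hu, Finset.image_insert, Finset.image_singleton, Finset.image_insert, Finset.image_singleton]
    exact hk
  have hr := congrArg (fun s : Finset (Fin 3) => (s : Set (Fin 3))) hk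
  simp only [Finset.coe_image, Finset.coe_univ, Set.image_univ] at hr
  obtain ⟨h', e⟩ := exists_reorient hF κ
    ((first (show 2 ≤ 3 by omega)).trans ((rot3 ^ k : alternatingGroup (Fin 3)) : Equiv.Perm (Fin 3)).toEmbedding) hr h
  have hpr : pr (show 2 ≤ n by omega) ((W.c ^ k : alternatingGroup (Fin n)) : Equiv.Perm (Fin n)) =
      ((first (show 2 ≤ 3 by omega)).trans
        ((rot3 ^ k : alternatingGroup (Fin 3)) : Equiv.Perm (Fin 3)).toEmbedding).trans (first (show 3 ≤ n by omega)) :=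
    DFunLike.ext _ _ fun j => W.c_pow_trans k (first (show 2 ≤ 3 by omega) j)
  rw [W.V_eq (W.c ^ k) h' ?_ ?_, Φ_apply, map_pow, W.hc, ← map_pow, ← map_inv, ← map_mul, ← map_mul,
    ← map_pow, permSU_conj_emb, e]
  · rw [hpr]
    have := congrArg (fun S => first (show 3 ≤ n by omega) '' S) hr
    simp only [← Set.range_comp] at this
    exact this
  · rw [hpr, ← emb_trans, e, emb_trans]

/-- The value of a pair, as a homomorphism on the first pair. -/
theorem V_first (h : Cfsg.SU 2 F q) : W.V (first (show 2 ≤ n by omega)) h = W.Φ 1 h :=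
  W.V_pr 1 h

/-- Diagonal elements of pairs with a common point commute. -/
theorem diag_comm_adj (a b c : Fin n) (hab : a ≠ b) (hac : a ≠ c) (hbc : b ≠ c) (K L : Fin 2 ↪ Fin n)
    (hK : ∀ i, K i = a ∨ K i = b ∨ K i = c) (hL : ∀ i, L i = a ∨ L i = b ∨ L i = c) :
    Commute (W.V K (diag2 hF W.hδ)) (W.V L (diag2 hF W.hδ)) := by
  obtain ⟨u, hu⟩ := exists_triple hn a b c hab hac hbc
  obtain ⟨κ, rfl⟩ := exists_sub hn u K fun i => hu _ (hK i)
  obtain ⟨μ, rfl⟩ := exists_sub hn u L fun i => hu _ (hL i)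
  rw [← W.V_triple, ← W.V_triple]
  exact (Commute.conj_iff _).2 ((emb_diag2_commute hF W.hδ κ μ).map W.β)

/-- Diagonal elements multiply as in the model. -/
theorem diag_mul (a b c : Fin n) (K L M : Fin 2 ↪ Fin n) (hab : a ≠ b) (hac : a ≠ c) (hbc : b ≠ c)
    (hK0 : K 0 = a) (hK1 : K 1 = b) (hL0 : L 0 = b) (hL1 : L 1 = c) (hM0 : M 0 = a) (hM1 : M 1 = c) :
    W.V K (diag2 hF W.hδ) * W.V L (diag2 hF W.hδ) = W.V M (diag2 hF W.hδ) := by
  obtain ⟨u, hu⟩ := exists_triple hn a b c hab hac hbc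
  have h2 : ∀ (K : Fin 2 ↪ Fin n) (x y : Fin n), K 0 = x → K 1 = y → (x = a ∨ x = b ∨ x = c) →
      (y = a ∨ y = b ∨ y = c) → ∀ i, K i = a ∨ K i = b ∨ K i = c := fun K x y e e' hx hy i => by
    fin_cases i
    · exact e ▸ hx
    · exact e' ▸ hy
  obtain ⟨κ, rfl⟩ := exists_sub hn u K fun i => hu _ (h2 K a b hK0 hK1 (.inl rfl) (.inr (.inl rfl)) i)
  obtain ⟨μ, rfl⟩ := exists_sub hn u L fun i => hu _ (h2 L b c hL0 hL1 (.inr (.inl rfl)) (.inr (.inr rfl)) i)
  obtain ⟨ν, rfl⟩ := exists_sub hn u M fun i => hu _ (h2 M a c hM0 hM1 (.inl rfl) (.inr (.inr rfl)) i)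
  rw [← W.V_triple, ← W.V_triple, ← W.V_triple]
  have hinj : Function.Injective fun i => (u : Equiv.Perm (Fin n)) (first (show 3 ≤ n by omega) i) :=
    (u : Equiv.Perm (Fin n)).injective.comp (first (show 3 ≤ n by omega)).injective
  rw [← emb_diag2_mul hF W.hδ κ μ ν (hinj (hK0.trans hM0.symm)) (hinj (hL1.trans hM1.symm))
    (hinj (hK1.trans hL0.symm)), map_mul]
  group

/-- The first pair commutes with the one moved away from it. -/
theorem comm01 (h h' : Cfsg.SU 2 F q) : Commute (W.Φ 1 h) (W.Φ W.σ h') := by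
  have hσ0 := W.σ0
  have hσ1 := W.σ1
  have hK1 : pr (show 2 ≤ n by omega) ((1 : alternatingGroup (Fin n)) : Equiv.Perm (Fin n)) 0 = (⟨0, by omega⟩ : Fin n) := rfl
  have hdd : Commute (W.Φ 1 (diag2 hF W.hδ)) (W.Φ W.σ (diag2 hF W.hδ)) := by
    let i0 : Fin n := ⟨0, by omega⟩
    let i1 : Fin n := ⟨1, by omega⟩
    let i2 : Fin n := ⟨2, by omega⟩
    let i3 : Fin n := ⟨3, by omega⟩
    let mk : (a b : Fin n) → a ≠ b → (Fin 2 ↪ Fin n) := fun a b hab =>
      ⟨![a, b], fun i j e => by fin_cases i <;> fin_cases j <;> simp [hab, hab.symm] at e ⊢⟩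
    have h20 : i2 ≠ i0 := by simp [i2, i0]
    have h03 : i0 ≠ i3 := by simp [i3, i0]
    have h23 : i2 ≠ i3 := by simp [i2, i3]
    have e : W.Φ W.σ (diag2 hF W.hδ) = W.V (mk i2 i0 h20) (diag2 hF W.hδ) * W.V (mk i0 i3 h03) (diag2 hF W.hδ) := by
      rw [← W.V_pr, W.diag_mul i2 i0 i3 (mk i2 i0 h20) (mk i0 i3 h03) _ h20 h23 h03 rfl rfl rfl rfl]
      · exact hσ0
      · exact hσ1
    rw [e, ← W.V_pr 1]
    have h01 : i0 ≠ i1 := by simp [i0, i1]
    refine Commute.mul_right (W.diag_comm_adj i0 i1 i2 h01 (by simp [i0, i2]) (by simp [i1, i2]) _ _ ?_ ?_)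
      (W.diag_comm_adj i0 i1 i3 h01 h03 (by simp [i1, i3]) _ _ ?_ ?_) <;>
    · intro i; fin_cases i <;> first | exact Or.inl rfl | exact Or.inr (Or.inl rfl) | exact Or.inr (Or.inr rfl)
  have hinv : ∀ a b, Commute (W.Φ 1 a) (W.Φ W.σ b) → Commute (W.Φ 1 b) (W.Φ W.σ a) := by
    intro a b hab
    have := (Commute.conj_iff (W.α W.σ)).2 hab
    rw [← Φ_mul, ← Φ_mul, mul_one, W.σσ] at this
    exact this.symm
  have hgen : ∀ a ∈ ({W.x, diag2 hF W.hδ} : Set _), ∀ b ∈ ({W.x, diag2 hF W.hδ} : Set _),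
      Commute (W.Φ 1 a) (W.Φ W.σ b) := by
    have hx : ∀ b ∈ ({W.x, diag2 hF W.hδ} : Set _), Commute (W.Φ 1 W.x) (W.Φ W.σ b) := fun b hb => by
      rw [Φ_one, Φ_apply]; exact W.hcomm b hb
    rintro a (rfl | rfl) b hb
    · exact hx b hb
    · rcases hb with rfl | rfl
      · exact hinv _ _ (hx _ (Or.inr rfl))
      · exact hdd
  have hmem : ∀ a : Cfsg.SU 2 F q, a ∈ Subgroup.closure {W.x, diag2 hF W.hδ} := fun a => by
    rw [W.gen]; exact Subgroup.mem_top a
  have h1 : ∀ a ∈ ({W.x, diag2 hF W.hδ} : Set _), ∀ b, Commute (W.Φ 1 a) (W.Φ W.σ b) := fun a ha b => by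
    refine Subgroup.closure_induction (p := fun b _ => Commute (W.Φ 1 a) (W.Φ W.σ b)) (fun b hb => hgen a ha b hb)
      ?_ ?_ ?_ (hmem b)
    · rw [map_one]; exact Commute.one_right _
    · intro x y _ _ hx hy; rw [map_mul]; exact hx.mul_right hy
    · intro x _ hx; rw [map_inv]; exact hx.inv_right
  refine Subgroup.closure_induction (p := fun a _ => Commute (W.Φ 1 a) (W.Φ W.σ h')) (fun a ha => h1 a ha h')
    ?_ ?_ ?_ (hmem h)
  · rw [map_one]; exact Commute.one_left _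
  · intro x y _ _ hx hy; rw [map_mul]; exact hx.mul_left hy
  · intro x _ hx; rw [map_inv]; exact hx.inv_left

/-- Disjoint pairs commute. -/
theorem V_comm (K L : Fin 2 ↪ Fin n) (hd : ∀ i j, K i ≠ L j) (h h' : Cfsg.SU 2 F q) :
    Commute (W.V K h) (W.V L h') := by
  let ι : Fin 4 ↪ Fin n := ⟨![K 0, K 1, L 0, L 1], fun i j e => by
    fin_cases i <;> fin_cases j <;>
      simp [K.injective.eq_iff, L.injective.eq_iff, hd, fun i j => (hd i j).symm] at e ⊢⟩
  obtain ⟨u, hu⟩ := exists_even (show 2 ≤ 4 by omega) (first hn) ι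
  have hσ0 := W.σ0
  have hσ1 := W.σ1
  have hr1 : Set.range (pr (show 2 ≤ n by omega) (u : Equiv.Perm (Fin n))) = Set.range K ∧
      Set.range (pr (show 2 ≤ n by omega) ((u * W.σ : alternatingGroup (Fin n)) : Equiv.Perm (Fin n))) = Set.range L := by
    have hK : ∀ f : Fin 2 ↪ Fin n, (f 0 = K 0 ∧ f 1 = K 1 ∨ f 0 = K 1 ∧ f 1 = K 0) → Set.range f = Set.range K := by
      intro f hf; ext y; simp only [Set.mem_range, Fin.exists_fin_two]; rcases hf with ⟨a, b⟩ | ⟨a, b⟩ <;> rw [a, b] <;> tauto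
    have hLr : ∀ f : Fin 2 ↪ Fin n, f 0 = L 0 ∧ f 1 = L 1 → Set.range f = Set.range L := by
      intro f hf; ext y; simp only [Set.mem_range, Fin.exists_fin_two]; rw [hf.1, hf.2]
    refine ⟨hK _ ?_, hLr _ ?_⟩
    · rcases hu with hu | hu
      · exact Or.inl ⟨hu 0, hu 1⟩
      · exact Or.inr ⟨hu 1, hu 0⟩
    · have e0 : pr (show 2 ≤ n by omega) ((u * W.σ : alternatingGroup (Fin n)) : Equiv.Perm (Fin n)) 0 =
          (u : Equiv.Perm (Fin n)) ⟨2, by omega⟩ := congrArg (u : Equiv.Perm (Fin n)) hσ0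
      have e1 : pr (show 2 ≤ n by omega) ((u * W.σ : alternatingGroup (Fin n)) : Equiv.Perm (Fin n)) 1 =
          (u : Equiv.Perm (Fin n)) ⟨3, by omega⟩ := congrArg (u : Equiv.Perm (Fin n)) hσ1
      rw [e0, e1]
      rcases hu with hu | hu <;> exact ⟨hu 2, hu 3⟩
  obtain ⟨a, ea⟩ := exists_reorient hF K _ hr1.1 h
  obtain ⟨b, eb⟩ := exists_reorient hF L _ hr1.2 h'
  rw [W.V_eq u a hr1.1 ea, W.V_eq (u * W.σ) b hr1.2 eb]
  have e : W.Φ u a = W.α u * W.Φ 1 a * (W.α u)⁻¹ := by rw [← Φ_mul, mul_one]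
  rw [e, Φ_mul]
  exact (Commute.conj_iff _).2 (W.comm01 a b)

end Glue

end Cfsg.Agent.Lib.ShortPresSU
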