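import Mathlib
import Cfsg.Prelude.Def_Classical
import Cfsg.Agent.Lib.Unitary.Basic

/-!
# Short presentations of `SU_n`, part 1: coordinate planes and permutations
-/

set_option autoImplicit false
set_option linter.unusedSectionVars false

namespace Cfsg.Agent.Lib.ShortPresSU

open Matrix Cfsg.Agent.Lib.Unitary

variable {F : Type*} [Field F] [Fintype F] {q n : ℕ}

theorem mem_SU {g : Matrix.SpecialLinearGroup (Fin n) F} :
    g ∈ Cfsg.SU n F q ↔ ∀ u v, hermForm n F q (g.1 *ᵥ u) (g.1 *ᵥ v) = hermForm n F q u v := Iff.rfl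

theorem SU_coe_mul (g g' : Cfsg.SU n F q) : (g * g').1.1 = g.1.1 * g'.1.1 := rfl

theorem SU_mulVec_mul (g g' : Cfsg.SU n F q) (v : Fin n → F) :
    (g * g').1.1 *ᵥ v = g.1.1 *ᵥ (g'.1.1 *ᵥ v) := by rw [SU_coe_mul, mulVec_mulVec]

theorem SU_ext {g g' : Cfsg.SU n F q} (h : ∀ v, g.1.1 *ᵥ v = g'.1.1 *ᵥ v) : g = g' :=
  Subtype.ext (Subtype.ext (Matrix.ext_of_mulVec_single fun _ => h _))

theorem SU_one_mulVec (v : Fin n → F) : (1 : Cfsg.SU n F q).1.1 *ᵥ v = v := Matrix.one_mulVec v

/-- A two by two matrix acting on two coordinates. -/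
def pairMat (i j : Fin n) (a b c d : F) : Matrix (Fin n) (Fin n) F :=
  Matrix.of fun x y => if x = i then (if y = i then a else if y = j then b else 0)
    else if x = j then (if y = i then c else if y = j then d else 0)
    else if x = y then 1 else 0

theorem pairMat_mulVec {i j : Fin n} (hij : i ≠ j) (a b c d : F) (v : Fin n → F) (x : Fin n) :
    (pairMat i j a b c d *ᵥ v) x =
      if x = i then a * v i + b * v j else if x = j then c * v i + d * v j else v x := by
  simp only [Matrix.mulVec, dotProduct, pairMat, Matrix.of_apply]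
  split_ifs with hi hj
  · rw [Finset.sum_eq_add i j hij]
    · simp [hij.symm]
    · intro y _ hy; simp [hy.1, hy.2]
    · simp
    · simp
  · rw [Finset.sum_eq_add i j hij]
    · simp [hij.symm]
    · intro y _ hy; simp [hy.1, hy.2]
    · simp
    · simp
  · simp

theorem det_pairMat {i j : Fin n} (hij : i ≠ j) (a b c d : F) :
    (pairMat i j a b c d).det = a * d - b * c := by
  classical
  let U : Matrix (Fin n) (Fin 2) F := Matrix.of fun x k => if x = ![i, j] k then 1 else 0
  let V : Matrix (Fin 2) (Fin n) F :=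
    Matrix.of fun k y => if y = i then ![a - 1, c] k else if y = j then ![b, d - 1] k else 0
  have e : pairMat i j a b c d = 1 + U * V := by
    ext x y
    simp only [Matrix.add_apply, Matrix.one_apply, Matrix.mul_apply, Fin.sum_univ_two, U, V, pairMat,
      Matrix.of_apply, Matrix.cons_val_zero, Matrix.cons_val_one]
    by_cases hxi : x = i
    · subst hxi
      by_cases hyi : y = x
      · subst hyi; simp [hij]
      · simp [hij, Ne.symm hyi, hyi]
    by_cases hxj : x = j
    · subst hxj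
      by_cases hyj : y = x
      · subst hyj; simp [hij, hij.symm]
      · simp [hij, hij.symm, Ne.symm hyj, hyj]
    simp [hxi, hxj]
  have hVU : V * U = !![a - 1, b; c, d - 1] := by
    ext k l
    rw [Matrix.mul_apply, Finset.sum_eq_single (![i, j] l) (fun y _ hy => by simp [U, hy]) (by simp)]
    fin_cases k <;> fin_cases l <;> simp [U, V, hij.symm]
  rw [e, Matrix.det_one_add_mul_comm, hVU, Matrix.det_fin_two]
  simp

/-- The element of `SU₂` on the coordinates `i, j`. -/
def R2 (hF : Fintype.card F = q ^ 2) {i j : Fin n} (hij : i ≠ j) (α β : F)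
    (h : α * α ^ q + β * β ^ q = 1) : Cfsg.SU n F q :=
  ⟨⟨pairMat i j α β (-(β ^ q)) (α ^ q), by rw [det_pairMat hij]; linear_combination h⟩,
    mem_SU.2 fun u v => by
      classical
      show hermForm n F q (pairMat i j α β (-(β ^ q)) (α ^ q) *ᵥ u)
        (pairMat i j α β (-(β ^ q)) (α ^ q) *ᵥ v) = _
      simp only [hermForm, pairMat_mulVec hij]
      rw [← sub_eq_zero, ← Finset.sum_sub_distrib, Finset.sum_eq_add i j hij]
      · simp [hij.symm, add_pow_q hF, mul_pow, neg_pow_q hF, pow_q_q hF]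
        linear_combination (u i * v i ^ q + u j * v j ^ q) * h
      · intro y _ hy; simp [hy.1, hy.2]
      · simp
      · simp⟩

theorem R2_mulVec (hF : Fintype.card F = q ^ 2) {i j : Fin n} (hij : i ≠ j) {α β : F}
    (h : α * α ^ q + β * β ^ q = 1) (v : Fin n → F) (x : Fin n) :
    ((R2 hF hij α β h).1.1 *ᵥ v) x =
      if x = i then α * v i + β * v j else if x = j then -(β ^ q) * v i + α ^ q * v j else v x :=
  pairMat_mulVec hij _ _ _ _ v x

theorem R2_congr (hF : Fintype.card F = q ^ 2) {i j : Fin n} (hij : i ≠ j) {α β α' β' : F}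
    (h : α * α ^ q + β * β ^ q = 1) (h' : α' * α' ^ q + β' * β' ^ q = 1) (ha : α = α') (hb : β = β') :
    R2 hF hij α β h = R2 hF hij α' β' h' := by subst ha hb; rfl

theorem R2_mul_cond (hF : Fintype.card F = q ^ 2) {α β α' β' : F} (h : α * α ^ q + β * β ^ q = 1)
    (h' : α' * α' ^ q + β' * β' ^ q = 1) :
    (α * α' - β * β' ^ q) * (α * α' - β * β' ^ q) ^ q +
      (α * β' + β * α' ^ q) * (α * β' + β * α' ^ q) ^ q = 1 := by
  simp only [add_pow_q hF, sub_pow_q hF, mul_pow, pow_q_q hF]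
  linear_combination (α' * α' ^ q + β' * β' ^ q) * h + h'

theorem R2_mul (hF : Fintype.card F = q ^ 2) {i j : Fin n} (hij : i ≠ j) {α β α' β' : F}
    (h : α * α ^ q + β * β ^ q = 1) (h' : α' * α' ^ q + β' * β' ^ q = 1) :
    R2 hF hij α β h * R2 hF hij α' β' h' =
      R2 hF hij (α * α' - β * β' ^ q) (α * β' + β * α' ^ q) (R2_mul_cond hF h h') := by
  refine SU_ext fun v => funext fun x => ?_
  rw [SU_mulVec_mul]
  simp only [R2_mulVec]
  by_cases hi : x = i
  · subst hi
    simp only [if_true, if_neg hij.symm]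
    ring
  by_cases hj : x = j
  · subst hj
    simp only [if_true, if_neg hij.symm, sub_pow_q hF, add_pow_q hF, mul_pow, pow_q_q hF]
    ring
  simp [hi, hj]

theorem R2_one_cond (hF : Fintype.card F = q ^ 2) : (1 : F) * (1 : F) ^ q + (0 : F) * (0 : F) ^ q = 1 := by
  simp

theorem R2_one (hF : Fintype.card F = q ^ 2) {i j : Fin n} (hij : i ≠ j) :
    R2 hF hij 1 0 (R2_one_cond hF) = 1 := by
  refine SU_ext fun v => funext fun x => ?_
  rw [R2_mulVec, SU_one_mulVec]
  by_cases hi : x = i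
  · subst hi; simp
  by_cases hj : x = j
  · subst hj; simp [hij.symm, zero_pow_q hF]
  simp [hi, hj]

theorem R2_swap (hF : Fintype.card F = q ^ 2) {i j : Fin n} (hij : i ≠ j) {α β : F}
    (h : α * α ^ q + β * β ^ q = 1) (h' : α ^ q * (α ^ q) ^ q + -(β ^ q) * (-(β ^ q)) ^ q = 1) :
    R2 hF hij.symm α β h = R2 hF hij (α ^ q) (-(β ^ q)) h' := by
  refine SU_ext fun v => funext fun x => ?_
  simp only [R2_mulVec, neg_pow_q hF, pow_q_q hF]
  by_cases hi : x = i
  · subst hi; simp [hij]; ring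
  by_cases hj : x = j
  · subst hj; simp [hij.symm]; ring
  simp [hi, hj]

theorem swap_cond (hF : Fintype.card F = q ^ 2) {α β : F} (h : α * α ^ q + β * β ^ q = 1) :
    α ^ q * (α ^ q) ^ q + -(β ^ q) * (-(β ^ q)) ^ q = 1 := by
  rw [neg_pow_q hF, pow_q_q hF, pow_q_q hF]
  linear_combination h

/-- Two elements on disjoint planes commute. -/
theorem R2_commute (hF : Fintype.card F = q ^ 2) {i j k l : Fin n} (hij : i ≠ j) (hkl : k ≠ l)
    (hik : i ≠ k) (hil : i ≠ l) (hjk : j ≠ k) (hjl : j ≠ l) {α β α' β' : F}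
    (h : α * α ^ q + β * β ^ q = 1) (h' : α' * α' ^ q + β' * β' ^ q = 1) :
    Commute (R2 hF hij α β h) (R2 hF hkl α' β' h') := by
  refine SU_ext fun v => funext fun x => ?_
  rw [SU_mulVec_mul, SU_mulVec_mul]
  simp only [R2_mulVec]
  by_cases hi : x = i
  · subst hi; simp [hik, hil, hjk, hjl]
  by_cases hj : x = j
  · subst hj; simp [hij.symm, hik, hil, hjk, hjl]
  by_cases hk : x = k
  · subst hk; simp [hi, hj, hik.symm, hil.symm, hjk.symm, hjl.symm]
  by_cases hl : x = l
  · subst hl; simp [hi, hj, hkl.symm, hik.symm, hil.symm, hjk.symm, hjl.symm]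
  simp [hi, hj, hk, hl]

/-- The elements fixing every coordinate outside `i, j`. -/
def Plane (q : ℕ) (i j : Fin n) : Subgroup (Cfsg.SU n F q) where
  carrier := {g | ∀ k, k ≠ i → k ≠ j → g.1.1 *ᵥ Pi.single k 1 = Pi.single k 1}
  one_mem' := fun k _ _ => SU_one_mulVec _
  mul_mem' := fun {a b} ha hb k hi hj => by rw [SU_mulVec_mul, hb k hi hj, ha k hi hj]
  inv_mem' := fun {a} ha k hi hj => by
    conv_lhs => rw [← ha k hi hj, ← SU_mulVec_mul, inv_mul_cancel, SU_one_mulVec]

theorem R2_mem (hF : Fintype.card F = q ^ 2) {i j : Fin n} (hij : i ≠ j) {α β : F}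
    (h : α * α ^ q + β * β ^ q = 1) : R2 hF hij α β h ∈ Plane q i j := by
  intro k hi hj
  funext x
  rw [R2_mulVec]
  simp only [Pi.single_apply, if_neg hi.symm, if_neg hj.symm, mul_zero, add_zero]
  split_ifs with h1 h2 <;> simp_all

theorem eq_R2 (hF : Fintype.card F = q ^ 2) {i j : Fin n} (hij : i ≠ j) {g : Cfsg.SU n F q}
    (hg : g ∈ Plane q i j) :
    ∃ (α β : F) (h : α * α ^ q + β * β ^ q = 1), g = R2 hF hij α β h := by
  classical
  have hcol : ∀ k x, g.1.1 x k = (g.1.1 *ᵥ Pi.single k 1) x := fun k x => by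
    rw [Matrix.mulVec_single_one]; rfl
  have hrow : ∀ k, k ≠ i → k ≠ j → ∀ l, g.1.1 k l = if k = l then 1 else 0 := by
    intro k hi hj l
    have h1 := g.2 (Pi.single l 1) (Pi.single k 1)
    change hermForm n F q (g.1.1 *ᵥ _) (g.1.1 *ᵥ _) = _ at h1
    rw [hg k hi hj, herm_single _ hF, herm_std hF, Matrix.mulVec_single_one] at h1
    rw [show g.1.1 k l = g.1.1.col l k from rfl, h1]
    simp [eq_comm]
  have hcolz : ∀ k, k ≠ i → k ≠ j → ∀ x, g.1.1 x k = if x = k then 1 else 0 := fun k hi hj x => by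
    rw [hcol, hg k hi hj, Pi.single_apply]
  have hmat : g.1.1 = pairMat i j (g.1.1 i i) (g.1.1 i j) (g.1.1 j i) (g.1.1 j j) := by
    ext x y
    simp only [pairMat, Matrix.of_apply]
    by_cases hxi : x = i
    · subst hxi
      by_cases hy1 : y = x
      · subst hy1; simp
      by_cases hy2 : y = j
      · subst hy2; simp [hy1]
      rw [hcolz y hy1 hy2]; simp [hy1, hy2, Ne.symm hy1]
    by_cases hxj : x = j
    · subst hxj
      by_cases hy1 : y = i
      · subst hy1; simp [hxi]
      by_cases hy2 : y = x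
      · subst hy2; simp [hy1]
      rw [hcolz y hy1 hy2]; simp [hy1, hy2, hxi, Ne.symm hy2]
    rw [hrow x hxi hxj]; simp [hxi, hxj]
  obtain ⟨a, b, c, d, hm⟩ : ∃ a b c d, g.1.1 = pairMat i j a b c d := ⟨_, _, _, _, hmat⟩
  have hdet := g.1.2
  rw [hm, det_pairMat hij] at hdet
  have key := fun u v => g.2 u v
  have h11 := key (Pi.single i 1) (Pi.single i 1)
  have h12 := key (Pi.single i 1) (Pi.single j 1)
  change hermForm n F q (g.1.1 *ᵥ _) (g.1.1 *ᵥ _) = _ at h11 h12
  rw [hm, herm_std hF] at h11 h12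
  simp only [hermForm, pairMat_mulVec hij, Pi.single_apply] at h11 h12
  rw [Finset.sum_eq_add i j hij (fun y _ hy => by simp [hy.1, hy.2, zero_pow_q hF]) (by simp) (by simp)] at h11 h12
  simp [hij, hij.symm] at h11 h12
  have h21 : b * a ^ q + d * c ^ q = 0 := by
    have := congrArg (· ^ q) h12
    simp only [add_pow_q hF, mul_pow, pow_q_q hF, zero_pow_q hF] at this
    linear_combination this
  have hd : d = a ^ q := by linear_combination -d * h11 + c * h21 + a ^ q * hdet
  have hc : b = -(c ^ q) := by linear_combination -b * h11 + a * h21 - c ^ q * hdet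
  have hb : c = -(b ^ q) := by rw [hc, neg_pow_q hF, pow_q_q hF, neg_neg]
  have h : a * a ^ q + b * b ^ q = 1 := by
    rw [hc, neg_pow_q hF, pow_q_q hF]; linear_combination h11
  refine ⟨a, b, h, Subtype.ext (Subtype.ext ?_)⟩
  show g.1.1 = pairMat i j a b (-(b ^ q)) (a ^ q)
  rw [hm, ← hd, ← hb]

/-! ### Permutations -/

/-- Even permutations of the coordinates. -/
def permSU (hF : Fintype.card F = q ^ 2) : alternatingGroup (Fin n) →* Cfsg.SU n F q :=
  MonoidHom.mk' (fun σ => ⟨⟨((σ : Equiv.Perm (Fin n))⁻¹).permMatrix F, by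
      rw [Matrix.det_permutation, Equiv.Perm.sign_inv, Equiv.Perm.mem_alternatingGroup.1 σ.2]; simp⟩,
    mem_SU.2 fun u v => by
      show hermForm n F q (Matrix.mulVec _ u) (Matrix.mulVec _ v) = _
      rw [Matrix.permMatrix_mulVec, Matrix.permMatrix_mulVec]
      simp only [hermForm, Function.comp]
      exact Equiv.sum_comp ((σ : Equiv.Perm (Fin n))⁻¹) (fun k => u k * v k ^ q)⟩)
    fun σ τ => by
      refine SU_ext fun v => ?_
      rw [SU_mulVec_mul]
      show Matrix.mulVec _ v = Matrix.mulVec _ (Matrix.mulVec _ v)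
      rw [Matrix.permMatrix_mulVec, Matrix.permMatrix_mulVec, Matrix.permMatrix_mulVec, Subgroup.coe_mul,
        _root_.mul_inv_rev]
      rfl

theorem permSU_mulVec (hF : Fintype.card F = q ^ 2) (σ : alternatingGroup (Fin n)) (v : Fin n → F)
    (x : Fin n) : ((permSU hF σ).1.1 *ᵥ v) x = v ((σ : Equiv.Perm (Fin n)).symm x) := by
  show (Matrix.mulVec (((σ : Equiv.Perm (Fin n))⁻¹).permMatrix F) v) x = _
  rw [Matrix.permMatrix_mulVec]
  rfl

theorem permSU_conj_R2 (hF : Fintype.card F = q ^ 2) (σ : alternatingGroup (Fin n)) {i j i' j' : Fin n}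
    (hij : i ≠ j) (hij' : i' ≠ j') (hi : (σ : Equiv.Perm (Fin n)) i = i') (hj : (σ : Equiv.Perm (Fin n)) j = j')
    {α β : F} (h : α * α ^ q + β * β ^ q = 1) :
    permSU hF σ * R2 hF hij α β h * (permSU hF σ)⁻¹ = R2 hF hij' α β h := by
  rw [mul_inv_eq_iff_eq_mul]
  refine SU_ext fun v => funext fun x => ?_
  rw [SU_mulVec_mul, SU_mulVec_mul]
  simp only [permSU_mulVec, R2_mulVec]
  subst hi hj
  simp [Equiv.symm_apply_eq]

end Cfsg.Agent.Lib.ShortPresSU
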