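import Cfsg.Agent.Lib.ShortPresSU.AltExt
import Cfsg.Agent.Lib.ShortPresSU.BaseGen

/-!
# The presentation of `SU_n(q)` from `A_n` and `SU₄(q)`, for `q = 2, 3`
-/

set_option autoImplicit false
set_option linter.unusedSectionVars false

namespace Cfsg.Agent.Lib.ShortPresSU

open Matrix Cfsg.Agent.Lib.Unitary Cfsg.Agent.Lib.Phan
open ShortPresSLn (HasPres)

/-- The double transposition moving the first pair away from itself. -/
def σ4 : alternatingGroup (Fin 4) :=
  ⟨⟨![2, 3, 0, 1], ![2, 3, 0, 1], by decide, by decide⟩, Equiv.Perm.mem_alternatingGroup.2 (by decide)⟩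

theorem σ4_disjoint : ∀ i j : Fin 2,
    ((first (show 2 ≤ 3 by omega)).trans (first (show 3 ≤ 4 by omega))) i ≠
      (((first (show 2 ≤ 3 by omega)).trans (first (show 3 ≤ 4 by omega))).trans
        (σ4 : Equiv.Perm (Fin 4)).toEmbedding) j := by
  decide +kernel

theorem σ4_sq : σ4 * σ4 = 1 := by decide +kernel

theorem exists_window4 {n : ℕ} (hn : 4 ≤ n) (a : ℕ) (ha : a + 4 ≤ n) :
    ∃ (u : alternatingGroup (Fin n)) (π : Equiv.Perm (Fin 4)),
      (π.toEmbedding.trans (first hn)).trans (u : Equiv.Perm (Fin n)).toEmbedding = shift n 4 a ha := by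
  obtain ⟨u, hu | hu⟩ := exists_even (show 2 ≤ 4 by omega) (first hn) (shift n 4 a ha)
  · exact ⟨u, 1, DFunLike.ext _ _ hu⟩
  · exact ⟨u, Equiv.swap ⟨0, by omega⟩ ⟨1, by omega⟩, DFunLike.ext _ _ hu⟩

/-- Homs on the first pair and on the first triple sharing the same conjugation, transported to disjoint blocks. -/
theorem shift_disjoint {n k l a b : ℕ} (ha : a + k ≤ n) (hb : b + l ≤ n) (h : a + k ≤ b ∨ b + l ≤ a)
    (i : Fin k) (j : Fin l) : shift n k a ha i ≠ shift n l b hb j := fun e => by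
  have := congrArg Fin.val e
  simp only [shift_apply] at this
  omega

variable {F : Type*} [Field F] [Fintype F] {q n : ℕ}

namespace Small

variable {hF : Fintype.card F = q ^ 2} {hn : 4 ≤ n} {G : Type*} [Group G]

/-- The homomorphism on four coordinates, in terms of the triples. -/
theorem gamma_three (B : Block hF (show 2 ≤ 3 by omega) (show 3 ≤ n by omega) G) (γ : Cfsg.SU 4 F q →* G)
    (hβ : B.β = γ.comp (emb (first (show 3 ≤ 4 by omega))))
    (hext : ∀ τ, B.α (extA hn τ) = γ (permSU hF τ)) (κ : Fin 3 ↪ Fin 4) (g : Cfsg.SU 3 F q) :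
    γ (emb κ g) = B.V (κ.trans (first hn)) g := by
  obtain ⟨τ, hτ⟩ := Block.exists_mv (hF := hF) (hk := show 2 ≤ 3 by omega) (hkn := show 3 ≤ 4 by omega) κ
  obtain ⟨g', hg'⟩ := exists_reorient hF κ (mv' (show 3 ≤ 4 by omega) τ) hτ g
  have hm : mv' (show 3 ≤ n by omega) (extA hn τ) = (mv' (show 3 ≤ 4 by omega) τ).trans (first hn) :=
    mv'_extA (show 3 ≤ 4 by omega) hn τ
  have h1 : mv' (show 3 ≤ 4 by omega) τ = (first (show 3 ≤ 4 by omega)).trans (τ : Equiv.Perm (Fin 4)).toEmbedding := rfl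
  rw [B.V_eq (extA hn τ) g' (by rw [hm, range_trans hτ]) (by rw [hm, ← emb_trans, hg', emb_trans]),
    ← hg', h1, ← permSU_conj_emb hF, map_mul, map_mul, map_inv, ← hext, Block.Φ_apply, hβ, MonoidHom.comp_apply]

theorem psi_eq (W : Glue hF hn G) (B : Block hF (show 2 ≤ 3 by omega) (show 3 ≤ n by omega) G)
    (hα : B.α = W.α) (hβ : B.β = W.β) {a : ℕ} (ha : a + 3 ≤ n) (g : Cfsg.SU 3 F q) :
    W.ψ a g = B.V (shift n 3 a ha) g := by
  rw [W.ψ_apply ha, ← hα, ← hβ, ← B.V_first, B.V_emb, B.V_conj, W.u_spec]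

/-- The windows of size four. -/
theorem four (W : Glue hF hn G) (B : Block hF (show 2 ≤ 3 by omega) (show 3 ≤ n by omega) G)
    (hα : B.α = W.α) (hβ : B.β = W.β) (γ : Cfsg.SU 4 F q →* G)
    (hγ : B.β = γ.comp (emb (first (show 3 ≤ 4 by omega)))) (hext : ∀ τ, B.α (extA hn τ) = γ (permSU hF τ)) :
    W.windows.Four := by
  intro a ha
  obtain ⟨u, π, hu⟩ := exists_window4 hn a ha
  refine ⟨(MulAut.conj (B.α u)).toMonoidHom.comp (γ.comp (emb π.toEmbedding)), fun i hi g => ?_⟩
  show B.α u * γ (emb π.toEmbedding (win 4 3 i g)) * (B.α u)⁻¹ = W.ψ (a + i) g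
  rw [win_eq (show i + 3 ≤ 4 by omega), emb_trans, gamma_three B γ hγ hext, B.V_conj,
    psi_eq W B hα hβ (show a + i + 3 ≤ n by omega)]
  congr 1
  rw [show (((shift 4 3 i (by omega)).trans π.toEmbedding).trans (first hn)).trans (u : Equiv.Perm (Fin n)).toEmbedding =
      (shift 4 3 i (by omega)).trans ((π.toEmbedding.trans (first hn)).trans (u : Equiv.Perm (Fin n)).toEmbedding)
      from rfl, hu, shift_trans]

/-- A pair and a triple with no common point commute. -/
theorem comm23 (W : Glue hF hn G) (B : Block hF (show 2 ≤ 3 by omega) (show 3 ≤ n by omega) G) (hα : B.α = W.α)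
    (h5 : 5 ≤ n) (s₅ : alternatingGroup (Fin n))
    (hs : Set.range (mv' (show 3 ≤ n by omega) s₅) = Set.range (shift n 3 2 (by omega)))
    (hr : ∀ h ∈ ({W.x, diag2 hF W.hδ} : Set _), ∀ g ∈ B.T, Commute (W.Φ 1 h) (B.Φ s₅ g))
    (K : Fin 2 ↪ Fin n) (L : Fin 3 ↪ Fin n) (hd : ∀ i j, K i ≠ L j) (h : Cfsg.SU 2 F q) (g : Cfsg.SU 3 F q) :
    Commute (W.V K h) (B.V L g) := by
  let ι : Fin 5 ↪ Fin n := ⟨![K 0, K 1, L 0, L 1, L 2], fun i j e => by
    fin_cases i <;> fin_cases j <;>
      simp [K.injective.eq_iff, L.injective.eq_iff, hd, fun i j => (hd i j).symm] at e ⊢⟩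
  obtain ⟨u, hu⟩ := exists_even (show 2 ≤ 5 by omega) (first h5) ι
  have hK : Set.range (pr (show 2 ≤ n by omega) (u : Equiv.Perm (Fin n))) = Set.range K := by
    ext y
    simp only [Set.mem_range, Fin.exists_fin_two]
    rcases hu with hu | hu
    · have a : pr (show 2 ≤ n by omega) (u : Equiv.Perm (Fin n)) 0 = K 0 := hu 0
      have b : pr (show 2 ≤ n by omega) (u : Equiv.Perm (Fin n)) 1 = K 1 := hu 1
      rw [a, b]
    · have a : pr (show 2 ≤ n by omega) (u : Equiv.Perm (Fin n)) 0 = K 1 := hu 1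
      have b : pr (show 2 ≤ n by omega) (u : Equiv.Perm (Fin n)) 1 = K 0 := hu 0
      rw [a, b, or_comm]
  have hL : Set.range (mv' (show 3 ≤ n by omega) (u * s₅)) = Set.range L := by
    rw [mv'_mul, range_trans hs]
    congr 1
    funext j
    have e : shift n 3 2 (by omega) j = first h5 ⟨2 + j.val, by omega⟩ := Fin.ext rfl
    show (u : Equiv.Perm (Fin n)) (shift n 3 2 (by omega) j) = L j
    rw [e]
    rcases hu with hu | hu
    · refine (hu ⟨2 + j.val, by omega⟩).trans ?_
      fin_cases j <;> rfl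
    · have e2 : ∀ j : Fin 3, Equiv.swap (⟨0, by omega⟩ : Fin 5) ⟨1, by omega⟩ ⟨2 + j.val, by omega⟩ =
          ⟨2 + j.val, by omega⟩ := fun j => by fin_cases j <;> rfl
      have := hu ⟨2 + j.val, by omega⟩
      rw [e2] at this
      refine this.trans ?_
      fin_cases j <;> rfl
  obtain ⟨a, ea⟩ := exists_reorient hF K _ hK h
  obtain ⟨b, eb⟩ := exists_reorient hF L _ hL g
  rw [W.V_eq u a hK ea, B.V_eq (u * s₅) b hL eb]
  have e : W.Φ u a = W.α u * W.Φ 1 a * (W.α u)⁻¹ := by rw [← W.Φ_mul, mul_one]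
  rw [e, B.Φ_mul, hα]
  exact (Commute.conj_iff _).2 (commute_of_gens (W.Φ 1) (B.Φ s₅) W.gen B.gen hr a b)

/-- Two triples with no common point commute. -/
theorem comm33 (B : Block hF (show 2 ≤ 3 by omega) (show 3 ≤ n by omega) G) (h6 : 6 ≤ n)
    (s₆ : alternatingGroup (Fin n))
    (hs : Set.range (mv' (show 3 ≤ n by omega) s₆) = Set.range (shift n 3 3 (by omega)))
    (hr : ∀ h ∈ B.T, ∀ g ∈ B.T, Commute (B.Φ 1 h) (B.Φ s₆ g))
    (K L : Fin 3 ↪ Fin n) (hd : ∀ i j, K i ≠ L j) (h g : Cfsg.SU 3 F q) : Commute (B.V K h) (B.V L g) := by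
  let ι : Fin 6 ↪ Fin n := ⟨![K 0, K 1, K 2, L 0, L 1, L 2], fun i j e => by
    fin_cases i <;> fin_cases j <;>
      simp [K.injective.eq_iff, L.injective.eq_iff, hd, fun i j => (hd i j).symm] at e ⊢⟩
  obtain ⟨u, hu⟩ := exists_even (show 2 ≤ 6 by omega) (first h6) ι
  have hK : Set.range (mv' (show 3 ≤ n by omega) u) = Set.range K := by
    rcases hu with hu | hu
    · congr 1
      funext j
      refine (hu ⟨j.val, by omega⟩).trans ?_
      fin_cases j <;> rfl
    · rw [← (Equiv.swap (0 : Fin 3) 1).surjective.range_comp]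
      congr 1
      funext j
      fin_cases j <;> first | exact hu 0 | exact hu 1 | exact hu 2
  have hL : Set.range (mv' (show 3 ≤ n by omega) (u * s₆)) = Set.range L := by
    rw [mv'_mul, range_trans hs]
    congr 1
    funext j
    have e : shift n 3 3 (by omega) j = first h6 ⟨3 + j.val, by omega⟩ := Fin.ext rfl
    show (u : Equiv.Perm (Fin n)) (shift n 3 3 (by omega) j) = L j
    rw [e]
    rcases hu with hu | hu
    · refine (hu ⟨3 + j.val, by omega⟩).trans ?_
      fin_cases j <;> rfl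
    · have e2 : ∀ j : Fin 3, Equiv.swap (⟨0, by omega⟩ : Fin 6) ⟨1, by omega⟩ ⟨3 + j.val, by omega⟩ =
          ⟨3 + j.val, by omega⟩ := fun j => by fin_cases j <;> rfl
      have := hu ⟨3 + j.val, by omega⟩
      rw [e2] at this
      refine this.trans ?_
      fin_cases j <;> rfl
  obtain ⟨a, ea⟩ := exists_reorient hF K _ hK h
  obtain ⟨b, eb⟩ := exists_reorient hF L _ hL g
  rw [B.V_eq u a hK ea, B.V_eq (u * s₆) b hL eb]
  have e : B.Φ u a = B.α u * B.Φ 1 a * (B.α u)⁻¹ := by rw [← B.Φ_mul, mul_one]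
  rw [e, B.Φ_mul]
  exact (Commute.conj_iff _).2 (commute_of_gens (B.Φ 1) (B.Φ s₆) B.gen B.gen hr a b)

end Small


/-- `SU_n(q)` for `q = 2, 3` and `n ≥ 5`. -/
theorem hasPres_small (hF : Fintype.card F = q ^ 2) (hq : q = 2 ∨ q = 3) (hn5 : 5 ≤ n) {ra : ℕ}
    (hA : HasPres 2 ra (alternatingGroup (Fin n))) :
    HasPres 5 (ra + ((if q = 2 then 11 else 20) + (2 + 2 * 2 + 2 * (if n = 5 then 1 else 2) +
      (if q = 2 then (if n = 5 then 4 else 8) else 0)))) (Cfsg.SU n F q) := by
  classical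
  haveI : Finite (Cfsg.SU n F q) := inferInstance
  have hn : 4 ≤ n := by omega
  have h2 : 2 ≤ n := by omega
  have h3 : 3 ≤ n := by omega
  have h23 : (2 : ℕ) ≤ 3 := by omega
  have h34 : (3 : ℕ) ≤ 4 := by omega
  obtain ⟨x₁, x₂, rb, hT, hrb, hB⟩ := exists_base hF hq
  obtain ⟨x, δ, hδ, hxd⟩ : ∃ (x : Cfsg.SU 2 F q) (δ : F) (hδ : δ * δ ^ q = 1),
      Subgroup.closure {x, diag2 hF hδ} = ⊤ := by
    rcases hq with rfl | rfl
    · exact exists_pair_gen_two hF
    · exact exists_pair_gen_three hF (by omega)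
  obtain ⟨Z, hZlen, hZstab, hZgen⟩ := exists_stab_gens hn
  obtain ⟨Z3, hZ3len, hZ3stab, hZ3gen⟩ := exists_triple_gens hn5
  obtain ⟨a4, b4, hab4⟩ := closure_alt_four
  let c4 : alternatingGroup (Fin 4) := extA h34 rot3
  let c : alternatingGroup (Fin n) := extA hn c4
  have hc3 : c = extA h3 rot3 := by
    refine Subtype.ext (Equiv.ext fun i => ?_)
    by_cases hi : ∃ j, first h3 j = i
    · obtain ⟨j, rfl⟩ := hi
      rw [extA_in]
      exact (extA_in hn c4 (first h34 j)).trans (congrArg (first hn) (extA_in h34 rot3 j))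
    · push Not at hi
      rw [extA_out h3 _ _ hi]
      by_cases hi4 : ∃ j, first hn j = i
      · obtain ⟨j, rfl⟩ := hi4
        refine (extA_in hn c4 j).trans (congrArg (first hn) (extA_out h34 rot3 j fun j' e => hi j' ?_))
        exact congrArg (first hn) e
      · push Not at hi4
        exact extA_out hn c4 i hi4
  obtain ⟨u5, π5, hu5⟩ := exists_window h3 2 (by omega)
  have hs5 : Set.range (mv' h3 u5) = Set.range (shift n 3 2 (by omega)) := by
    rw [← hu5, Function.Embedding.coe_trans, Function.Embedding.coe_trans, Equiv.coe_toEmbedding, Equiv.coe_toEmbedding,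
      ← Function.comp_assoc, π5.surjective.range_comp]
    rfl
  obtain ⟨u6, hs6⟩ : ∃ u6 : alternatingGroup (Fin n), ∀ h6 : 6 ≤ n,
      Set.range (mv' h3 u6) = Set.range (shift n 3 3 (by omega)) := by
    by_cases h6 : 6 ≤ n
    · obtain ⟨u6, π6, hu6⟩ := exists_window h3 3 (by omega)
      refine ⟨u6, fun _ => ?_⟩
      rw [← hu6, Function.Embedding.coe_trans, Function.Embedding.coe_trans, Equiv.coe_toEmbedding, Equiv.coe_toEmbedding,
        ← Function.comp_assoc, π6.surjective.range_comp]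
      rfl
    · exact ⟨1, fun h => absurd h h6⟩
  have hre2 : ∀ (z : alternatingGroup (Fin n)) (h : Cfsg.SU 2 F q), ∃ h', z ∈ Z →
      emb (pr h2 (z : Equiv.Perm (Fin n))) h = emb (pr h2 1) h' := fun z h => by
    by_cases hz : z ∈ Z
    · obtain ⟨h', e⟩ := exists_reorient hF (pr h2 (z : Equiv.Perm (Fin n))) (pr h2 1) (hZstab z hz).symm h
      exact ⟨h', fun _ => e.symm⟩
    · exact ⟨1, fun hz' => absurd hz' hz⟩
  choose rh hrh using hre2
  have hre3 : ∀ (z : alternatingGroup (Fin n)) (g : Cfsg.SU 3 F q), ∃ g', z ∈ Z3 →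
      emb (mv' h3 z) g = emb (first h3) g' := fun z g => by
    by_cases hz : z ∈ Z3
    · obtain ⟨g', e⟩ := exists_reorient hF (mv' h3 z) (first h3) (hZ3stab z hz).symm g
      exact ⟨g', fun _ => e.symm⟩
    · exact ⟨1, fun hz' => absurd hz' hz⟩
  choose rg hrg using hre3
  let e01 : Cfsg.SU 2 F q →* Cfsg.SU 4 F q := (emb (first h34)).comp (emb (first h23))
  let e3 : Cfsg.SU 3 F q →* Cfsg.SU 4 F q := emb (first h34)
  let A0 : alternatingGroup (Fin n) →* Monoid.Coprod (alternatingGroup (Fin n)) (Cfsg.SU 4 F q) := Monoid.Coprod.inl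
  let B0 : Cfsg.SU 4 F q →* Monoid.Coprod (alternatingGroup (Fin n)) (Cfsg.SU 4 F q) := Monoid.Coprod.inr
  let rela := fun τ : alternatingGroup (Fin 4) => A0 (extA hn τ) * (B0 (permSU hF τ))⁻¹
  let relz := fun (z : alternatingGroup (Fin n)) (h : Cfsg.SU 2 F q) =>
    A0 z * B0 (e01 h) * (A0 z)⁻¹ * (B0 (e01 (rh z h)))⁻¹
  let relt := fun (z : alternatingGroup (Fin n)) (g : Cfsg.SU 3 F q) =>
    A0 z * B0 (e3 g) * (A0 z)⁻¹ * (B0 (e3 (rg z g)))⁻¹
  let rel5 := fun (h : Cfsg.SU 2 F q) (g : Cfsg.SU 3 F q) =>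
    B0 (e01 h) * (A0 u5 * B0 (e3 g) * (A0 u5)⁻¹) * (B0 (e01 h))⁻¹ * (A0 u5 * B0 (e3 g) * (A0 u5)⁻¹)⁻¹
  let rel6 := fun (h g : Cfsg.SU 3 F q) =>
    B0 (e3 h) * (A0 u6 * B0 (e3 g) * (A0 u6)⁻¹) * (B0 (e3 h))⁻¹ * (A0 u6 * B0 (e3 g) * (A0 u6)⁻¹)⁻¹
  let l5 := if q = 2 then [rel5 x x₁, rel5 x x₂, rel5 (diag2 hF hδ) x₁, rel5 (diag2 hF hδ) x₂] else []
  let l6 := if q = 2 ∧ n ≠ 5 then [rel6 x₁ x₁, rel6 x₁ x₂, rel6 x₂ x₁, rel6 x₂ x₂] else []
  let l := [rela a4, rela b4] ++ ((Z.flatMap fun z => [relz z x, relz z (diag2 hF hδ)]) ++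
    ((Z3.flatMap fun z => [relt z x₁, relt z x₂]) ++ (l5 ++ l6)))
  have hlen : l.length ≤ 2 + 2 * 2 + 2 * (if n = 5 then 1 else 2) + (if q = 2 then (if n = 5 then 4 else 8) else 0) := by
    have hZ2 : Z.length ≤ 2 := hZlen.trans (by split_ifs <;> omega)
    simp only [l, l5, l6, List.length_append, List.length_cons, List.length_nil, List.length_flatMap, List.map_const',
      List.sum_replicate, smul_eq_mul]
    split_ifs at hZ3len ⊢ <;> simp_all <;> omega
  refine (hasPres_of_coprod (a := 2) (b := 3) hA (hB.mono hrb) (permSU hF) (emb (first hn)) l ?_ ?_ ?_).mono (by omega)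
  · -- the relations hold
    have hza : ∀ τ, Monoid.Coprod.lift (permSU hF) (emb (first hn)) (rela τ) = 1 := fun τ => by
      simp only [rela, A0, B0, map_mul, map_inv, Monoid.Coprod.lift_apply_inl, Monoid.Coprod.lift_apply_inr]
      rw [mul_inv_eq_one]
      exact permSU_extA hF hn τ
    have hz : ∀ z ∈ Z, ∀ h, Monoid.Coprod.lift (permSU hF) (emb (first hn)) (relz z h) = 1 := fun z hz h => by
      simp only [relz, A0, B0, e01, map_mul, map_inv, Monoid.Coprod.lift_apply_inl, Monoid.Coprod.lift_apply_inr,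
        MonoidHom.comp_apply]
      rw [emb_trans, emb_trans, emb_trans, emb_trans, permSU_conj_emb, mul_inv_eq_one]
      exact (show emb (pr h2 (z : Equiv.Perm (Fin n))) h = emb (pr h2 1) (rh z h) from hrh z h hz)
    have ht : ∀ z ∈ Z3, ∀ g, Monoid.Coprod.lift (permSU hF) (emb (first hn)) (relt z g) = 1 := fun z hz g => by
      simp only [relt, A0, B0, e3, map_mul, map_inv, Monoid.Coprod.lift_apply_inl, Monoid.Coprod.lift_apply_inr]
      rw [emb_trans, emb_trans, permSU_conj_emb, mul_inv_eq_one]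
      exact (show emb (mv' h3 z) g = emb (first h3) (rg z g) from hrg z g hz)
    have hd5 : ∀ h g, Monoid.Coprod.lift (permSU hF) (emb (first hn)) (rel5 h g) = 1 := fun h g => by
      simp only [rel5, A0, B0, e01, e3, map_mul, map_inv, Monoid.Coprod.lift_apply_inl, Monoid.Coprod.lift_apply_inr,
        MonoidHom.comp_apply]
      rw [mul_inv_eq_one, mul_inv_eq_iff_eq_mul, emb_trans, emb_trans, emb_trans, permSU_conj_emb]
      refine emb_apply_comm _ _ (fun i j e => ?_) h g
      have hj : (mv' h3 u5) j ∈ Set.range (shift n 3 2 (by omega)) := by rw [← hs5]; exact Set.mem_range_self j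
      obtain ⟨j', hj'⟩ := hj
      have hv := congrArg Fin.val (e.trans hj'.symm)
      simp at hv
      omega
    have hd6 : 6 ≤ n → ∀ h g, Monoid.Coprod.lift (permSU hF) (emb (first hn)) (rel6 h g) = 1 := fun h6 h g => by
      simp only [rel6, A0, B0, e3, map_mul, map_inv, Monoid.Coprod.lift_apply_inl, Monoid.Coprod.lift_apply_inr]
      rw [mul_inv_eq_one, mul_inv_eq_iff_eq_mul, emb_trans, emb_trans, permSU_conj_emb]
      refine emb_apply_comm _ _ (fun i j e => ?_) h g
      have hj : (mv' h3 u6) j ∈ Set.range (shift n 3 3 (by omega)) := by rw [← hs6 h6]; exact Set.mem_range_self j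
      obtain ⟨j', hj'⟩ := hj
      have hv := congrArg Fin.val (e.trans hj'.symm)
      simp at hv
      omega
    intro w hw
    simp only [l, List.mem_append, List.mem_cons, List.mem_flatMap, List.not_mem_nil, or_false] at hw
    rcases hw with (rfl | rfl) | ⟨z, hz', rfl | rfl⟩ | ⟨z, hz', rfl | rfl⟩ | hw | hw
    · exact hza _
    · exact hza _
    · exact hz z hz' _
    · exact hz z hz' _
    · exact ht z hz' _
    · exact ht z hz' _
    · simp only [l5] at hw
      split_ifs at hw with hq2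
      · simp only [List.mem_cons, List.not_mem_nil, or_false] at hw
        rcases hw with rfl | rfl | rfl | rfl <;> exact hd5 _ _
      · simp at hw
    · simp only [l6] at hw
      split_ifs at hw with hq2
      · simp only [List.mem_cons, List.not_mem_nil, or_false] at hw
        rcases hw with rfl | rfl | rfl | rfl <;> exact hd6 (by omega) _ _
      · simp at hw
  · -- generation
    rw [eq_top_iff, ← gen_windows hF h3]
    refine iSup₂_le fun i hi => ?_
    rintro _ ⟨g, rfl⟩
    obtain ⟨u, π, he⟩ := exists_window h3 i hi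
    rw [win_eq hi, ← he, ← permSU_conj_emb hF, ← emb_trans,
      show first h3 = (first h34).trans (first hn) from DFunLike.ext _ _ fun j => Fin.ext rfl, ← emb_trans]
    exact mul_mem (mul_mem (Subgroup.mem_sup_left ⟨u, rfl⟩) (Subgroup.mem_sup_right ⟨_, rfl⟩))
      (inv_mem (Subgroup.mem_sup_left ⟨u, rfl⟩))
  intro G _ α γ hl hG
  have hl' : ∀ w ∈ l, Monoid.Coprod.lift α γ w = 1 := hl
  simp only [l, List.mem_append, List.mem_cons, List.mem_flatMap, List.not_mem_nil, or_false] at hl'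
  have hext : ∀ τ, α (extA hn τ) = γ (permSU hF τ) := by
    have hE : α.comp (extA hn) = γ.comp (permSU hF) := by
      refine MonoidHom.eq_of_eqOn_dense (s := ({a4, b4} : Set _)) hab4 ?_
      rintro τ (rfl | rfl)
      · have := hl' (rela τ) (Or.inl (Or.inl rfl))
        simpa [rela, A0, B0, mul_inv_eq_one] using this
      · have := hl' (rela τ) (Or.inl (Or.inr rfl))
        simpa [rela, A0, B0, mul_inv_eq_one] using this
    exact fun τ => DFunLike.congr_fun hE τ
  let β := γ.comp (emb (first h34))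
  have hcβ : α c = β (permSU hF rot3) := by
    show α (extA hn c4) = γ (emb (first h34) (permSU hF rot3))
    rw [hext, permSU_extA]
  let W : Glue hF hn G :=
    { α := α, β := β, x := x, δ := δ, hδ := hδ, gen := hxd, c := c
      c_in := fun j => by rw [hc3]; exact extA_in h3 rot3 j
      c_out := fun i hi => by rw [hc3]; exact extA_out h3 rot3 i hi
      hc := hcβ
      Z := {z | z ∈ Z}
      hZ := hZgen
      hrel := fun z hz h hh => by
        refine ⟨rh z h, hrh z h hz, ?_⟩
        have : Monoid.Coprod.lift α γ (relz z h) = 1 := by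
          rcases hh with rfl | rfl
          · exact hl' _ (Or.inr (Or.inl ⟨z, hz, Or.inl rfl⟩))
          · exact hl' _ (Or.inr (Or.inl ⟨z, hz, Or.inr rfl⟩))
        simpa [relz, β, A0, B0, e01, mul_inv_eq_one] using this
      σ := extA hn σ4
      σ0 := (extA_in hn σ4 0).trans rfl
      σ1 := (extA_in hn σ4 1).trans rfl
      σσ := by rw [← map_mul, σ4_sq, map_one]
      hcomm := fun h _ => by
        rw [hext, MonoidHom.comp_apply, MonoidHom.comp_apply, ← map_inv, ← map_mul, ← map_mul, emb_trans, emb_trans,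
          permSU_conj_emb]
        refine Commute.map ?_ γ
        exact emb_apply_comm _ _ σ4_disjoint x h }
  let B : Block hF (show 2 ≤ 3 by omega) h3 G :=
    { α := α, β := β, T := {x₁, x₂}, gen := hT
      Z := insert (extA h3 rot3) {z | z ∈ Z3}
      hZ := hZ3gen
      hrel := fun z hz g hg => by
        rcases hz with rfl | hz
        · refine ⟨permSU hF rot3 * g * (permSU hF rot3)⁻¹, ?_, ?_⟩
          · rw [map_mul, map_mul, map_inv, ← permSU_extA hF h3, permSU_conj_emb]; rfl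
          · rw [← hc3, hcβ, ← map_inv, ← map_mul, ← map_mul]
        · refine ⟨rg z g, hrg z g hz, ?_⟩
          have : Monoid.Coprod.lift α γ (relt z g) = 1 := by
            rcases hg with rfl | rfl
            · exact hl' _ (Or.inr (Or.inr (Or.inl ⟨z, hz, Or.inl rfl⟩)))
            · exact hl' _ (Or.inr (Or.inr (Or.inl ⟨z, hz, Or.inr rfl⟩)))
          simpa [relt, β, A0, B0, e3, mul_inv_eq_one] using this }
  have hfour : W.windows.Four := Small.four W B rfl rfl γ rfl hext
  have hcomm3 : 3 ≤ q ∨ W.windows.Comm3 := by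
    rcases hq with hq2 | hq3
    swap
    · exact Or.inl (by omega)
    right
    have hr5 : ∀ h ∈ ({W.x, diag2 hF W.hδ} : Set _), ∀ g ∈ B.T, Commute (W.Φ 1 h) (B.Φ u5 g) := by
      intro h hh g hg
      have hm : rel5 h g ∈ l5 := by
        rcases hh with rfl | rfl <;> rcases hg with rfl | rfl <;> simp [l5, hq2, W]
      have := hl' _ (Or.inr (Or.inr (Or.inr (Or.inl hm))))
      simp only [rel5, A0, B0, e01, e3, map_mul, map_inv, Monoid.Coprod.lift_apply_inl, Monoid.Coprod.lift_apply_inr,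
        MonoidHom.comp_apply, mul_inv_eq_one, mul_inv_eq_iff_eq_mul] at this
      rw [one_mul] at this
      rw [W.Φ_one, B.Φ_apply]
      exact this
    have c23 := Small.comm23 W B rfl hn5 u5 hs5 hr5
    refine ⟨?_, ?_, ?_⟩
    · intro a b i hi ha hab hb g y
      show Commute (W.ψ a (win 3 2 i g)) (W.ψ b y)
      rw [W.ψ_win ha hi, Small.psi_eq W B rfl rfl hb]
      exact c23 _ _ (shift_disjoint _ hb (Or.inl hab)) g y
    · intro a b j hj hab hb y h
      show Commute (W.ψ a y) (W.ψ b (win 3 2 j h))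
      rw [W.ψ_win hb hj, Small.psi_eq W B rfl rfl (show a + 3 ≤ n by omega)]
      exact (c23 _ _ (shift_disjoint _ _ (Or.inr hab)) h y).symm
    · intro a b hab hb y z
      show Commute (W.ψ a y) (W.ψ b z)
      have h6 : 6 ≤ n := by omega
      have hr6 : ∀ h ∈ B.T, ∀ g ∈ B.T, Commute (B.Φ 1 h) (B.Φ u6 g) := by
        intro h hh g hg
        have hm : rel6 h g ∈ l6 := by
          have : n ≠ 5 := by omega
          rcases hh with rfl | rfl <;> rcases hg with rfl | rfl <;> simp [l6, hq2, this]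
        have := hl' _ (Or.inr (Or.inr (Or.inr (Or.inr hm))))
        simp only [rel6, A0, B0, e3, map_mul, map_inv, Monoid.Coprod.lift_apply_inl, Monoid.Coprod.lift_apply_inr,
          MonoidHom.comp_apply, mul_inv_eq_one, mul_inv_eq_iff_eq_mul] at this
        rw [one_mul] at this
        rw [B.Φ_one, B.Φ_apply]
        exact this
      rw [Small.psi_eq W B rfl rfl (show a + 3 ≤ n by omega), Small.psi_eq W B rfl rfl hb]
      exact Small.comm33 (hn := hn) B h6 u6 (hs6 h6) hr6 _ _ (shift_disjoint _ hb (Or.inl hab)) y z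
  obtain ⟨f, hf, -⟩ := W.exists_surj_of_extends (W.windows.exists_hom_of_four hF h3 hfour hcomm3) (by
    rw [eq_top_iff, ← hG]
    refine sup_le le_sup_left ?_
    rintro _ ⟨y, rfl⟩
    have hy : y ∈ (α.range ⊔ β.range).comap γ := by
      rw [show (α.range ⊔ β.range).comap γ = ⊤ from ?_]
      · exact Subgroup.mem_top y
      rw [eq_top_iff, ← gen_windows hF (show 3 ≤ 4 by omega)]
      refine iSup₂_le fun i hi => ?_
      rintro _ ⟨g, rfl⟩
      obtain ⟨τ, π, he⟩ := exists_window h34 i hi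
      show γ (win 4 3 i g) ∈ α.range ⊔ β.range
      rw [win_eq hi, ← he, ← permSU_conj_emb hF, map_mul, map_mul, map_inv, ← hext, ← emb_trans]
      exact mul_mem (mul_mem (Subgroup.mem_sup_left ⟨_, rfl⟩) (Subgroup.mem_sup_right ⟨_, rfl⟩))
        (inv_mem (Subgroup.mem_sup_left ⟨_, rfl⟩))
    exact hy)
  exact ⟨f, hf⟩

end Cfsg.Agent.Lib.ShortPresSU
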