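import Cfsg.Agent.Lib.ShortPresSU.Glue
import Cfsg.Agent.Lib.Phan.Induct

/-!
# Short presentations of `SU_n`, part 5: the glued group is a quotient of `SU_n`
-/

set_option autoImplicit false
set_option linter.unusedSectionVars false

namespace Cfsg.Agent.Lib.ShortPresSU

open Matrix Cfsg.Agent.Lib.Unitary Cfsg.Agent.Lib.Phan

/-- Three-cycles on consecutive triples generate the alternating group. -/
theorem alt_eq_top {n : ℕ} (K : Subgroup (alternatingGroup (Fin n)))
    (h : ∀ a, ∀ ha : a + 3 ≤ n, ∃ t ∈ K,
      (∀ i : Fin n, i.val < a ∨ a + 3 ≤ i.val → (t : Equiv.Perm (Fin n)) i = i) ∧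
      ∀ i : Fin n, a ≤ i.val → i.val < a + 3 → (t : Equiv.Perm (Fin n)) i ≠ i) : K = ⊤ := by
  classical
  have hmain : ∀ m, m ≤ n → ∀ τ : alternatingGroup (Fin n),
      (∀ i : Fin n, m ≤ i.val → (τ : Equiv.Perm (Fin n)) i = i) → τ ∈ K := by
    intro m
    induction m with
    | zero =>
      intro _ τ hτ
      rw [show τ = 1 from Subtype.ext (Equiv.ext fun i => hτ i (Nat.zero_le _))]
      exact one_mem K
    | succ m ih =>
      intro hmn τ hτ
      have ih := ih (by omega)
      let M : Fin n := ⟨m, by omega⟩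
      set k := (τ : Equiv.Perm (Fin n)) M with hk
      by_cases hkM : k = M
      · refine ih τ fun i hi => ?_
        rcases hi.lt_or_eq with hlt | heq
        · exact hτ i hlt
        · rw [show i = M from Fin.ext heq.symm]; exact hkM
      have hkm : k.val < m := by
        rcases Nat.lt_or_ge k.val m with h' | h'
        · exact h'
        exfalso
        rcases h'.lt_or_eq with hlt | heq
        · exact hkM ((τ : Equiv.Perm (Fin n)).injective (hτ k hlt))
        · exact hkM (Fin.ext heq.symm)
      -- it is enough to find an element of `K` moving `k` to `M`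
      suffices hρ : ∃ ρ ∈ K, (∀ i : Fin n, m + 1 ≤ i.val → (ρ : Equiv.Perm (Fin n)) i = i) ∧
          (ρ : Equiv.Perm (Fin n)) k = M by
        obtain ⟨ρ, hρK, hρ1, hρ2⟩ := hρ
        have := mul_mem (inv_mem hρK) (ih (ρ * τ) fun i hi => by
          rw [Subgroup.coe_mul, Equiv.Perm.mul_apply]
          rcases hi.lt_or_eq with hlt | heq
          · rw [hτ i hlt, hρ1 i hlt]
          · rw [show i = M from Fin.ext heq.symm, ← hk, hρ2])
        rwa [inv_mul_cancel_left] at this
      rcases Nat.lt_or_ge m 2 with hm | hm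
      · -- there is no even permutation of two points
        exfalso
        have hm1 : m = 1 := by omega
        subst hm1
        have hτM : (τ : Equiv.Perm (Fin n)) k = M := by
          rcases Nat.lt_or_ge ((τ : Equiv.Perm (Fin n)) k).val 2 with h2 | h2
          · refine Fin.ext ?_
            by_contra hne
            have : (τ : Equiv.Perm (Fin n)) k = k := Fin.ext (by simp only [M] at hne; omega)
            exact hkM ((τ : Equiv.Perm (Fin n)).injective this)
          · have := (τ : Equiv.Perm (Fin n)).injective (hτ _ h2)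
            omega
        have : (τ : Equiv.Perm (Fin n)) = Equiv.swap k M := Equiv.ext fun i => by
          by_cases hi1 : i = k
          · rw [hi1, Equiv.swap_apply_left, hτM]
          by_cases hi2 : i = M
          · rw [hi2, Equiv.swap_apply_right]
          rw [Equiv.swap_apply_of_ne_of_ne hi1 hi2, hτ i]
          by_contra hlt
          have hv : i.val = 0 ∨ i.val = 1 := by omega
          rcases hv with h0 | h0
          · exact hi1 (Fin.ext (by omega))
          · exact hi2 (Fin.ext (by simp [M, h0]))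
        have hs := Equiv.Perm.mem_alternatingGroup.1 τ.2
        rw [this, Equiv.Perm.sign_swap hkM] at hs
        simp at hs
      obtain ⟨t, htK, ht0, ht1⟩ := h (m - 2) (by omega)
      have htsupp : ∀ i : Fin n, m + 1 ≤ i.val → (t : Equiv.Perm (Fin n)) i = i :=
        fun i hi => ht0 i (Or.inr (by omega))
      -- the point sent to `M`
      obtain ⟨j, hj⟩ := (t : Equiv.Perm (Fin n)).surjective M
      have hjm : m - 2 ≤ j.val ∧ j.val < m := by
        have hne : j ≠ M := fun e => ht1 M (by simp [M]; ) (by simp [M]; omega) (by rw [← e]; exact hj.trans e.symm)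
        refine ⟨?_, ?_⟩
        · by_contra hlt
          exact hne ((ht0 j (Or.inl (by omega))).symm.trans hj)
        · by_contra hlt
          rcases Nat.lt_or_ge m j.val with h' | h'
          · exact hne ((htsupp j h').symm.trans hj)
          · exact hne (Fin.ext (by simp [M]; omega))
      by_cases hk2 : m - 2 ≤ k.val
      · by_cases hkj : k = j
        · exact ⟨t, htK, htsupp, hkj ▸ hj⟩
        · have htk : (t : Equiv.Perm (Fin n)) k = j := by
            have h1 := ht1 k hk2 (by omega)
            have hin : m - 2 ≤ ((t : Equiv.Perm (Fin n)) k).val ∧ ((t : Equiv.Perm (Fin n)) k).val < m + 1 := by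
              constructor
              · by_contra hlt
                have := (t : Equiv.Perm (Fin n)).injective (ht0 ((t : Equiv.Perm (Fin n)) k) (Or.inl (by omega)))
                rw [this] at hlt; omega
              · by_contra hlt
                have := (t : Equiv.Perm (Fin n)).injective (htsupp ((t : Equiv.Perm (Fin n)) k) (by omega))
                rw [this] at hlt; omega
            have hne : (t : Equiv.Perm (Fin n)) k ≠ M := fun e => hkj ((t : Equiv.Perm (Fin n)).injective (e.trans hj.symm))
            have h1' : ((t : Equiv.Perm (Fin n)) k).val ≠ k.val := fun e => h1 (Fin.ext e)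
            have h2' : ((t : Equiv.Perm (Fin n)) k).val ≠ m := fun e => hne (Fin.ext e)
            have h3' : k.val ≠ j.val := fun e => hkj (Fin.ext e)
            exact Fin.ext (by omega)
          refine ⟨t * t, mul_mem htK htK, fun i hi => ?_, ?_⟩
          · rw [Subgroup.coe_mul, Equiv.Perm.mul_apply, htsupp i hi, htsupp i hi]
          · rw [Subgroup.coe_mul, Equiv.Perm.mul_apply, htk, hj]
      · obtain ⟨j', hj', hjj'⟩ : ∃ j' : Fin n, (m - 2 ≤ j'.val ∧ j'.val < m) ∧ j' ≠ j := by
          rcases Nat.lt_or_ge j.val (m - 1) with h' | h'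
          · exact ⟨⟨m - 1, by omega⟩, ⟨by simp; omega, by simp; omega⟩, fun e => by simp [← e] at h'⟩
          · exact ⟨⟨m - 2, by omega⟩, ⟨by simp, by simp; omega⟩, fun e => by simp [← e] at h'; omega⟩
        have hkj : k ≠ j := fun e => hk2 (e ▸ hjm.1)
        have hkj' : k ≠ j' := fun e => hk2 (e ▸ hj'.1)
        let σ : alternatingGroup (Fin n) := ⟨Equiv.swap k j * Equiv.swap j j',
          Equiv.Perm.mem_alternatingGroup.2 (by
            rw [map_mul, Equiv.Perm.sign_swap hkj, Equiv.Perm.sign_swap hjj'.symm]; rfl)⟩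
        have hσ : ∀ i : Fin n, m ≤ i.val → (σ : Equiv.Perm (Fin n)) i = i := fun i hi => by
          have hne : ∀ x : Fin n, x.val < m → i ≠ x := fun x hx e => by rw [e] at hi; omega
          show Equiv.swap k j (Equiv.swap j j' i) = i
          rw [Equiv.swap_apply_of_ne_of_ne (hne j hjm.2) (hne j' hj'.2),
            Equiv.swap_apply_of_ne_of_ne (hne k hkm) (hne j hjm.2)]
        refine ⟨t * σ, mul_mem htK (ih σ hσ), fun i hi => ?_, ?_⟩
        · rw [Subgroup.coe_mul, Equiv.Perm.mul_apply, hσ i (by omega), htsupp i hi]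
        · rw [Subgroup.coe_mul, Equiv.Perm.mul_apply]
          show (t : Equiv.Perm (Fin n)) (Equiv.swap k j (Equiv.swap j j' k)) = M
          rw [Equiv.swap_apply_of_ne_of_ne hkj hkj', Equiv.swap_apply_left, hj]
  exact eq_top_iff.2 fun τ _ => hmain n le_rfl τ fun i hi => absurd i.isLt (by omega)

variable {F : Type*} [Field F] [Fintype F] {q n : ℕ}

/-- The renumbering of a triple needed for parity. -/
theorem exists_window {n : ℕ} (hn : 3 ≤ n) (a : ℕ) (ha : a + 3 ≤ n) :
    ∃ (u : alternatingGroup (Fin n)) (π : Equiv.Perm (Fin 3)),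
      (π.toEmbedding.trans (first hn)).trans (u : Equiv.Perm (Fin n)).toEmbedding = shift n 3 a ha := by
  obtain ⟨u, hu | hu⟩ := exists_even (show 2 ≤ 3 by omega) (first hn) (shift n 3 a ha)
  · exact ⟨u, 1, DFunLike.ext _ _ hu⟩
  · exact ⟨u, Equiv.swap ⟨0, by omega⟩ ⟨1, by omega⟩, DFunLike.ext _ _ hu⟩

namespace Glue

variable {hF : Fintype.card F = q ^ 2} {hn : 4 ≤ n} {G : Type*} [Group G] (W : Glue hF hn G)

/-- The even permutation of a window. -/
noncomputable def u (_W : Glue hF hn G) (a : ℕ) (ha : a + 3 ≤ n) : alternatingGroup (Fin n) :=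
  (exists_window (show 3 ≤ n by omega) a ha).choose

/-- The renumbering of a window. -/
noncomputable def π (_W : Glue hF hn G) (a : ℕ) (ha : a + 3 ≤ n) : Equiv.Perm (Fin 3) :=
  (exists_window (show 3 ≤ n by omega) a ha).choose_spec.choose

theorem u_spec (a : ℕ) (ha : a + 3 ≤ n) :
    ((W.π a ha).toEmbedding.trans (first (show 3 ≤ n by omega))).trans (W.u a ha : Equiv.Perm (Fin n)).toEmbedding =
      shift n 3 a ha :=
  (exists_window (show 3 ≤ n by omega) a ha).choose_spec.choose_spec

/-- The window homomorphisms. -/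
noncomputable def ψ (a : ℕ) : Cfsg.SU 3 F q →* G :=
  if ha : a + 3 ≤ n then (MulAut.conj (W.α (W.u a ha))).toMonoidHom.comp (W.β.comp (emb (W.π a ha).toEmbedding)) else 1

theorem ψ_apply {a : ℕ} (ha : a + 3 ≤ n) (g : Cfsg.SU 3 F q) :
    W.ψ a g = W.α (W.u a ha) * W.β (emb (W.π a ha).toEmbedding g) * (W.α (W.u a ha))⁻¹ := by
  rw [ψ, dif_pos ha]; rfl

theorem ψ_win {a i : ℕ} (ha : a + 3 ≤ n) (hi : i ≤ 1) (g : Cfsg.SU 2 F q) :
    W.ψ a (win 3 2 i g) = W.V (shift n 2 (a + i) (by omega)) g := by
  rw [W.ψ_apply ha, win_eq (show i + 2 ≤ 3 by omega), emb_trans, W.V_triple]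
  congr 1
  rw [show (((shift 3 2 i (by omega)).trans (W.π a ha).toEmbedding).trans (first (show 3 ≤ n by omega))).trans
      (W.u a ha : Equiv.Perm (Fin n)).toEmbedding = (shift 3 2 i (by omega)).trans
        (((W.π a ha).toEmbedding.trans (first (show 3 ≤ n by omega))).trans (W.u a ha : Equiv.Perm (Fin n)).toEmbedding)
      from rfl, W.u_spec, shift_trans]

/-- The windows. -/
noncomputable def windows : Windows q F n G where
  ψ := W.ψ
  agree a ha g := by
    rw [W.ψ_win (by omega) le_rfl, W.ψ_win (by omega) (by omega)]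
  comm a b i j hi hj ha hb hab g h := by
    rw [W.ψ_win ha hi, W.ψ_win hb hj]
    refine W.V_comm _ _ (fun x y e => ?_) g h
    have := congrArg Fin.val e
    simp only [shift_apply] at this
    omega

/-- The cycle of the window. -/
theorem ψ_cycle (a : ℕ) (ha : a + 3 ≤ n) :
    W.α (W.u a ha * W.c * (W.u a ha)⁻¹) ∈ (W.ψ a).range := by
  refine ⟨emb (W.π a ha).symm.toEmbedding (permSU hF rot3), ?_⟩
  rw [W.ψ_apply ha, emb_trans, show (W.π a ha).symm.toEmbedding.trans (W.π a ha).toEmbedding =
      shift 3 3 0 (by omega) from DFunLike.ext _ _ fun j => by simp [Fin.ext_iff],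
    ← win_eq (show 0 + 3 ≤ 3 by omega), win_self, ← W.hc, map_mul, map_mul, map_inv]

/-- The glued group is a quotient of `SU_n`, compatibly with every model. -/
theorem exists_surj_of_extends (hext : ∃ f, W.windows.Extends f) (hG : W.α.range ⊔ W.β.range = ⊤) :
    ∃ f : Cfsg.SU n F q →* G, Function.Surjective f ∧
      ∀ μ : G →* Cfsg.SU n F q, μ.comp W.α = permSU hF →
        μ.comp W.β = emb (first (show 3 ≤ n by omega)) → μ.comp f = MonoidHom.id _ := by
  obtain ⟨f, hf⟩ := hext
  refine ⟨f, ?_, fun μ hμα hμβ => Windows.eq_of_windows hF (show 3 ≤ n by omega) fun a ha g => ?_⟩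
  · have hψ : ∀ a, a + 3 ≤ n → (W.ψ a).range ≤ f.range := fun a ha => by
      rintro _ ⟨g, rfl⟩
      exact ⟨win n 3 a g, hf a ha g⟩
    have hK : Subgroup.comap W.α f.range = ⊤ := by
      refine alt_eq_top _ fun a ha => ⟨W.u a ha * W.c * (W.u a ha)⁻¹, hψ a ha (W.ψ_cycle a ha), ?_, ?_⟩
      all_goals
        intro i
        have hs := fun j => DFunLike.congr_fun (W.u_spec a ha) j
        simp only [Function.Embedding.trans_apply, Equiv.coe_toEmbedding] at hs
        simp only [Subgroup.coe_mul, Subgroup.coe_inv, Equiv.Perm.mul_apply]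
      · intro hi
        rw [W.c_out, Equiv.Perm.coe_inv, Equiv.apply_symm_apply]
        intro j e
        rw [Equiv.Perm.coe_inv, Equiv.eq_symm_apply] at e
        obtain ⟨k, rfl⟩ := (W.π a ha).surjective j
        rw [hs] at e
        rw [← e] at hi
        simp only [shift_apply] at hi
        omega
      · intro h1 h2 e
        obtain ⟨k, rfl⟩ : ∃ k : Fin 3, shift n 3 a ha k = i :=
          ⟨⟨i.val - a, by omega⟩, Fin.ext (by simp; omega)⟩
        rw [← hs, Equiv.Perm.coe_inv, Equiv.symm_apply_apply, W.c_in] at e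
        have e' := (first (show 3 ≤ n by omega)).injective ((W.u a ha : Equiv.Perm (Fin n)).injective e)
        have hne : ∀ j : Fin 3, finRotate 3 j ≠ j := by decide
        exact hne _ e'
    have hα : W.α.range ≤ f.range := by
      rintro _ ⟨τ, rfl⟩
      exact (hK.ge (Subgroup.mem_top τ) : τ ∈ _)
    rw [← MonoidHom.range_eq_top, eq_top_iff, ← hG]
    refine sup_le hα ?_
    rintro _ ⟨g, rfl⟩
    have ha : 0 + 3 ≤ n := by omega
    have := hψ 0 ha ⟨emb (W.π 0 ha).symm.toEmbedding g, W.ψ_apply ha _⟩
    rw [emb_trans, show (W.π 0 ha).symm.toEmbedding.trans (W.π 0 ha).toEmbedding =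
      shift 3 3 0 (by omega) from DFunLike.ext _ _ fun j => by simp [Fin.ext_iff],
      ← win_eq (show 0 + 3 ≤ 3 by omega), win_self] at this
    have hu := hα ⟨W.u 0 ha, rfl⟩
    have := mul_mem (mul_mem (inv_mem hu) this) hu
    simpa [mul_assoc] using this
  · rw [MonoidHom.comp_apply, hf a ha]
    show μ (W.ψ a g) = win n 3 a g
    rw [W.ψ_apply ha, map_mul, map_mul, map_inv, ← MonoidHom.comp_apply μ W.α, hμα,
      ← MonoidHom.comp_apply μ W.β, hμβ, permSU_conj_emb, emb_trans, win_eq ha, ← W.u_spec a ha]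
    rfl

/-- The glued group is a quotient of `SU_n` for `q ≥ 4`. -/
theorem exists_surj (hq : 4 ≤ q) (hG : W.α.range ⊔ W.β.range = ⊤) :
    ∃ f : Cfsg.SU n F q →* G, Function.Surjective f ∧
      ∀ μ : G →* Cfsg.SU n F q, μ.comp W.α = permSU hF →
        μ.comp W.β = emb (first (show 3 ≤ n by omega)) → μ.comp f = MonoidHom.id _ :=
  W.exists_surj_of_extends (W.windows.exists_hom hF (by omega) hq) hG

end Glue

end Cfsg.Agent.Lib.ShortPresSU
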